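import Cfsg.Agent.H41.C2Y
import Cfsg.Agent.H19.LXT

/-! Views: `C(z)` is the model `Y`.  Word identities in the model and the two remaining slots of the
construction of the second Conway group (blueprint `blueprints/CO2.md`). -/

set_option autoImplicit false
set_option Elab.async false
set_option maxRecDepth 100000

namespace H41.C2

open Cfsg H49 H71 H78 H1.LX

universe u

/-- `Φ` identifies the model with `C(z)` -/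
structure View {G : Type*} [Group G] (z : G) (Φ : Y →* G) : Prop where
  inj : Function.Injective Φ
  rng : ∀ g, g * z = z * g ↔ ∃ y, Φ y = g
  hz : Φ (m 9) = z
  tc : ∀ y, (Cj z (Φ y) ∧ TyC z (Φ y)) ↔ Cj (m 0) y
  tu : ∀ y, (Cj z (Φ y) ∧ TyU z (Φ y)) ↔ Cj mU y
  nq : ∀ y, (Φ y ∈ O2C z ∧ Φ y * Φ y = 1 ∧ Φ y ∉ Subgroup.zpowers z) ↔ Cj mN y
  ac : TyU (Φ (m 0)) (Φ (m 2))
  n3 : ∀ d, Nb z d → ¬ Cj z (z * d)

/-- slot V: views exist -/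
def JobV : Prop := ∀ (G : Type u) [Group G] [Finite G] (z : G), H19.LX.Ctx z 4 →
  (∃ t, Cj z t ∧ TyC z t) → ∃ Φ : Y →* G, View z Φ

/-- slot P4: the subgroup `Co₂` -/
def JobP4 : Prop := JobV.{u} → JobMA → JobMB → JobMC →
  ∀ (G : Type u) [Group G] [Finite G] (z : G), H19.LX.Ctx z 4 → (∃ t, Cj z t ∧ TyC z t) →
    ∃ (a : G) (M : Subgroup G), EndH z a M ∧ Spor.IsoCo2 M

/-- words that carry the pair `(a, c)` to the pairs `(f, l)` -/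
def wP : List (ℕ × List ℕ) := [(0, [4, 5, 3, 4, 2, 3, 1, 2, 0, 1]),
  (1, [4, 5, 3, 4, 0, 1, 2, 3, 1, 2, 0, 1]), (2, [4, 5, 1, 2, 3, 4, 0, 1, 2, 3, 1, 2, 0, 1]),
  (3, [2, 3, 4, 5, 1, 2, 3, 4, 0, 1, 2, 3, 1, 2, 0, 1]), (4, [4, 5, 3, 4, 2, 3, 6, 1, 2, 3, 0, 1]),
  (6, [3, 6, 2, 3, 4, 5, 1, 2, 3, 4, 0, 1, 2, 3, 1, 2, 0, 1]),
  (7, [2, 7, 3, 2, 2, 3, 4, 5, 1, 2, 3, 4, 0, 1, 2, 3, 1, 2, 0, 1])]

theorem wP_ok : ∀ p ∈ wP, wd gY p.2 * m 0 * (wd gY p.2)⁻¹ = m 5 ∧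
    wd gY p.2 * m 2 * (wd gY p.2)⁻¹ = mB p.1 := by decide +kernel

theorem pairs : ∀ l ∈ [0, 1, 2, 3, 4, 6, 7], ∃ k : Y, k * m 0 * k⁻¹ = m 5 ∧ k * m 2 * k⁻¹ = mB l :=
  fun l hl => by
    obtain ⟨p, hp, rfl⟩ := (by decide : ∀ l ∈ [0, 1, 2, 3, 4, 6, 7], ∃ p ∈ wP, p.1 = l) l hl
    exact ⟨_, wP_ok p hp⟩

theorem mB_comm : ∀ l ∈ S9, mB l * m 5 = m 5 * mB l := by decide +kernel

theorem m9_comm (y : Y) : y * m 9 = m 9 * y := by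
  have h : gen m S9 ≤ cen (m 9) := gen_le fun l hl => Subgroup.mem_centralizer_singleton_iff.2
    ((by decide +kernel : ∀ l ∈ S9, m l * m 9 = m 9 * m l) l hl)
  exact Subgroup.mem_centralizer_singleton_iff.1 (h (m_top ▸ Subgroup.mem_top y))

/-- `(b f u g c e)⁶` -/
noncomputable def mω : Y := wd gY (H71.pw [1, 5, 7, 6, 2, 4] 6)

theorem mω_ok : ∀ p ∈ [(1, 5), (5, 1), (2, 4), (4, 2), (3, 3), (6, 6), (7, 7)],
    mω * m p.1 * mω⁻¹ = m p.2 := by decide +kernel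

/-- `p = b f x` -/
noncomputable def mp : Y := m 1 * m 5 * mB 4

theorem mp_sq : mp * mp = 1 := by decide +kernel

/-- with `k = p e p`: `(u k c u b c) k (u k c u b c)⁻¹ = d c b c d` -/
theorem mk_ok : m 7 * (mp * m 4 * mp) * m 2 * m 7 * m 1 * m 2 * (mp * m 4 * mp) *
    (m 7 * (mp * m 4 * mp) * m 2 * m 7 * m 1 * m 2)⁻¹ = m 3 * m 2 * m 1 * m 2 * m 3 := by
  decide +kernel

theorem τ_ne : τ 3 * τ 2 * τ 1 * τ 2 * τ 3 * τ 8 ≠ τ 8 * (τ 3 * τ 2 * τ 1 * τ 2 * τ 3) := by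
  decide +kernel

theorem τ8 : Cj (m 0) (τ 8) := ⟨wd gY [6, 7, 4, 0, 7, 3, 2, 1], by decide +kernel⟩

/-- a word in `b c u e f g` that carries `d, c, g` to `d, c, e` or `d, e, c` -/
def wS : List ℕ := [1, 2, 7, 6, 4, 5, 7, 4, 2, 7, 6, 1, 2, 7, 4]

theorem wS_ok : wd gY wS * m 3 * (wd gY wS)⁻¹ = m 3 ∧
    wd gY wS * (m 2 * m 6) * (wd gY wS)⁻¹ = m 2 * m 4 := by decide +kernel

theorem RA_split : ∀ r ∈ RA, 8 ∉ r ∨ 4 ∉ r ∨ r = [4, 8, 4, 8] ∨ r = H71.pw [4, 6, 8, 3] 6 ∨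
    r = H71.pw [2, 4, 8, 3] 6 := by decide +kernel

theorem RA_sub : ∀ r ∈ RA, ∀ l ∈ r, l ∈ S10 := by decide +kernel

theorem mU_comm : mU * m 0 = m 0 * mU := by decide +kernel

end H41.C2
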