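/- S1308, tower CB: job Pl2. -/
import Cfsg.Agent.H14.CBSpec
import Cfsg.Agent.H46.Prod

set_option autoImplicit false

namespace H41.CbPl2

open Cfsg Subgroup MulAction H14 H98 H1.Gold H31.S2 H14.GC H14.FE H14.NF H14.CB
open scoped commutatorElement

universe u

section

variable {G : Type u} [Group G] {A B Q E Qa Ea Qb Eb : Subgroup G}

theorem csym (h : A ≤ cen B) : B ≤ cen A := le_centralizer_iff.1 h

theorem el_inv (h : El A) {a : G} (ha : a ∈ A) : a⁻¹ = a := inv_eq_of_mul_eq_one_right (h a ha)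

theorem el_cen (h : El A) : A ≤ cen A := fun a ha => mem_centralizer_iff.2 fun c hc => by
  rw [← el_inv h (mul_mem hc ha), mul_inv_rev, el_inv h ha, el_inv h hc]

theorem dec (h : B ≤ cen A) {x : G} (hx : x ∈ A ⊔ B) : ∃ a ∈ A, ∃ b ∈ B, x = a * b :=
  (H46.mem_sup_of_nrm' ((csym h).trans (centralizer_le_normalizer _))).1 hx

theorem el_sup (hA : El A) (hB : El B) (h : B ≤ cen A) : El (A ⊔ B) := fun x hx => by
  obtain ⟨a, ha, b, hb, rfl⟩ := dec h hx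
  have c : a * b = b * a := mem_centralizer_iff.1 (h hb) a ha
  calc a * b * (a * b) = a * (b * a) * b := by group
    _ = (a * a) * (b * b) := by rw [← c]; group
    _ = 1 := by rw [hA a ha, hB b hb, one_mul]

theorem el_two (h : El A) : IsPGroup 2 A := fun a =>
  ⟨1, Subtype.ext (by rw [pow_one, pow_two]; exact h a a.2)⟩

theorem pt_le (tg : TG Q E) (h : Pt Q E Qa Ea) : Ea ≤ Qa := by
  obtain ⟨g, rfl, rfl⟩ := h
  exact cj_mono g tg.le

theorem pt_el (tg : TG Q E) (h : Pt Q E Qa Ea) : El Ea := by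
  obtain ⟨g, rfl, rfl⟩ := h
  intro a ha
  have := tg.el _ (mem_cj.1 ha)
  calc a * a = g * (g⁻¹ * a * g * (g⁻¹ * a * g)) * g⁻¹ := by group
    _ = 1 := by rw [this]; group

theorem pt_card (h : Pt Q E Qa Ea) : Nat.card Ea = Nat.card E := by
  obtain ⟨g, rfl, rfl⟩ := h
  exact card_cj g E

theorem pt_nor (tg : TG Q E) (h : Pt Q E Qa Ea) : cen Ea ≤ nor Qa := by
  have el := pt_el tg h
  obtain ⟨g, rfl, rfl⟩ := h
  obtain ⟨s, hs, -, -, h1, -⟩ := tg.four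
  have m : g * s * g⁻¹ ∈ cj g E := mem_cj.2 (by simpa [mul_assoc] using hs)
  refine le_trans (centralizer_le ?_) (tg.cen_le g _ (cj_mono g tg.le m)
    ⟨fun e => h1.1 (by simpa using e), el _ m⟩)
  exact Set.singleton_subset_iff.2 m

theorem pt_ti (tg : TG Q E) (h : Pt Q E Qa Ea) (h' : Pt Q E Qb Eb) (ne : Qa ≠ Qb) :
    Ea ⊓ Eb = ⊥ := eq_bot_iff.2 fun d hd => by
  have el := pt_el tg h d hd.1
  have l1 := pt_le tg h hd.1
  have l2 := pt_le tg h' hd.2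
  obtain ⟨g, rfl, rfl⟩ := h
  obtain ⟨k, rfl, rfl⟩ := h'
  by_contra c
  exact tg.ti g k ne d ⟨l1, l2⟩ ⟨c, el⟩

theorem card_of (h : B ≤ cen A) (d : A ⊓ B = ⊥) : Nat.card B = A.relIndex (A ⊔ B) := by
  rw [H46.relIndex_sup_of_nrm (h.trans (centralizer_le_normalizer _)),
    ← H46.card_inf_mul_relIndex A B, d, card_bot, one_mul]

theorem cne {a b : G} (hb : b ∈ cen A) (ha : a ∈ A) : ⁅a, b⁆ = 1 :=
  commutatorElement_eq_one_iff_mul_comm.2 (mem_centralizer_iff.1 hb a ha)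

end

theorem jobX : H14.CB.JPl2.{u} := by
  intro perp G _ _ Q E tg fu Q₁ T P Q₃ T₃ P' ln pp
  have p1 := ln.col.p2
  have p3 := pp.col.p2
  have eT := pt_el tg p1
  have eT₃ := pt_el tg p3
  have eV : El (T ⊔ T₃) := el_sup eT eT₃ pp.cT
  have VE : T ⊔ T₃ ≤ cen E := sup_le ln.col.comm pp.col.comm
  have eY : El (E ⊔ (T ⊔ T₃)) := el_sup tg.el eV VE
  have cY := el_cen eY
  have TY : T ≤ E ⊔ (T ⊔ T₃) := le_sup_left.trans le_sup_right
  have T₃Y : T₃ ≤ E ⊔ (T ⊔ T₃) := le_sup_right.trans le_sup_right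
  have PE : P ≤ cen E := ln.pg.le.trans inf_le_right
  have P'T : P' ≤ cen T := pp.pg.le.trans inf_le_right
  obtain ⟨u, uP, uT⟩ := SetLike.not_le_iff_exists.1 pp.pg.lt.not_ge
  obtain ⟨x, xP, xE⟩ := SetLike.not_le_iff_exists.1 ln.pg.lt.not_ge
  have VP' : P' ≤ cen (T ⊔ T₃) := csym (sup_le (csym P'T) (csym pp.cP))
  have dj : ∀ r ∈ T ⊔ T₃, r ∈ E → r = 1 := fun r h1 h2 => by
    by_contra c
    exact pp.pg.nd u uP uT r h2 c (cne (VP' uP) h1)
  have l3 : T₃ ≤ T ⊔ (T ⊔ T₃) ⊓ cen P := fun a ha => by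
    obtain ⟨t, ht, h⟩ := pp.as a ha
    have := mul_mem (mem_sup_left (T := (T ⊔ T₃) ⊓ cen P) (inv_mem ht)) (mem_sup_right (S := T)
      (mem_inf.2 ⟨mul_mem (mem_sup_left ht) (mem_sup_right ha), h⟩))
    simpa using this
  have VT : T ⊔ T₃ ≤ cen T := sup_le (el_cen eT) pp.cT
  refine ⟨(T ⊔ T₃) ⊓ cen P, inf_le_left, l3, inf_le_right, inf_le_left.trans VT,
    fun a ha => eV a ha.1, eq_bot_iff.2 fun r hr => dj r hr.1.1 hr.2, ?_, fun r hr r1 z hz => ?_⟩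
  · rw [card_of (inf_le_left.trans VT) (eq_bot_iff.2 fun t ht => ?_), ← pt_card p3,
      card_of pp.cT (pt_ti tg p1 p3 pp.ne.symm)]
    · congr 1
      exact le_antisymm (sup_le le_sup_left inf_le_left) (sup_le le_sup_left l3)
    · by_contra c
      exact ln.pg.nd x xP xE t ht.1 c (cne (csym (inf_le_right) xP) ht.2)
  by_cases z1 : z = 1
  · exact ⟨1, one_mem _, one_mem _, by simp [z1], fun s _ => by simp⟩
  obtain ⟨t, ht, a, ha, e⟩ := dec pp.cT hz.1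
  obtain ⟨P₃, pg, -, cm, fu3⟩ := fu _ _ _ _ (tg.sym _ _ _ _ pp.col) (E ⊔ (T ⊔ T₃))
    (cY.trans (centralizer_le T₃Y)) (el_two eY) fun s hs y hy => by
      rw [cne (cY hy) (mem_sup_left hs)]; exact one_mem _
  have P₃T : P₃ ≤ cen T := perp G Q E tg Q₃ T₃ Q₁ T P₃ p3 p1 pp.ne (csym pp.cT) pg.le pg.two
    (fun s hs => cm s (TY hs)) (.inr ⟨u, pp.pg.le uP, uT, isPGroup_iff_forall.1 pp.pg.two u uP,
      pt_nor tg p3 (pp.cP uP)⟩)
  have VP₃ : P₃ ≤ cen (T ⊔ T₃) := csym (sup_le (csym P₃T) (csym (pg.le.trans inf_le_right)))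
  obtain ⟨y₃, hy₃, e₃⟩ := fu3 r hr r1 a ha
  obtain ⟨y, hy, e₁⟩ := pp.fu r hr r1 t ht
  have mV : y * y₃ ∈ cen (T ⊔ T₃) := mul_mem (VP' hy) (VP₃ hy₃)
  have f : ∀ s ∈ E, ⁅s, y * y₃⁆ = ⁅s, y⁆ * ⁅s, y₃⁆ := fun s hs => by
    have := mem_centralizer_iff.1 (pp.cP hy) _ (pg.cm s hs y₃ hy₃)
    calc ⁅s, y * y₃⁆ = ⁅s, y⁆ * (y * ⁅s, y₃⁆) * y⁻¹ := by
          simp only [commutatorElement_def]; group
      _ = _ := by rw [← this]; group
  have fV : ∀ s ∈ E, ⁅s, y * y₃⁆ ∈ T ⊔ T₃ := fun s hs => by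
    rw [f s hs]
    exact mul_mem (mem_sup_left (pp.pg.cm s hs y hy)) (mem_sup_right (pg.cm s hs y₃ hy₃))
  have fr : ⁅r, y * y₃⁆ = z := by rw [f r hr, e₁, e₃, e]
  generalize y * y₃ = m at mV fV fr
  have g : ∀ s ∈ E, m * s * m⁻¹ = s * ⁅s, m⁆ := fun s hs => by
    rw [commutatorElement_def, el_inv tg.el hs]
    calc m * s * m⁻¹ = (s * s) * (m * s * m⁻¹) := by rw [tg.el s hs, one_mul]
      _ = _ := by group
  have mv : m * r * m⁻¹ = r * z := by rw [g r hr, fr]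
  have rm : r * z ∈ cj m E := mem_cj.2 (by rw [← mv]; simpa [mul_assoc] using hr)
  have mY : cj m E ≤ E ⊔ (T ⊔ T₃) := fun w hw => by
    have h1 := mem_cj.1 hw
    have := mul_mem (mem_sup_left (T := T ⊔ T₃) h1) (mem_sup_right (S := E) (fV _ h1))
    rw [← g _ h1] at this
    simpa [mul_assoc] using this
  have pm : Pt Q E (cj m Q) (cj m E) := ⟨m, rfl, rfl⟩
  have ne : Q ≠ cj m Q := fun c => by
    have zQ : z ∈ Q := (mul_mem_cancel_left (tg.le hr)).1 (c.ge (cj_mono m tg.le rm))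
    have UY : E ⊔ zpowers z ≤ E ⊔ (T ⊔ T₃) := sup_le_sup_left (zpowers_le.2 hz.1) _
    exact z1 (dj z hz.1 (tg.exc _ _ _ _ (tg.sym _ _ _ _ ln.col) (E ⊔ zpowers z)
      (le_inf (sup_le tg.le (zpowers_le.2 zQ))
        (UY.trans ((cY.trans (centralizer_le TY)).trans (pt_nor tg p1))))
      ((el_two eY).to_le UY) le_sup_left (mem_sup_right (mem_zpowers z))))
  have YE : E ⊔ (T ⊔ T₃) ≤ cen E := csym (le_sup_left.trans cY)
  have st : E ⊔ (T ⊔ T₃) ≤ stab P E := by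
    have k : ∀ A ≤ cen E, Cm3 A P E → A ≤ stab P E := fun A h1 h2 w hw =>
      mem_stab.2 ⟨centralizer_le_normalizer _ (h1 hw), fun c hc => by
        rw [← commutatorElement_inv]; exact inv_mem (h2 w hw c hc)⟩
    exact sup_le (k _ (el_cen tg.el) fun s hs c hc => by rw [cne (PE hc) hs]; exact one_mem _)
      (sup_le (k _ ln.col.comm ln.pg.cm) (k _ pp.col.comm pp.cm))
  have Pm : P ≤ cen (cj m E) := perp G Q E tg Q E _ _ P ln.col.p1 pm ne (mY.trans YE) ln.pg.le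
    ln.pg.two (fun w hw c hc => by
      rw [← commutatorElement_inv]; exact inv_mem ((mem_stab.1 (st (mY hw))).2 c hc))
    (.inl ⟨x, xP, xE, tg.cen_le m (r * z) (cj_mono m tg.le rm)
      ⟨fun c => r1 (by rw [← mv] at c; simpa using c), pt_el tg pm _ rm⟩
      (mem_centralizer_singleton_iff.2
        (mem_centralizer_iff.1 (mul_mem (csym PE hr) hz.2) x xP))⟩)
  refine ⟨m, centralizer_anti le_sup_left mV, centralizer_anti inf_le_left mV, mv, fun s hs =>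
    mem_inf.2 ⟨fV s hs, ?_⟩⟩
  have h1 : m * s * m⁻¹ ∈ cen P := csym Pm (mem_cj.2 (by simpa [mul_assoc] using hs))
  rw [g s hs] at h1
  exact (mul_mem_cancel_left (csym PE hs)).1 h1

end H41.CbPl2
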