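import Cfsg.Agent.Base
import Cfsg.Statements.S3214
import Cfsg.Statements.S3223
import Cfsg.Agent.H66.CC

/-! Tower IT (S3193, S3194): simple groups with few centraliser orders. Proofs: blueprints/IT.md -/

set_option autoImplicit false

namespace H41.IT
open Cfsg Subgroup

universe u

section Defs
variable {G : Type*} [Group G]

/-- centraliser of an element -/
abbrev C (g : G) : Subgroup G := centralizer ({g} : Set G)

/-- centraliser order -/
noncomputable abbrev c (g : G) : ℕ := Nat.card (C g)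

/-- `g` is a `p`-element -/
def PE (p : ℕ) (g : G) : Prop := ∃ k : ℕ, orderOf g = p ^ k

/-- `g` has prime power order -/
def Pri (g : G) : Prop := ∃ r k : ℕ, r.Prime ∧ orderOf g = r ^ k

/-- the final list (conclusion of S3214) -/
def Lst (G : Type*) [Group G] : Prop :=
  (∃ (F : Type) (_ : Field F) (_ : Fintype F), 3 < Fintype.card F ∧
      Nonempty (G ≃* Matrix.ProjectiveSpecialLinearGroup (Fin 2) F)) ∨
    Cfsg.Lie.IsoSuzuki G ∨ Nonempty (G ≃* ↥(alternatingGroup (Fin 7))) ∨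
    (∃ (F : Type) (_ : Field F) (_ : Fintype F), Fintype.card F = 4 ∧
      Nonempty (G ≃* Matrix.ProjectiveSpecialLinearGroup (Fin 3) F))

/-- below the centraliser order of an involution there is only the value `d` -/
def One (G : Type*) [Group G] (d : ℕ) : Prop := ∀ t : G, orderOf t = 2 →
  (∀ g : G, g ≠ 1 → c g ∣ c t → c g = c t ∨ c g = d) ∧
  (c t ≠ d → d ∣ c t → ∀ g : G, g ≠ 1 → c t ∣ c g → c g = c t)

/-- type N: `C t = T × K` -/
def TyN (t : G) : Prop := ∃ K : Subgroup G, K ≤ C t ∧ Odd (Nat.card K) ∧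
  (∃ j : ℕ, c t = 2 ^ j * Nat.card K) ∧ (∀ u ∈ C t, PE 2 u → ∀ k ∈ K, Commute u k) ∧
  (∀ P : Sylow 2 (C t), (P : Subgroup (C t)).Normal) ∧ Cfsg.HasNormalPComplement 2 (C t)

/-- type A -/
def TyA (t : G) (d : ℕ) : Prop := ∃ j : ℕ, 0 < j ∧ c t = 2 ^ j * d

/-- type M (mixed centre) -/
def TyM (t : G) (d : ℕ) : Prop := (∃ q : ℕ, q.Prime ∧ q ≠ 2 ∧ 2 * q * d ∣ c t) ∧
  ∀ g : C t, Pri g → c g = c t ∨ c g = d

/-- all involutions are 2-central -/
def AllZ (G : Type*) [Group G] : Prop := ∀ t : G, orderOf t = 2 → Odd (C t).index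

/-- the set of centraliser orders -/
def CS (G : Type*) [Group G] : Set ℕ := {m | ∃ g : G, g ≠ 1 ∧ m = c g}

/-- two maximal centraliser orders -/
structure K2 (x y : G) : Prop where
  x1 : x ≠ 1
  y1 : y ≠ 1
  mx : ∀ g : G, g ≠ 1 → c x ∣ c g → c g = c x
  my : ∀ g : G, g ≠ 1 → c y ∣ c g → c g = c y
  cov : ∀ g : G, g ≠ 1 → c g ∣ c x ∨ c g ∣ c y

/-- the Szep facts -/
structure SZ (x y : G) : Prop where
  cop : (C x).index.Coprime (C y).index
  nc : ∀ x' y' : G, x' ≠ 1 → y' ≠ 1 → c x' = c x → c y' = c y → ¬ Commute x' y'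
  core : ∀ N : Subgroup G, N ≤ C x → C y ≤ normalizer (N : Set G) → N = ⊥
  np : ∀ p k : ℕ, p.Prime → (C x).index ≠ p ^ k

end Defs

/-- TY: the three types. -/
def JobTY : Prop := ∀ (G : Type u) [Group G] [Finite G] (d : ℕ), One G d → ∀ t : G,
  orderOf t = 2 → Group.IsSolvable (C t) ∧ (TyN t ∨ TyA t d ∨ TyM t d)

/-- NI: the P x Q argument. -/
def JobNI : Prop := ∀ (X : Type u) [Group X] [Finite X], Group.IsSolvable X →
  ∀ (u : X) (K : Subgroup X), PE 2 u → (∀ a ∈ K, ∀ b ∈ K, Commute a b) → Odd (Nat.card K) →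
  (∃ j : ℕ, K.index = 2 ^ j) → (∀ v : X, PE 2 v → Commute u v → ∀ k ∈ K, Commute v k) →
  Cfsg.HasNormalPComplement 2 X

/-- MX1: mixed centre, the centraliser is normal. -/
def JobMX1 : Prop := ∀ (X : Type u) [Group X] [Finite X], Group.IsSolvable X → ∀ (d q : ℕ),
  q.Prime → q ≠ 2 → q * d ∣ Nat.card X → (∀ g : X, Pri g → c g = Nat.card X ∨ c g = d) →
  ∀ u : X, PE 2 u → c u = d → (∀ g ∈ C u, Odd (orderOf g) → ∀ h ∈ C u, Commute g h) →
  (C u).Normal ∧ ∃ h : X, PE q h ∧ C h = C u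

/-- MX2: mixed centre, the contradiction. -/
def JobMX2 : Prop := ∀ (X : Type u) [Group X] [Finite X], Group.IsSolvable X → ∀ (d q : ℕ),
  q.Prime → q ≠ 2 → 2 * q * d ∣ Nat.card X → (∀ g : X, Pri g → c g = Nat.card X ∨ c g = d) →
  ∀ u h : X, PE 2 u → PE q h → c u = d → C h = C u → (C u).Normal → False

/-- ST: no 2-element of type `d` commutes with a bad involution. -/
def ST : Prop := ∀ (G : Type u) [Group G] [Finite G] (d : ℕ), One G d → ∀ t : G,
  orderOf t = 2 → Group.IsSolvable (C t) → (TyA t d ∨ TyM t d) →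
  ¬ Cfsg.HasNormalPComplement 2 (C t) → ∀ u : G, u ≠ 1 → PE 2 u → Commute u t → c u ≠ d

def JobST : Prop := JobNI.{u} → JobMX1.{u} → JobMX2.{u} → ST.{u}

/-- LO: the local alternative. -/
def LO : Prop := ∀ (G : Type u) [Group G] [Finite G] (d : ℕ), One G d →
  (∀ t : G, orderOf t = 2 → Cfsg.HasNormalPComplement 2 (C t)) ∨
  (∀ u : G, PE 2 u → Odd (C u).index) ∨
  (¬ AllZ G ∧ ∃ z : G, orderOf z = 2 ∧ Odd (C z).index ∧ TyN z)

def JobLO : Prop := JobTY.{u} → ST.{u} → LO.{u}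

/-- Z3, ZU, ZP: involutions in characteristic 2. -/
def JobZ3 : Prop := ∀ (F : Type) [Field F] [Fintype F] (n : ℕ), 2 ≤ n → Fintype.card F = 2 ^ n →
  AllZ (Matrix.ProjectiveSpecialLinearGroup (Fin 3) F) ∧ AllZ (Cfsg.PSp 2 F)

def JobZU : Prop := ∀ (F : Type) [Field F] [Fintype F] (n : ℕ), 2 ≤ n →
  Fintype.card F = (2 ^ n) ^ 2 → AllZ (Cfsg.PSU 3 F (2 ^ n))

/-- ON: the list. -/
def ON : Prop := ∀ (G : Type u) [Group G] [Finite G] [IsSimpleGroup G], ¬ IsMulCommutative G →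
  ∀ d : ℕ, One G d → Lst G

def JobON : Prop := JobTY.{u} → LO.{u} → JobZ3 → JobZU → ON.{u}

/-- SZ: factorisation facts. -/
def JobSZ : Prop := ∀ (G : Type u) [Group G] [Finite G] [IsSimpleGroup G], ¬ IsMulCommutative G →
  ∀ x y : G, K2 x y → SZ x y

/-- M: nothing proper on the `y` side. -/
def JobM : Prop := ∀ (G : Type u) [Group G] [Finite G] (x y : G), K2 x y → SZ x y →
  (∀ g : G, g ≠ 1 → c g ∣ c y → c g = c y ∨ c g ∣ c x) → H66.IsCC (C y) ∧ C x ⊓ C y = ⊥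

/-- CH: the permutation character on the cosets of a complement of a CC-subgroup. -/
def JobCH : Prop := ∀ (G : Type u) [Group G] [Finite G] (A B : Subgroup G), H66.IsCC B → B ≠ ⊥ →
  A ⊓ B = ⊥ → Nat.card B = A.index → MulAction.IsMultiplyPretransitive G (G ⧸ A) 2 ∨
  ∃ e : ℕ, Nat.card (normalizer (B : Set G)) = e * Nat.card B ∧ ∀ b : G ⧸ A, b ≠ ((1 : G) : G ⧸ A) →
    Nat.card (MulAction.orbit (MulAction.stabilizer G ((1 : G) : G ⧸ A)) b) = e

/-- WI: equal subdegrees. -/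
def JobWI : Prop := ∀ (G : Type u) [Group G] [Finite G] [IsSimpleGroup G], ¬ IsMulCommutative G →
  ∀ (A B : Subgroup G), H66.IsCC B → A ⊓ B = ⊥ → Nat.card B = A.index →
  (∀ p k : ℕ, p.Prime → Nat.card B ≠ p ^ k) → ∀ e : ℕ,
  Nat.card (normalizer (B : Set G)) = e * Nat.card B → (∀ b : G ⧸ A, b ≠ ((1 : G) : G ⧸ A) →
    Nat.card (MulAction.orbit (MulAction.stabilizer G ((1 : G) : G ⧸ A)) b) = e) → False

/-- AB: no CC-subgroup is a complement of a centraliser. -/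
def AB : Prop := ∀ (G : Type u) [Group G] [Finite G] [IsSimpleGroup G], ¬ IsMulCommutative G →
  ∀ (x : G) (B : Subgroup G), x ≠ 1 → H66.IsCC B → C x ⊓ B = ⊥ → Nat.card B = (C x).index → False

def JobAB : Prop := JobCH.{u} → JobWI.{u} → AB.{u}

/-- P1: separated sides. -/
def JobP1 : Prop := ∀ (G : Type u) [Group G] [Finite G] (x y : G), K2 x y → SZ x y →
  Odd (C x).index → (∀ g : G, g ≠ 1 → c g ∣ c x → ¬ c g ∣ c y) → ∀ d₁ d₂ d₃ : ℕ,
  (∀ g : G, g ≠ 1 → c g ∣ c x → c g = c x ∨ c g = d₁) →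
  (∀ g : G, g ≠ 1 → c g ∣ c y → c g = c y ∨ c g = d₂ ∨ c g = d₃) → One G d₁

/-- R: ranks of the groups on the list. -/
def JobRS : Prop := ∀ (G : Type u) [Group G] [Finite G], Cfsg.Lie.IsoSuzuki G → 5 ≤ (CS G).ncard

def JobRA : Prop := 6 ≤ (CS (alternatingGroup (Fin 7))).ncard

def JobRL : Prop := ∀ (F : Type) [Field F] [Fintype F], Fintype.card F = 4 →
  5 ≤ (CS (Matrix.ProjectiveSpecialLinearGroup (Fin 3) F)).ncard

def JobR2 : Prop := ∀ (F : Type) [Field F] [Fintype F], 3 < Fintype.card F →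
  (CS (Matrix.ProjectiveSpecialLinearGroup (Fin 2) F)).ncard =
    if Odd (Fintype.card F) ∧ 7 ≤ Fintype.card F then 4 else 3

end H41.IT
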