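import Cfsg.Agent.H19.L3Cub
import Cfsg.Agent.H61.L3Spec
import Cfsg.Prelude.Def_Spor_Mathieu
import Cfsg.Prelude.Def_Spor_J1
import Cfsg.Prelude.Def_Sz
import Cfsg.Prelude.Def_LieTwisted
import Cfsg.Prelude.Def_CaseTheorems
import Cfsg.Prelude.Def_Sporadic

/-! Interface of the tower LD5 (quasisimple subgroups of `SL₅(q)`), see `blueprints/LD5.md`. -/

set_option autoImplicit false

open Matrix Cfsg Cfsg.Geo H19
open scoped MatrixGroups commutatorElement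

namespace H41.LD

universe u

section defs

variable {K : Type u} [Field K] {n : ℕ}

/-- Finite subsets of `K` generate finite subfields. -/
def LF (K : Type u) [Field K] : Prop := ∀ S : Finset K, Finite (Subfield.closure (S : Set K))

/-- A vector and a covector. -/
abbrev R (n : ℕ) (K : Type u) : Type u := (Fin n → K) × (Fin n → K)

/-- The rank one matrix of a pair. -/
def N (x : R n K) : Matrix (Fin n) (Fin n) K := vecMulVec x.1 x.2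

/-- `1 - N x` is a reflection of order two in `G` (a transvection when `2 = 0`). -/
def Rf (G : Subgroup (GL (Fin n) K)) (x : R n K) : Prop :=
  x.2 ⬝ᵥ x.1 = 2 ∧ x.1 ≠ 0 ∧ x.2 ≠ 0 ∧ ∃ g ∈ G, g.val = 1 - N x

/-- `1 + N x` is a transvection (or the identity) in `G`. -/
def Tv (G : Subgroup (GL (Fin n) K)) (x : R n K) : Prop :=
  x.2 ⬝ᵥ x.1 = 0 ∧ ∃ g ∈ G, g.val = 1 + N x

/-- `G` contains no transvection. -/
def NoTv (G : Subgroup (GL (Fin n) K)) : Prop := ∀ x, Tv G x → x.1 = 0 ∨ x.2 = 0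

/-- Symmetry of zeros and uniqueness of axis and centre. -/
structure Thin (G : Subgroup (GL (Fin n) K)) : Prop where
  sym : ∀ {x y}, Rf G x → Rf G y → x.2 ⬝ᵥ y.1 = 0 → y.2 ⬝ᵥ x.1 = 0
  uniqL : ∀ {x y}, Rf G x → Rf G y → x.1 = y.1 → x.2 = y.2
  uniqR : ∀ {x y}, Rf G x → Rf G y → x.2 = y.2 → x.1 = y.1

/-- The standing hypothesis of the reflection part. -/
structure RS (G : Subgroup (GL (Fin 5) K)) : Prop where
  lf : LF K
  fin : Finite G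
  qp : ∀ L : Subgroup (GL (Fin 5) K), L ≤ G → (∀ g ∈ G, ∀ x ∈ L, g * x * g⁻¹ ∈ L) →
    L ≤ scalars (Fin 5) K ∨ (gspan L = ⊤ ∧ G ≤ L ⊔ scalars (Fin 5) K)
  tv : (2 : K) ≠ 0 → NoTv G
  thin : Thin G

/-- The two-cycle invariant. -/
def cc (x y : R n K) : K := (x.2 ⬝ᵥ y.1) * (y.2 ⬝ᵥ x.1)

/-- The three-cycle invariant. -/
def tau (x y z : R n K) : K := (x.2 ⬝ᵥ y.1) * (y.2 ⬝ᵥ z.1) * (z.2 ⬝ᵥ x.1)

/-- A non-reversible triple of reflections of `G`. -/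
structure NR (G : Subgroup (GL (Fin n) K)) (r s t : R n K) : Prop where
  r1 : Rf G r
  r2 : Rf G s
  r3 : Rf G t
  ne : tau r s t ≠ tau r t s

/-- The determinant of the Cartan matrix of three reflections. -/
def dt (r s t : R n K) : K := 8 - 2 * (cc r s + cc s t + cc r t) + tau r s t + tau r t s

/-- `x` is supported on the span of `r, s, t`. -/
def Sup (r s t x : R n K) : Prop :=
  x.1 ∈ Submodule.span K {r.1, s.1, t.1} ∧ x.2 ∈ Submodule.span K {r.2, s.2, t.2}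

/-- The group generated by the reflections of `G` supported on the span of `r, s, t`. -/
def ParG (G : Subgroup (GL (Fin n) K)) (r s t : R n K) : Subgroup (GL (Fin n) K) :=
  Subgroup.closure {g | ∃ x, Rf G x ∧ Sup r s t x ∧ g.val = 1 - N x}

/-- Dual systems of vectors and covectors. -/
def Dual {m : ℕ} (e ε : Fin m → Fin n → K) : Prop := ∀ i j, ε i ⬝ᵥ e j = if i = j then 1 else 0

/-- The reflection exchanging the lines of `e i` and `e j`, with parameter `η`. -/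
def sw {m : ℕ} (e ε : Fin m → Fin n → K) (i j : Fin m) (η : K) : R n K :=
  (e i - η • e j, ε i - η⁻¹ • ε j)

/-- The diagonal reflection in `e i`. -/
def dg {m : ℕ} (e ε : Fin m → Fin n → K) (i : Fin m) : R n K := (e i, (2 : K) • ε i)

/-- The reflections supported on the span of `r, s, t` are monomial. -/
def Mono (G : Subgroup (GL (Fin n) K)) (r s t : R n K) : Prop :=
  ∃ e ε : Fin 3 → Fin n → K, Dual e ε ∧ (∀ i, Sup r s t (e i, ε i)) ∧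
    ∀ x, Rf G x → Sup r s t x → (∃ i, (2 : K) ≠ 0 ∧ N x = N (dg e ε i)) ∨
      ∃ i j η, i ≠ j ∧ η ≠ 0 ∧ N x = N (sw e ε i j η)

/-- `H` contains no quaternion group of order eight. -/
def NoQ8 {Γ : Type*} [Group Γ] (H : Subgroup Γ) : Prop :=
  ∀ a ∈ H, ∀ b ∈ H, b ^ 2 = a ^ 2 → (a * b) ^ 2 = a ^ 2 → a ^ 2 = 1

/-- The nine reflections of a Weyl group of type `B₃` lie in `G`. -/
structure B3 (G : Subgroup (GL (Fin n) K)) (e ε : Fin 3 → Fin n → K) : Prop where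
  dual : Dual e ε
  rd : ∀ i, Rf G (dg e ε i)
  rs : ∀ i j, i ≠ j → Rf G (sw e ε i j 1) ∧ Rf G (sw e ε i j (-1))

/-- `x` is one of these nine reflections. -/
def InB3 (e ε : Fin 3 → Fin n → K) (x : R n K) : Prop :=
  (∃ i, N x = N (dg e ε i)) ∨ ∃ i j, i ≠ j ∧ (N x = N (sw e ε i j 1) ∨ N x = N (sw e ε i j (-1)))

/-- The type `2 × L₃(2)`. -/
structure TL (G : Subgroup (GL (Fin n) K)) (r s t : R n K) : Prop where
  q8 : NoQ8 (ParG G r s t)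
  cv : ∀ x y, Rf G x → Sup r s t x → Rf G y → Sup r s t y →
    cc x y = 0 ∨ cc x y = 1 ∨ cc x y = 2 ∨ cc x y = 4
  b3 : ∀ x y, Rf G x → Sup r s t x → Rf G y → Sup r s t y →
    ∃ e ε : Fin 3 → Fin n → K, B3 G e ε ∧ (∀ i, Sup r s t (e i, ε i)) ∧ InB3 e ε x ∧ InB3 e ε y

/-- `Π` is the projection onto the span of `r, s, t`. -/
structure Prj (r s t : R n K) (A : Matrix (Fin n) (Fin n) K) : Prop where
  l : ∀ x, Sup r s t x → A *ᵥ x.1 = x.1 ∧ x.2 ᵥ* A = x.2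
  im : ∀ x : R n K, Sup r s t (A *ᵥ x.1, x.2 ᵥ* A)

/-- The types `2 × 3·A₆` and `2 × 3·A₇`. -/
structure TW (G : Subgroup (GL (Fin n) K)) (r s t : R n K) : Prop where
  q8 : NoQ8 (ParG G r s t)
  om : ∃ (A : Matrix (Fin n) (Fin n) K) (w : K), Prj r s t A ∧ w ^ 2 + w + 1 = 0 ∧ (3 : K) ≠ 0 ∧
    ∃ g ∈ G, g.val = 1 + (w - 1) • A
  prim : ∀ S : Set (R n K), S.Nonempty → (∀ E ∈ S, Sup r s t E ∧ E.2 ⬝ᵥ E.1 = 1) →
    (∀ E ∈ S, ∀ E' ∈ S, N E = N E' ∨ (E.2 ⬝ᵥ E'.1 = 0 ∧ E'.2 ⬝ᵥ E.1 = 0)) →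
    ¬ ∀ x, Rf G x → Sup r s t x → ∀ E ∈ S, ∃ E' ∈ S, N E' = (1 - N x) * N E * (1 - N x)

/-- A monomial frame of rank three. -/
structure Frame (G : Subgroup (GL (Fin n) K)) (e ε : Fin 3 → Fin n → K) : Prop where
  dual : Dual e ε
  s01 : Rf G (sw e ε 0 1 1)
  s12 : Rf G (sw e ε 1 2 1)

/-- The parameters of the reflections exchanging the first two lines. -/
def Mu (G : Subgroup (GL (Fin n) K)) (e ε : Fin 3 → Fin n → K) (η : K) : Prop :=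
  η ≠ 0 ∧ Rf G (sw e ε 0 1 η)

/-- The diagonal entry of `N x` in the frame. -/
def X {m : ℕ} (e ε : Fin m → Fin n → K) (x : R n K) (i : Fin m) : K := (ε i ⬝ᵥ x.1) * (x.2 ⬝ᵥ e i)

/-- Row and column `i` of `N x` vanish in the frame. -/
def Z {m : ℕ} (e ε : Fin m → Fin n → K) (x : R n K) (i : Fin m) : Prop :=
  ε i ⬝ᵥ x.1 = 0 ∧ x.2 ⬝ᵥ e i = 0

/-- The pair hypothesis for one reflection. -/
def HP1 (e ε : Fin 3 → Fin n → K) (x : R n K) : Prop :=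
  X e ε x 0 = X e ε x 1 ∨ (X e ε x 0 = 1 ∧ Z e ε x 1) ∨ (X e ε x 1 = 1 ∧ Z e ε x 0) ∨
    (x.1 ∈ Submodule.span K {e 0, e 1} ∧ x.2 ∈ Submodule.span K {ε 0, ε 1})

/-- The pair hypothesis. -/
def HP (G : Subgroup (GL (Fin n) K)) (e ε : Fin 3 → Fin n → K) : Prop := ∀ x, Rf G x → HP1 e ε x

/-- The possible positions of a reflection with respect to a frame. -/
def Pat (G : Subgroup (GL (Fin n) K)) (e ε : Fin 3 → Fin n → K) (x : R n K) : Prop :=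
  (∀ i, Z e ε x i) ∨ (∃ i, X e ε x i = 1 ∧ ∀ j, j ≠ i → Z e ε x j) ∨
  (∃ i j η, i ≠ j ∧ Mu G e ε η ∧ N x = N (sw e ε i j η)) ∨
  (∃ i, (2 : K) ≠ 0 ∧ N x = N (dg e ε i)) ∨
  ((2 : K) = 0 ∧ (∀ η, Mu G e ε η → η ^ 3 = 1) ∧ ∃ k, Z e ε x k ∧ (∀ i, i ≠ k → X e ε x i = 1) ∧
    ∀ i j, i ≠ k → j ≠ k → (ε i ⬝ᵥ x.1) ^ 3 = (ε j ⬝ᵥ x.1) ^ 3) ∨
  ((∀ η, Mu G e ε η → η ^ 3 = 1) ∧ (∀ i, 3 * X e ε x i = 1) ∧
    ∀ i j, (ε i ⬝ᵥ x.1) ^ 3 = (ε j ⬝ᵥ x.1) ^ 3) ∨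
  ((∀ η, Mu G e ε η → η ^ 4 = 1) ∧ (∀ i, 2 * X e ε x i = 1) ∧
    ∀ i j, (ε i ⬝ᵥ x.1) ^ 4 = (ε j ⬝ᵥ x.1) ^ 4)

/-- `t` lies in the plane of `r` and `s`. -/
def Pl (r s t : R n K) : Prop :=
  t.1 ∈ Submodule.span K {r.1, s.1} ∧ t.2 ∈ Submodule.span K {r.2, s.2}

/-- A reflection group of rank two with a quaternion subgroup. -/
def Q8c (G : Subgroup (GL (Fin n) K)) : Prop :=
  ∃ r s t, NR G r s t ∧ Pl r s t ∧ ¬ NoQ8 (ParG G r s t)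

/-- Degenerate non-reversible triples are planar. -/
def Deg (G : Subgroup (GL (Fin n) K)) : Prop := ∀ r s t, NR G r s t → dt r s t = 0 → Pl r s t

/-- The list of rank three groups. -/
def List3 (G : Subgroup (GL (Fin n) K)) : Prop := ∀ r s t, NR G r s t → dt r s t ≠ 0 →
  Mono G r s t ∨ ((2 : K) ≠ 0 ∧ (TL G r s t ∨ TW G r s t))

/-- No homology of order greater than two, up to scalars. -/
def NoHom (G : Subgroup (GL (Fin n) K)) : Prop := ∀ (E : R n K) (l : K), E.2 ⬝ᵥ E.1 = 1 →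
  (∃ g ∈ G ⊔ scalars (Fin n) K, g.val = 1 + (l - 1) • N E) → l ^ 2 = 1

/-- The two-cycles of a non-degenerate non-reversible triple are `1` or `2`. -/
def C12 (G : Subgroup (GL (Fin n) K)) : Prop := ∀ r s t, NR G r s t → dt r s t ≠ 0 →
  cc r s = 1 ∨ cc r s = 2

/-- The final configuration of the reflection part. -/
structure Fin3 (G : Subgroup (GL (Fin n) K)) (e ε : Fin 3 → Fin n → K) (w : K) : Prop where
  fr : Frame G e ε
  om : w ^ 2 + w + 1 = 0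
  three : (3 : K) ≠ 0
  mu : ∀ η, Mu G e ε η ↔ η ^ 3 = 1
  pat : ∀ x, Rf G x → Pat G e ε x
  cv : ∀ x, Rf G x → cc (sw e ε 0 1 1) x = 0 ∨ cc (sw e ε 0 1 1) x = 1 ∨ N x = N (sw e ε 0 1 1)

/-- `x` is conjugate to `s` in `G`. -/
def Cl (G : Subgroup (GL (Fin n) K)) (s x : R n K) : Prop :=
  Rf G x ∧ ∃ g ∈ G, N x = g.val * N s * (g⁻¹).val

/-- A group modulo scalars. -/
abbrev Bar (P : Subgroup (GL (Fin n) K)) : Type u := P ⧸ (scalars (Fin n) K).subgroupOf P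

/-- Quasisimple absolutely irreducible subgroups of `SL₅`. -/
structure QS (P : Subgroup (GL (Fin 5) K)) : Prop where
  le : P ≤ specialLinear (Fin 5) K
  perfect : ⁅P, P⁆ = P
  simple : IsSimpleGroup (Bar P)
  span : gspan P = ⊤

/-- `P` extended by `-1`. -/
def PM (P : Subgroup (GL (Fin n) K)) : Subgroup (GL (Fin n) K) := P ⊔ Subgroup.zpowers (-1)

/-- The traces lie in `ℤ[b]`, inversion exchanging `b` and `-1 - b`. -/
def Quad (P : Subgroup (GL (Fin n) K)) (b : K) : Prop :=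
  ∀ g ∈ P, ∃ k l : ℤ, trc g = k + l * b ∧ trc g⁻¹ = k + l * (-1 - b)

/-- Hypotheses on a reflection group of rank three. -/
structure R3 (G : Subgroup (GL (Fin 3) K)) (r s t : R 3 K) : Prop where
  fin : Finite G
  gen : G ≤ Subgroup.closure {g | ∃ x, Rf G x ∧ g.val = 1 - N x}
  tv : (2 : K) ≠ 0 → NoTv G
  thin : Thin G
  nr : NR G r s t
  dt : dt r s t ≠ 0
  span : gspan G = ⊤
  sup : ∀ x, Sup r s t x

/-- All root groups are lines over `k`. -/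
def TS (P : Subgroup (GL (Fin n) K)) (k : Subfield K) : Prop :=
  ∀ x, Tv P x → x.1 ≠ 0 → x.2 ≠ 0 → ∀ a : K, Tv P (a • x.1, x.2) ↔ a ∈ k

/-- All two-cycles of transvections lie in `k`. -/
def Lam (P : Subgroup (GL (Fin n) K)) (k : Subfield K) : Prop :=
  ∀ x y, Tv P x → Tv P y → cc x y ∈ k

/-- All root groups are conjugate. -/
def CJ (P : Subgroup (GL (Fin n) K)) (k : Subfield K) : Prop :=
  ∀ x y, Tv P x → x.1 ≠ 0 → x.2 ≠ 0 → Tv P y → y.1 ≠ 0 → y.2 ≠ 0 →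
    ∃ g ∈ P, ∃ a ∈ k, a ≠ 0 ∧ g.val * N x * (g⁻¹).val = a • N y

/-- There is an asymmetric pair of transvections. -/
def Asym (P : Subgroup (GL (Fin n) K)) : Prop :=
  ∃ x y, Tv P x ∧ Tv P y ∧ x.1 ≠ 0 ∧ y.2 ≠ 0 ∧ x.2 ⬝ᵥ y.1 ≠ 0 ∧ y.2 ⬝ᵥ x.1 = 0

/-- `k` has two elements. -/
def Two (k : Subfield K) : Prop := (2 : K) = 0 ∧ ∀ a ∈ k, a = 0 ∨ a = 1

/-- A faithful absolutely irreducible representation without elements of rank one. -/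
structure Rep {Γ : Type*} [Group Γ] (ρ : Γ →* GL (Fin 5) K) : Prop where
  inj : Function.Injective ρ
  le : ρ.range ≤ specialLinear (Fin 5) K
  span : gspan ρ.range = ⊤
  tv : NoTv ρ.range
  inv : (2 : K) ≠ 0 → ∀ t : Γ, t * t = 1 → t ≠ 1 → trc (ρ t) = 1

/-- All traces are invariant under inversion. -/
def Real (P : Subgroup (GL (Fin n) K)) : Prop := ∀ g ∈ P, trc g⁻¹ = trc g

end defs

/-- The property `C` holds for every representation of `Γ` in characteristic `p`. -/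
def All (Γ : Type*) [Group Γ] (p : ℕ)
    (C : ∀ {K : Type u} [Field K], Subgroup (GL (Fin 5) K) → Prop) : Prop :=
  ∀ (K : Type u) [Field K] [IsAlgClosed K] [CharP K p] (ρ : Γ →* GL (Fin 5) K), Rep ρ → C ρ.range

/-- `Γ` has no representation in characteristic `p`. -/
def Non (Γ : Type*) [Group Γ] (p : ℕ) : Prop := All.{u} Γ p fun _ => False

/-! ### Reflection part -/

/-- Traces are controlled by short cycles. -/
def JobCyc : Prop :=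
  ∀ (K : Type u) [Field K] (n : ℕ) (S : Subring (K × K)) (κ : K) (D : Set (R n K))
    (Y : Set (GL (Fin n) K)), κ * κ = 1 →
    (∀ g ∈ Y, ∃ x ∈ D, g.val = 1 + N x ∧ (g⁻¹).val = 1 + κ • N x) →
    (∀ x ∈ D, ∀ y ∈ D, (y.1 + (x.2 ⬝ᵥ y.1) • x.1, y.2 + (κ * (y.2 ⬝ᵥ x.1)) • x.2) ∈ D) →
    (∀ x ∈ D, (x.2 ⬝ᵥ x.1, κ * (x.2 ⬝ᵥ x.1)) ∈ S) → (κ, κ) ∈ S →
    (∀ x ∈ D, ∀ y ∈ D, (cc x y, cc x y) ∈ S ∧ ((cc x y)⁻¹, (cc x y)⁻¹) ∈ S) →
    (∀ x ∈ D, ∀ y ∈ D, ∀ z ∈ D, (tau x y z, κ * tau x z y) ∈ S) →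
    (∀ x ∈ D, ∀ y ∈ D, x.2 ⬝ᵥ y.1 = 0 → y.2 ⬝ᵥ x.1 = 0 ∨ ∀ b, ((0 : K), b) ∈ S) →
    ∀ g ∈ Subgroup.closure Y, (trc g, trc g⁻¹) ∈ S

/-- Rank three groups: monomial, or with a quasisimple normal subgroup. -/
def JobA3 : Prop :=
  ∀ (K : Type u) [Field K] [IsAlgClosed K] (G : Subgroup (GL (Fin 3) K)) (r s t : R 3 K),
    R3 G r s t → Mono G r s t ∨
      ∃ E : Subgroup (GL (Fin 3) K), E ≤ G ∧ (∀ g ∈ G, ∀ x ∈ E, g * x * g⁻¹ ∈ E) ∧ H61.L3.QS E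

/-- Rank three groups: the classical cases of `Core3` do not occur, and the case `L₃(2)`. -/
def JobB3L : Prop :=
  ∀ (K : Type u) [Field K] [Finite K] (G E : Subgroup (GL (Fin 3) K)) (r s t : R 3 K),
    R3 G r s t → E ≤ G → (∀ g ∈ G, ∀ x ∈ E, g * x * g⁻¹ ∈ E) → H61.L3.QS E →
    (2 : K) ≠ 0 ∧ (TL G r s t ∨ ((3 : K) ≠ 0 ∧ Nonempty (Bar E ≃* alternatingGroup (Fin 6))) ∨
      ((5 : K) = 0 ∧ Nonempty (Bar E ≃* alternatingGroup (Fin 7))))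

/-- Rank three groups: the cases `A₆` and `A₇`. -/
def JobB3W : Prop :=
  ∀ (K : Type u) [Field K] [Finite K] (G E : Subgroup (GL (Fin 3) K)) (r s t : R 3 K),
    R3 G r s t → E ≤ G → (∀ g ∈ G, ∀ x ∈ E, g * x * g⁻¹ ∈ E) → H61.L3.QS E → (2 : K) ≠ 0 →
    ((3 : K) ≠ 0 ∧ Nonempty (Bar E ≃* alternatingGroup (Fin 6))) ∨
      ((5 : K) = 0 ∧ Nonempty (Bar E ≃* alternatingGroup (Fin 7))) → TW G r s t

/-- Transfer to dimension five. -/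
def JobL3 : Prop :=
  ∀ (K : Type u) [Field K] [IsAlgClosed K] (G : Subgroup (GL (Fin 5) K)), RS G → List3 G

/-- Two facts on finite subgroups of `GL₂`. -/
def JobS2 : Prop :=
  ∀ (K : Type u) [Field K] [IsAlgClosed K], (2 : K) ≠ 0 →
    (∀ (G : Subgroup (GL (Fin 2) K)) (r s t : R 2 K), Finite G → NR G r s t →
      ∀ H : Subgroup (GL (Fin 2) K), (∀ x ∈ ({r, s, t} : Set (R 2 K)), ∀ g ∈ G,
        g.val = 1 - N x → g ∈ H) → -1 ∈ H) ∧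
    ∀ H : Subgroup (GL (Fin 2) K), Finite H → H ≤ specialLinear (Fin 2) K → NoTv H →
      ¬ NoQ8 H ∨ H ≤ scalars (Fin 2) K ∨ ∃ e ε : Fin 2 → Fin 2 → K, Dual e ε ∧
        ∀ g : GL (Fin 2) K, (∀ x ∈ H, g * x * g⁻¹ ∈ H) →
          (ε 1 ⬝ᵥ g.val *ᵥ e 0 = 0 ∧ ε 0 ⬝ᵥ g.val *ᵥ e 1 = 0) ∨
          (ε 0 ⬝ᵥ g.val *ᵥ e 0 = 0 ∧ ε 1 ⬝ᵥ g.val *ᵥ e 1 = 0)

/-- Degenerate triples. -/
def JobDeg : Prop := JobS2.{u} →
  ∀ (K : Type u) [Field K] [IsAlgClosed K] (G : Subgroup (GL (Fin 5) K)), RS G → (2 : K) ≠ 0 →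
    Deg G

/-- The plane lemma. -/
def JobPL : Prop := JobS2.{u} →
  ∀ (K : Type u) [Field K] [IsAlgClosed K] (G : Subgroup (GL (Fin 5) K)), RS G → (2 : K) ≠ 0 →
    ¬ Q8c G → ∀ (A : Matrix (Fin 5) (Fin 5) K) (l : K), A * A = A → l ^ 2 ≠ 1 →
      (∃ g ∈ G ⊔ scalars (Fin 5) K, g.val = 1 + (l - 1) • A) → ∀ x, Rf G x →
        A * N x = N x * A ∨ x.2 ⬝ᵥ A *ᵥ x.1 = 1

/-- Frames from monomial triples, and the pair hypothesis from a monomial triple. -/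
def JobFP : Prop :=
  ∀ (K : Type u) [Field K] (G : Subgroup (GL (Fin 5) K)),
    (∀ r s t, NR G r s t → dt r s t ≠ 0 → Mono G r s t → ∃ e ε ζ, Frame G e ε ∧ Mu G e ε ζ ∧
      ζ ^ 2 ≠ 1 ∧ (cc r s = 1 ∨ cc r s = 2 + ζ + ζ⁻¹)) ∧
    ∀ e ε ζ x, Frame G e ε → Mu G e ε ζ → ζ ^ 2 ≠ 1 → ζ ^ 3 ≠ 1 → Rf G x →
      dt (sw e ε 0 1 1) (sw e ε 0 1 ζ) x ≠ 0 → Mono G (sw e ε 0 1 1) (sw e ε 0 1 ζ) x → HP1 e ε x

/-- Positions of a reflection with respect to a frame. -/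
def JobMA : Prop :=
  ∀ (K : Type u) [Field K] (G : Subgroup (GL (Fin 5) K)), RS G → ∀ e ε ζ, Frame G e ε →
    Mu G e ε ζ → ζ ^ 2 ≠ 1 → HP G e ε → ∀ x, Rf G x → Pat G e ε x

/-- Frames have parameter group of order three. -/
def JobMB : Prop := JobMA.{u} →
  ∀ (K : Type u) [Field K] (G : Subgroup (GL (Fin 5) K)), RS G → ∀ e ε ζ, Frame G e ε →
    Mu G e ε ζ → ζ ^ 2 ≠ 1 → HP G e ε → Fin3 G e ε ζ

/-- No quaternion group of rank two. -/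
def JobQ8 : Prop := JobFP.{u} → JobMA.{u} → JobMB.{u} →
  ∀ (K : Type u) [Field K] [IsAlgClosed K] (G : Subgroup (GL (Fin 5) K)), RS G → (2 : K) ≠ 0 →
    List3 G → Deg G → ¬ Q8c G

/-- No homologies, and no group of type `3·A₆`, `3·A₇`. -/
def JobOH : Prop :=
  ∀ (K : Type u) [Field K] (G : Subgroup (GL (Fin 5) K)), RS G → (2 : K) ≠ 0 →
    (∀ (A : Matrix (Fin 5) (Fin 5) K) (l : K), A * A = A → l ^ 2 ≠ 1 →
      (∃ g ∈ G ⊔ scalars (Fin 5) K, g.val = 1 + (l - 1) • A) → ∀ x, Rf G x →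
        A * N x = N x * A ∨ x.2 ⬝ᵥ A *ᵥ x.1 = 1) → (∃ x, Rf G x) →
    NoHom G ∧ ∀ r s t, NR G r s t → dt r s t ≠ 0 → ¬ TW G r s t

/-- Frames with a parameter of order four satisfy the pair hypothesis. -/
def JobM4 : Prop :=
  ∀ (K : Type u) [Field K] (G : Subgroup (GL (Fin 5) K)), RS G → (2 : K) ≠ 0 → Deg G → C12 G →
    NoHom G → ∀ e ε ζ, Frame G e ε → Mu G e ε ζ → ζ ^ 2 = -1 → HP G e ε

/-- No group of type `2 × L₃(2)`. -/
def JobG24 : Prop :=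
  ∀ (K : Type u) [Field K] [IsAlgClosed K] (G : Subgroup (GL (Fin 5) K)), RS G → (2 : K) ≠ 0 →
    Deg G → C12 G → NoHom G → (∀ e ε ζ, Frame G e ε → Mu G e ε ζ → ζ ^ 2 ≠ -1) →
    ∀ r s t, NR G r s t → dt r s t ≠ 0 → ¬ TL G r s t

/-- The structure of the final configuration. -/
def JobFA : Prop :=
  ∀ (K : Type u) [Field K] (G : Subgroup (GL (Fin 5) K)), RS G → (2 : K) ≠ 0 →
    ∀ e ε w, Fin3 G e ε w → Nat.card (Bar G) < 13685760 ∧ Group.IsSolvable (Subgroup.closure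
      {g : GL (Fin 5) K | ∃ x, Cl G (sw e ε 0 1 1) x ∧ cc (sw e ε 0 1 1) x = 0 ∧ g.val = 1 - N x})

/-- Identification of `U₄(2)`. -/
def JobFB : Prop := JobCyc.{u} → JobFA.{u} →
  ∀ (K : Type u) [Field K] (P : Subgroup (GL (Fin 5) K)), QS P → RS (PM P) → (2 : K) ≠ 0 →
    ∀ e ε w, Fin3 (PM P) e ε w → Quad P w ∧ (∃ g ∈ P, trc g = 2 + 3 * w) ∧
      ∃ (k : Type) (_ : Field k) (_ : Fintype k), Fintype.card k = 4 ∧
        Nonempty (Bar P ≃* PSU 4 k 2)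

/-! ### Transvection part -/

/-- Pairs of transvections. -/
def JobTP : Prop :=
  ∀ (F : Type u) [Field F] [Finite F] (P : Subgroup (GL (Fin 5) F)), QS P → ¬ NoTv P →
    ∃ k : Subfield F, TS P k ∧ (Lam P k ∨ (2 : F) = 0 → CJ P k) ∧ ∀ x y, Tv P x → Tv P y →
      cc x y ∈ k ∨ Two k ∨ ((3 : F) = 0 ∧ cc x y ^ 2 = -1 ∧ ∀ a ∈ k, a ^ 3 = a)

/-- The exception `SL₂(5) ≤ SL₂(9)` does not occur. -/
def JobTE : Prop :=
  ∀ (F : Type u) [Field F] [Finite F] (P : Subgroup (GL (Fin 5) F)) (k : Subfield F), QS P →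
    TS P k → (3 : F) = 0 → (∀ a ∈ k, a ^ 3 = a) → ∀ x y, Tv P x → Tv P y → cc x y ^ 2 ≠ -1

/-- The linear case. -/
def JobTL : Prop := JobCyc.{u} →
  ∀ (F : Type u) [Field F] [Finite F] (P : Subgroup (GL (Fin 5) F)) (k : Subfield F), QS P →
    TS P k → Lam P k → CJ P k → Asym P →
      (∀ g ∈ P, trc g ∈ k) ∧ (k = ⊤ → specialLinear (Fin 5) F ≤ P)

/-- The unitary case. -/
def JobTU : Prop := JobCyc.{u} →
  ∀ (F : Type u) [Field F] [Fintype F] (P : Subgroup (GL (Fin 5) F)) (k : Subfield F), QS P →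
    ¬ NoTv P → TS P k → Lam P k → ¬ Asym P →
      (∀ g ∈ P, trc g⁻¹ = trc g ^ Nat.card k) ∧
      (Real P ∨ ∃ x y z, Tv P x ∧ Tv P y ∧ Tv P z ∧ tau x y z ∉ k) ∧
      ∀ q, 3 ≤ q → Fintype.card F = q ^ 2 → Nat.card k = q → P ≤ GU 5 F q →
        (∃ x y z, Tv P x ∧ Tv P y ∧ Tv P z ∧ tau x y z ∉ k) →
          GU 5 F q ⊓ specialLinear (Fin 5) F ≤ P

/-- The unitary case over the field with four elements. -/
def JobT2 : Prop :=
  ∀ (F : Type u) [Field F] [Fintype F] (P : Subgroup (GL (Fin 5) F)), QS P →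
    Fintype.card F = 2 ^ 2 → P ≤ GU 5 F 2 →
      (∃ x y z, Tv P x ∧ Tv P y ∧ Tv P z ∧ tau x y z ≠ 0 ∧ tau x y z ≠ 1) →
        GU 5 F 2 ⊓ specialLinear (Fin 5) F ≤ P

/-- Root groups of order two with an asymmetric pair. -/
def JobTA : Prop :=
  ∀ (F : Type u) [Field F] [Finite F] (P : Subgroup (GL (Fin 5) F)) (k : Subfield F), QS P →
    TS P k → Two k → CJ P k → Asym P → Lam P k

/-! ### No elements of rank one -/

/-- Sylow 2-subgroups. -/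
def JobSy : Prop :=
  ∀ (K : Type u) [Field K] [IsAlgClosed K] (P : Subgroup (GL (Fin 5) K)), Finite P → QS P →
    ((2 : K) = 0 → NoTv P → ∀ S : Sylow 2 (Bar P), ∀ a ∈ S, ∀ b ∈ S, ∀ c ∈ S, ⁅⁅a, b⁆, c⁆ = 1) ∧
    ((2 : K) ≠ 0 → (∀ x, ¬ Rf (PM P) x) →
      PRankLE 2 2 (Bar P) ∧ ∀ t ∈ P, t * t = 1 → t ≠ 1 → trc t = 1)

/-- The simple groups that occur in the two lists. -/
def InList (Γ : Type*) [Group Γ] : Prop :=
  (∃ (F : Type) (_ : Field F) (_ : Fintype F), 4 ≤ Fintype.card F ∧ Nonempty (Γ ≃* PSL(2, F))) ∨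
  (∃ (F : Type) (_ : Field F) (_ : Fintype F), Nonempty (Γ ≃* PSL(3, F))) ∨
  (∃ (F : Type) (_ : Field F) (_ : Fintype F) (q : ℕ), Fintype.card F = q ^ 2 ∧ 3 ≤ q ∧
    Nonempty (Γ ≃* PSU 3 F q)) ∨
  (∃ (F : Type) (_ : Field F) (_ : Fintype F), 4 ≤ Fintype.card F ∧ Nonempty (Γ ≃* PSp 2 F)) ∨
  Nonempty (Γ ≃* alternatingGroup (Fin 7)) ∨ IsM11 Γ ∨ Lie.IsoSuzuki Γ ∨ Lie.IsoRee Γ ∨
  Spor.IsoJ1 Γ

/-- No perfect central extension by a group of order five. -/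
def JobZC : Prop :=
  ∀ (Γ : Type u) [Group Γ] [Finite Γ] (Q : Type u) [Group Q] (π : Γ →* Q), Function.Surjective π →
    π.ker ≤ Subgroup.center Γ → commutator Γ = ⊤ → InList Q → ¬ 5 ∣ Nat.card π.ker

/-- The groups `L₂(r)`. -/
def JobL2 : Prop :=
  ∀ (F : Type) [Field F] [Fintype F] (p : ℕ), p.Prime → 4 ≤ Fintype.card F →
    (Odd (Fintype.card F) ∨ p = 2) → (Fintype.card F = 7 ∧ p ≠ 7) ∨
      (Fintype.card F = 11 ∧ p ≠ 11) ∨ All.{u} PSL(2, F) p Real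

/-- Scott's lemma and the small groups. -/
def JobSc : Prop :=
  ∀ p : ℕ, p.Prime → (p ≠ 7 → Non.{u} SL(3, ZMod 2) p ∧ Non.{u} (alternatingGroup (Fin 7)) p) ∧
    (p = 7 → All.{u} (alternatingGroup (Fin 7)) p Real) ∧ (p = 3 → Non.{u} SL(3, ZMod 3) p)

/-- The traces of `L₂(11)`. -/
def JobE1 : Prop :=
  ∀ p : ℕ, p.Prime → p ≠ 11 → All.{u} PSL(2, ZMod 11) p fun {K} _ P =>
    ∃ b : K, b ^ 2 + b + 3 = 0 ∧ Quad P b ∧ ∃ g ∈ P, trc g = b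

/-- `L₂(11)` is not maximal in `SL₅(3)`. -/
def JobE3 : Prop :=
  ∀ (F : Type u) [Field F] [Fintype F] (H P : Subgroup (GL (Fin 5) F)), Fintype.card F = 3 →
    IsResidualCore H P → Nonempty (Bar P ≃* PSL(2, ZMod 11)) →
      ¬ IsMaximalIn (specialLinear (Fin 5) F) H

/-- The groups `L₃(r)`. -/
def JobPL3 : Prop :=
  ∀ (F : Type) [Field F] [Fintype F] (p : ℕ), p.Prime → (Odd (Fintype.card F) ↔ p ≠ 2) →
    (4 ≤ Fintype.card F ∨ (Fintype.card F = 3 ∧ p ≠ 3)) → Non.{u} PSL(3, F) p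

/-- The groups `U₃(r)`. -/
def JobPU3 : Prop :=
  ∀ (F : Type) [Field F] [Fintype F] (q p : ℕ), p.Prime → Fintype.card F = q ^ 2 → 3 ≤ q →
    ((Odd q ↔ p ≠ 2) ∨ q = 4) → Non.{u} (PSU 3 F q) p

/-- The groups `Sp₄(2ⁿ)`. -/
def JobSp4 : Prop :=
  ∀ (F : Type) [Field F] [Fintype F] [CharP F 2], 4 ≤ Fintype.card F → Non.{u} (PSp 2 F) 2

/-- The Suzuki groups. -/
def JobSz : Prop :=
  ∀ (Γ : Type u) [Group Γ], Lie.IsoSuzuki Γ → All.{u} Γ 2 Real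

/-- The groups `J₁` and `²G₂(q)`. -/
def JobJR : Prop :=
  ∀ (Γ : Type u) [Group Γ], Lie.IsoRee Γ ∨ Spor.IsoJ1 Γ → Non.{u} Γ 2

/-- The group `M₁₁`. -/
def JobM11 : Prop :=
  ∀ (Γ : Type u) [Group Γ] [Finite Γ], IsM11 Γ → Spor.IsoM11 Γ ∧ ∀ p : ℕ, p.Prime → p ≠ 2 →
    All.{u} Γ p fun P => p = 3 ∧ ∀ g ∈ P, trc g ^ 3 = trc g

end H41.LD
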