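/- S3275, chapter U0 section A: job UL. -/
import Cfsg.Agent.H26.DP0ASpec
import Cfsg.Agent.H2.PrimeCore

set_option autoImplicit false

namespace H41.DaUL

open Subgroup Cfsg H98 H48.DP H57.DPC H48.DP2 H26.DA

universe u

theorem e27_map {A B : Type u} [Group A] [Group B] {f : A →* B} (hf : Function.Injective f)
    {C : Subgroup A} : E27 (C.map f) ↔ E27 C := by
  constructor
  · rintro ⟨⟨h1, h2⟩, h3⟩
    refine ⟨⟨⟨⟨fun a b => Subtype.ext (hf ?_)⟩⟩, fun a ha => hf ?_⟩, ?_⟩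
    · have := congrArg Subtype.val (h1.1.1 ⟨f a, a, a.2, rfl⟩ ⟨f b, b, b.2, rfl⟩)
      simpa using this
    · rw [map_pow, map_one]; exact h2 _ ⟨a, ha, rfl⟩
    · rwa [card_map_of_injective hf] at h3
  · rintro ⟨⟨h1, h2⟩, h3⟩
    refine ⟨⟨⟨⟨?_⟩⟩, ?_⟩, ?_⟩
    · rintro ⟨_, a, ha, rfl⟩ ⟨_, b, hb, rfl⟩
      have c : a * b = b * a := congrArg Subtype.val (h1.1.1 ⟨a, ha⟩ ⟨b, hb⟩)
      have e : f a * f b = f b * f a := by rw [← map_mul, c, map_mul]
      exact Subtype.ext e
    · rintro _ ⟨a, ha, rfl⟩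
      rw [← map_pow, h2 a ha, map_one]
    · rwa [card_map_of_injective hf]

theorem jobUL : JobUL.{u} := by
  rintro G _ _ M P hP hPM ⟨B, hB, e27, un⟩
  have : Fact (Nat.Prime 3) := ⟨Nat.prime_three⟩
  let f : P →* M ⧸ pPrimeCore 3 M := (pm M).comp (inclusion hPM)
  have hf : Function.Injective f := by
    rw [injective_iff_map_eq_one]
    intro x hx
    have m : inclusion hPM x ∈ pPrimeCore 3 M := (QuotientGroup.eq_one_iff _).1 hx
    obtain ⟨k, hk⟩ := (IsPGroup.iff_orderOf.1 hP) x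
    have d := orderOf_dvd_natCard _ m
    rw [orderOf_injective _ (inclusion_injective hPM), hk] at d
    have c : (Nat.card (pPrimeCore 3 M)).Coprime 3 := H2.coprime_card_pPrimeCore 3 M
    rw [← orderOf_eq_one_iff, hk]
    exact Nat.Coprime.eq_one_of_dvd (c.symm.pow_left k) d
  have r : f.range = (P.subgroupOf M).map (pm M) := by
    rw [MonoidHom.range_comp, inclusion_range]
  refine ⟨(B.comap f).map P.subtype, map_subtype_le _, ?_, fun B' h1 h2 => ?_⟩
  · rw [e27_map P.subtype_injective, ← e27_map hf, map_comap_eq_self (r ▸ hB)]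
    exact e27
  · rw [← map_subgroupOf_eq_of_le h1] at h2 ⊢
    rw [e27_map P.subtype_injective, ← e27_map hf] at h2
    rw [← un _ (r ▸ map_le_range _ _) h2, comap_map_eq_self_of_injective hf]

end H41.DaUL
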