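import Cfsg.Agent.H31.O7A
import Cfsg.Agent.H39.Sp6M

/-! O7, chapter A: the rotation subgroup of the Weyl group of type `E₇` is `Sp₆(2)`. -/

set_option autoImplicit false
set_option linter.unusedSectionVars false

namespace H41.E7

open H56 QuadraticMap Module H31.O7 Finset

universe u

/-- Doubled coordinates. -/
abbrev Z8 := Fin 8 → ℤ

def dot (c d : Z8) : ℤ := ∑ i, c i * d i

def rf (r c : Z8) : Z8 := fun i => c i - dot r c / 4 * r i

/-- The simple roots. -/
def bb : Fin 7 → Z8 := ![![0, 2, -2, 0, 0, 0, 0, 0],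
  ![-1, -1, -1, -1, 1, 1, 1, 1],
  ![0, 0, 2, -2, 0, 0, 0, 0],
  ![0, 0, 0, 2, -2, 0, 0, 0],
  ![0, 0, 0, 0, 2, -2, 0, 0],
  ![0, 0, 0, 0, 0, 2, -2, 0],
  ![0, 0, 0, 0, 0, 0, 2, -2]]

/-- Twice the inverse of the Cartan matrix. -/
def ia : Fin 7 → Fin 7 → ℤ := ![![4, 4, 6, 8, 6, 4, 2],
  ![4, 7, 8, 12, 9, 6, 3],
  ![6, 8, 12, 16, 12, 8, 4],
  ![8, 12, 16, 24, 18, 12, 6],
  ![6, 9, 12, 18, 15, 10, 5],
  ![4, 6, 8, 12, 10, 8, 4],
  ![2, 3, 4, 6, 5, 4, 3]]

/-- The other positive roots, each as the image of an earlier one. -/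
def ch0 : List (Fin 7 × ℕ × ℕ) :=
  [(0, 195360, 195320), (2, 195560, 195360), (3, 196560, 195560), (4, 201560, 196560),
  (4, 104216, 99216), (5, 226560, 201560), (5, 129216, 104216), (6, 351560, 226560),
  (5, 130216, 105216), (6, 254216, 129216), (1, 254216, 351560), (5, 130416, 105416),
  (6, 255216, 130216), (3, 255216, 254216), (5, 130456, 105456), (6, 255416, 130416),
  (6, 260216, 135216), (4, 260216, 255216), (6, 255456, 130456), (6, 260416, 135416),
  (4, 260416, 255416), (5, 285216, 260216), (6, 260456, 135456), (4, 260456, 255456),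
  (6, 261416, 136416), (5, 285416, 260416), (2, 285416, 285216), (6, 261456, 136456),
  (5, 285456, 260456), (6, 164072, 39072), (5, 286416, 261416), (3, 286416, 285416),
  (6, 164112, 39112), (6, 261656, 136656), (5, 286456, 261456), (3, 286456, 285456),
  (5, 189072, 164072), (4, 291416, 286416), (6, 164312, 39312), (5, 189112, 164112),
  (5, 286656, 261656), (4, 291456, 286456), (4, 194072, 189072), (1, 194072, 291416),
  (6, 165312, 40312), (5, 189312, 164312), (4, 194112, 189112), (4, 291656, 286656),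
  (2, 291656, 291456), (3, 195072, 194072), (6, 170312, 45312), (5, 190312, 165312),
  (4, 194312, 189312), (3, 195112, 194112), (3, 292656, 291656), (2, 195272, 195072)]

def dec (n : ℕ) : Z8 := fun i => (n / 5 ^ i.1 % 5 : ℕ) - 2

def ch : List (Fin 7 × Z8 × Z8) := ch0.map fun t => (t.1, dec t.2.1, dec t.2.2)

def Rt (c : Z8) : Prop := ∑ i, c i = 0 ∧ dot c c = 8

instance (c : Z8) : Decidable (Rt c) := by unfold Rt; infer_instance

def Ok : List (Fin 7 × Z8 × Z8) → Prop
  | [] => True
  | t :: L => ((∃ i, bb i = t.2.1) ∨ t.2.1 ∈ L.map (·.2.2)) ∧ Rt t.2.1 ∧ 4 ∣ dot (bb t.1) t.2.1 ∧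
      t.2.2 = rf (bb t.1) t.2.1 ∧ Ok L

instance decOk : ∀ L, Decidable (Ok L)
  | [] => isTrue trivial
  | _ :: L => have := decOk L; by unfold Ok; infer_instance

theorem ch_ok : Ok ch := by decide +kernel

/-- The list contains the vector or its negative. -/
def Mem (c : Z8) : Prop := ∃ d ∈ List.ofFn bb ++ ch.map (·.2.2), d = c ∨ d = -c

instance (c : Z8) : Decidable (Mem c) := by unfold Mem; infer_instance

def eA (i j : Fin 8) : Z8 := fun k => (if k = i then 2 else 0) - if k = j then 2 else 0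

def eT (T : Finset (Fin 8)) : Z8 := fun k => if k ∈ T then 1 else -1

theorem memA : ∀ i j, i ≠ j → Mem (eA i j) ∧ Rt (eA i j) := by decide +kernel

theorem memT : ∀ T : Finset (Fin 8), T.card = 4 → Mem (eT T) ∧ Rt (eT T) := by decide +kernel

theorem bb_rt : ∀ i, Rt (bb i) := by decide +kernel

theorem bb_dvd : ∀ i j, 4 ∣ dot (bb i) (bb j) := by decide +kernel

theorem bb_inv : ∀ k i, ∑ j, ia k j * (dot (bb i) (bb j) / 4) = if i = k then 2 else 0 := by
  decide +kernel

theorem bb_cox : ∀ i j, CoxeterMatrix.E₇ i j = 1 ∧ i = j ∨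
    CoxeterMatrix.E₇ i j = 2 ∧ rf (bb i) (bb j) = bb j ∨
    CoxeterMatrix.E₇ i j = 3 ∧ rf (bb i) (bb j) = rf (bb j) (bb i) := fun i j =>
  have : ∀ i j, (CoxeterMatrix.E₇.M i j == 1 && i == j ||
    (CoxeterMatrix.E₇.M i j == 2 && decide (rf (bb i) (bb j) = bb j) ||
    CoxeterMatrix.E₇.M i j == 3 && decide (rf (bb i) (bb j) = rf (bb j) (bb i)))) = true := by
    decide +kernel
  by simpa using this i j

theorem bb_re : ∀ i, (∃ k l, k ≠ l ∧ bb i = eA k l) ∨ bb i = eT {4, 5, 6, 7} := by decide +kernel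

variable {K : Type u} [Field K] {V : Type u} [AddCommGroup V] [Module K V] {Q : QuadraticForm K V}
  {N : K} {x : Fin 8 → V}

variable (K) in
/-- The vector with the given doubled coordinates. -/
def vec (x : Fin 8 → V) (c : Z8) : V := (2 : K)⁻¹ • ∑ i, (c i : K) • x i

theorem vec_neg (c : Z8) : vec K x (-c) = -vec K x c := by simp [vec]

variable (h2 : (2 : K) ≠ 0)
include h2

theorem vec_eA (i j : Fin 8) : vec K x (eA i j) = x i - x j := by
  simp [vec, eA, sub_smul, smul_sub, ite_smul, smul_smul, h2]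

theorem vec_eT {T : Finset (Fin 8)} {v : V} :
    (2 : K) • v = (∑ i, if i ∈ T then x i else -x i) ↔ v = vec K x (eT T) := by
  rw [vec, eq_inv_smul_iff₀ h2]
  simp [eT, ite_smul]

variable (hx : Sx Q x N)
include hx

theorem polar_vec {c d : Z8} (hc : ∑ i, c i = 0) (hd : ∑ i, d i = 0) :
    4 * polar Q (vec K x c) (vec K x d) = N * dot c d := by
  have k : ∀ i j, polar Q (x i) (x j) = Q (x i) + Q (x j) - N + if i = j then N else 0 := fun i j => by
    split_ifs with e
    · rw [e, polar_self']; ring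
    · rw [← hx i j e, Q_sub]; ring
  have c0 : ∑ i, (c i : K) = 0 := by exact_mod_cast congrArg (Int.cast : ℤ → K) hc
  have d0 : ∑ i, (d i : K) = 0 := by exact_mod_cast congrArg (Int.cast : ℤ → K) hd
  have e : polar Q (∑ i, (c i : K) • x i) (∑ i, (d i : K) • x i) = N * dot c d := by
    rw [← polarBilin_apply_apply]
    simp only [map_sum, map_smul, LinearMap.sum_apply, LinearMap.smul_apply, polarBilin_apply_apply,
      smul_eq_mul, k, mul_add, mul_sub, sum_add_distrib, sum_sub_distrib, mul_ite, mul_zero,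
      sum_ite_eq', mem_univ, if_true, ← sum_mul, c0, d0, zero_mul, sum_const_zero, dot]
    push_cast
    rw [mul_sum]
    simp [mul_comm, mul_left_comm, mul_assoc]
  rw [vec, vec, polar_smul_left, polar_smul_right, e, smul_eq_mul, smul_eq_mul]
  field_simp
  norm_num

theorem Q_vec {c : Z8} (hc : Rt c) : Q (vec K x c) = N := by
  have := polar_vec h2 hx hc.1 hc.1
  rw [polar_self', hc.2] at this
  apply mul_left_cancel₀ (pow_ne_zero 3 h2)
  push_cast at this
  linear_combination this

theorem polar_vec' {c d : Z8} (hc : ∑ i, c i = 0) (hd : ∑ i, d i = 0) (h : 4 ∣ dot c d) :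
    polar Q (vec K x c) (vec K x d) = N * (dot c d / 4 : ℤ) := by
  have := polar_vec h2 hx hc hd
  obtain ⟨k, hk⟩ := h
  rw [hk] at this
  rw [hk, Int.mul_ediv_cancel_left _ four_ne_zero]
  apply mul_left_cancel₀ (pow_ne_zero 2 h2)
  push_cast at this
  linear_combination this

variable (hN : N ≠ 0)
include hN

theorem refl_vec {r c : Z8} (hr : Rt r) (hc : Rt c) (h : 4 ∣ dot r c) :
    refl Q (vec K x r) (vec K x c) = vec K x (rf r c) := by
  rw [refl_apply, Q_vec h2 hx hr, polar_vec' h2 hx hr.1 hc.1 h, inv_mul_cancel_left₀ hN]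
  simp only [vec, rf, Int.cast_sub, Int.cast_mul, sub_smul, sum_sub_distrib, smul_sub, mul_smul,
    ← smul_sum]
  rw [smul_comm]

theorem conj_vec {r c : Z8} (hr : Rt r) (hc : Rt c) (h : 4 ∣ dot r c) :
    refl Q (vec K x r) * refl Q (vec K x c) * refl Q (vec K x r) = refl Q (vec K x (rf r c)) := by
  rw [← refl_vec h2 hx hN hr hc h, ← conj_refl, refl_inv]

omit h2 hx hN in
theorem neg_mul_neg (a b : O Q) : O.negOne Q * a * (O.negOne Q * b) = a * b := O.ext fun v => by simp

theorem all_mem {M : Subgroup (O Q)} (hM : ∀ i, O.negOne Q * refl Q (vec K x (bb i)) ∈ M) {c : Z8}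
    (hc : Mem c) : O.negOne Q * refl Q (vec K x c) ∈ M := by
  have k : ∀ L, Ok L → ∀ d ∈ L.map (·.2.2), O.negOne Q * refl Q (vec K x d) ∈ M := fun L => by
    induction L with
    | nil => simp
    | cons t L ih =>
      rintro ⟨a, b, c, e, f⟩ d hd
      rcases List.mem_cons.1 hd with rfl | hd
      · have m : O.negOne Q * refl Q (vec K x t.2.1) ∈ M :=
          a.elim (fun ⟨i, hi⟩ => hi ▸ hM i) (ih f _)
        simp only
        rw [e, ← conj_vec h2 hx hN (bb_rt _) b c]
        convert mul_mem (hM t.1) (mul_mem m (hM t.1)) using 1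
        rw [neg_mul_neg]
        simp only [mul_assoc]
      · exact ih f d hd
  obtain ⟨d, hd, e⟩ := hc
  have m : O.negOne Q * refl Q (vec K x d) ∈ M := by
    rcases List.mem_append.1 hd with hd | hd
    · obtain ⟨i, rfl⟩ := List.mem_ofFn.1 hd
      exact hM i
    · exact k _ ch_ok d hd
  rcases e with rfl | rfl
  exacts [m, by rwa [vec_neg, refl_neg] at m]

theorem span_bb (hd : finrank K V = 7) :
    Submodule.span K (Set.range fun i => vec K x (bb i)) = ⊤ := by
  refine LinearIndependent.span_eq_top_of_card_eq_finrank (Fintype.linearIndependent_iff.2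
    fun a ha k => ?_) (by simp [hd])
  have e : ∀ j, ∑ i, a i * (dot (bb i) (bb j) / 4 : ℤ) = 0 := fun j => by
    have := congrArg (fun v => Q.polarBilin v (vec K x (bb j))) ha
    simp only [map_sum, map_smul, LinearMap.sum_apply, LinearMap.smul_apply, polarBilin_apply_apply,
      smul_eq_mul, map_zero, LinearMap.zero_apply,
      polar_vec' h2 hx (bb_rt _).1 (bb_rt _).1 (bb_dvd _ _), mul_left_comm _ N, ← mul_sum] at this
    exact (mul_eq_zero.1 this).resolve_left hN
  have e1 : ∑ j, (ia k j : K) * ∑ i, a i * (dot (bb i) (bb j) / 4 : ℤ) = 0 := by simp only [e]; simp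
  simp only [mul_sum, mul_left_comm _ (a _)] at e1
  rw [sum_comm] at e1
  simp only [← mul_sum, ← Int.cast_mul, ← Int.cast_sum, bb_inv] at e1
  simpa [h2] using e1

theorem cent [FiniteDimensional K V] (hd : finrank K V = 7) {z : O Q} (hz : O.det Q z = 1)
    (h : ∀ i, Commute z (refl Q (vec K x (bb i)))) : z = 1 := by
  have k : ∀ i, ∃ l : K, l * l = 1 ∧ z (vec K x (bb i)) = l • vec K x (bb i) := fun i => by
    have q := Q_vec h2 hx (bb_rt i)
    have e := DFunLike.congr_fun (h i).eq (vec K x (bb i))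
    rw [O.mul_apply, O.mul_apply, refl_apply_self (q ▸ hN), map_neg, refl_apply] at e
    generalize vec K x (bb i) = g at *
    have e1 : z g = ((2 : K)⁻¹ * ((Q g)⁻¹ * polar Q g (z g))) • g := by
      rw [mul_smul, eq_inv_smul_iff₀ h2, two_smul, ← sub_neg_eq_add, e, sub_sub_cancel]
    refine ⟨_, mul_right_cancel₀ hN ?_, e1⟩
    rw [← q, ← Q_smul, ← e1, O.map_Q, one_mul]
  choose l l1 l2 using k
  have a : ∀ i j, dot (bb i) (bb j) / 4 = -1 → l i = l j := fun i j e => by
    have := z.map_polar (vec K x (bb i)) (vec K x (bb j))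
    rw [l2, l2, polar_smul_left, polar_smul_right,
      polar_vec' h2 hx (bb_rt _).1 (bb_rt _).1 (bb_dvd _ _), e, smul_eq_mul, smul_eq_mul] at this
    apply mul_left_cancel₀ hN
    push_cast at this
    linear_combination -(l j) * this - N * l i * l1 j
  have b : ∀ i, l i = l 3 := fun i => by
    have a0 := a 0 2 (by decide)
    have a1 := a 1 3 (by decide)
    have a2 := a 2 3 (by decide)
    have a4 := a 4 3 (by decide)
    have a5 := a 5 4 (by decide)
    have a6 := a 6 5 (by decide)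
    fin_cases i
    exacts [a0.trans a2, a1, a2, rfl, a4, a5.trans a4, a6.trans (a5.trans a4)]
  have e : z.lin = l 3 • LinearMap.id := LinearMap.ext_on_range (span_bb h2 hx hN hd) fun i => by
    simp [l2, b i]
  rw [O.det_eq_one_iff, e, LinearMap.det_smul, hd, LinearMap.det_id, mul_one] at hz
  have e1 : l 3 = 1 := by
    linear_combination hz - l 3 * ((l 3) ^ 4 + (l 3) ^ 2 + 1) * l1 3
  exact O.ext fun v => by simpa [e1] using LinearMap.congr_fun e v

end H41.E7

namespace H41.E7

open H56 QuadraticMap Module H31.O7 Finset H39.Sp6 H22.Sp6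

universe u

theorem jobE7 : JobE7.{u} := by
  intro K _ V _ _ _ Q h2 hQ hd N x hN hx
  have re : ∀ v ∈ RE (K := K) x, ∃ c, Mem c ∧ Rt c ∧ v = vec K x c := by
    rintro v (⟨i, j, e, rfl⟩ | ⟨T, e, k⟩)
    exacts [⟨_, (memA i j e).1, (memA i j e).2, (vec_eA h2 i j).symm⟩,
      ⟨_, (memT T e).1, (memT T e).2, (vec_eT h2).1 k⟩]
  have m : ∀ i, O.negOne Q * refl Q (vec K x (bb i)) ∈ Mg Q (RE (K := K) x) := fun i =>
    Subgroup.subset_closure ⟨_, by
      rcases bb_re i with ⟨k, l, a, e⟩ | e <;> rw [e]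
      exacts [.inl ⟨k, l, a, vec_eA h2 k l⟩, .inr ⟨_, by decide, (vec_eT h2).2 rfl⟩], rfl⟩
  have dt : Mg Q (RE (K := K) x) ≤ (O.det Q).ker := (Subgroup.closure_le _).2 (by
    rintro _ ⟨v, hv, rfl⟩
    obtain ⟨c, -, hc, rfl⟩ := re v hv
    have : O.det Q (O.negOne Q) = -1 := Units.ext (by
      rw [O.val_det, show (O.negOne Q).lin = (-1 : K) • LinearMap.id from by ext; simp,
        LinearMap.det_smul, hd]
      norm_num)
    simp [MonoidHom.mem_ker, this, O.det_refl ((Q_vec h2 hx hc).trans_ne hN)])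
  obtain ⟨j, hj, hs⟩ := exists_hom (G := Mg Q (RE (K := K) x)) (s := fun i => ⟨_, m i⟩)
    (fun a b => Subtype.ext (by
      rw [Subgroup.coe_pow, Subgroup.coe_mul, neg_mul_neg, Subgroup.coe_one]
      have c1 := conj_vec h2 hx hN (bb_rt a) (bb_rt b) (bb_dvd a b)
      have c2 := conj_vec h2 hx hN (bb_rt b) (bb_rt a) (bb_dvd b a)
      rcases bb_cox a b with ⟨e, rfl⟩ | ⟨e, k⟩ | ⟨e, k⟩ <;> rw [e]
      · simp
      · rw [k] at c1
        rw [pow_two, ← mul_assoc, c1, refl_mul_self]
      · rw [k] at c1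
        rw [pow_three, ← mul_assoc, ← mul_assoc, ← mul_assoc, c1, mul_assoc, mul_assoc,
          ← mul_assoc (refl Q (vec K x (bb b))), c2, refl_mul_self]))
    (fun z hz => Subtype.ext (cent h2 hx hN hd (dt z.2) fun i => O.ext fun v => by
      have := DFunLike.congr_fun (congrArg Subtype.val (hz i).eq) v
      simpa using this))
    fun e => by
      have q := Q_vec h2 hx (bb_rt 6)
      have := DFunLike.congr_fun (congrArg Subtype.val e) (vec K x (bb 6))
      simp only [O.mul_apply, O.negOne_apply, Subgroup.coe_one, O.one_apply] at this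
      rw [refl_vec h2 hx hN (bb_rt 0) (bb_rt 6) (bb_dvd 0 6), show rf (bb 0) (bb 6) = bb 6 by decide,
        neg_eq_iff_add_eq_zero, ← two_smul K, smul_eq_zero, or_iff_right h2] at this
      exact hN (by rw [← q, this, map_zero])
  have su : Function.Surjective j := fun g => by
    have : Mg Q (RE (K := K) x) ≤ j.range.map (Subgroup.subtype _) := (Subgroup.closure_le _).2 (by
      rintro _ ⟨v, hv, rfl⟩
      obtain ⟨c, hc, -, rfl⟩ := re v hv
      exact all_mem h2 hx hN (M := j.range.map (Subgroup.subtype _))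
        (fun i => ⟨_, ⟨_, hs i⟩, rfl⟩) hc)
    obtain ⟨y, ⟨w, rfl⟩, e⟩ := this g.2
    exact ⟨w, Subtype.ext e⟩
  exact nonempty_equiv.elim fun e => ⟨((MulEquiv.ofBijective j ⟨hj, su⟩).symm.trans e).trans
    H69.Std.pspEquiv.symm⟩

end H41.E7
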