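import Cfsg.Agent.H41.C3Spec
import Cfsg.Agent.H39.Sp6D
import Cfsg.Agent.H78.XSMap
import Cfsg.Agent.H98.Core
import Cfsg.Agent.H10.CharP
import Cfsg.Agent.H2.MinNormal
import Cfsg.Agent.S1675

/-! Assembly of the blueprint `CO2T.md` (§13). -/

set_option autoImplicit false
open Cfsg H44 H56.L3 H42.L3 H98 H14 Subgroup
open scoped commutatorElement

namespace H41.C3

universe u
variable {G : Type u} [Group G] {ψ : HS L24 →* G} {r : G}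

theorem L0.vv_zero (h : L0 ψ r) : vv ψ r 0 = 1 := by
  have := h.add 0 0
  rw [add_zero] at this
  exact left_eq_mul.1 this

theorem L0.vv_ne_one (h : L0 ψ r) {x : J4} (hx : x ≠ 0) : vv ψ r x ≠ 1 :=
  fun e => hx (h.inj (e.trans h.vv_zero.symm))

theorem L0.isPGroup (h : L0 ψ r) : IsPGroup 3 (JG ψ r) := fun g => by
  obtain ⟨x, hx⟩ := (h.mem g).1 g.2
  refine ⟨1, Subtype.ext ?_⟩
  have e : x + x + x = 0 := (by decide +kernel : ∀ x : J4, x + x + x = 0) x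
  have : (g : G) ^ 3 = 1 := by
    rw [← hx, pow_succ, pow_two, ← h.add, ← h.add, e, h.vv_zero]
  simpa using this

theorem vv_B (j : J3) : vv ψ r (0, j) = ψ (ιK6 ⟨j, 1⟩) := by simp [vv]

theorem center_bot (h0 : L0 ψ r) (h1 : L1 ψ r) : center G = ⊥ := by
  refine eq_bot_iff.2 fun c hc => ?_
  obtain ⟨x, rfl⟩ := (h0.mem c).1 (h0.cJ fun g _ => (mem_center_iff.1 hc g))
  obtain ⟨g, hg⟩ := h1.real (2, 0, 0, 0) (0, 2, 0, 0) (0, 0, 2, 0) (0, 0, 0, 2)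
    (by decide +kernel) (by decide +kernel)
  have e := hg x
  rw [mem_center_iff.1 hc g, mul_inv_cancel_right] at e
  have : x = 0 := (by decide +kernel : ∀ x : J4,
    x = ap4 (2, 0, 0, 0) (0, 2, 0, 0) (0, 0, 2, 0) (0, 0, 0, 2) x → x = 0) x (h0.inj e)
  rw [this, h0.vv_zero]
  exact one_mem _

variable [Finite G]

theorem normal_meets (h0 : L0 ψ r) (h1 : L1 ψ r) {O : Subgroup G} [O.Normal] (hO : O ≠ ⊥) :
    ∃ x, x ≠ 0 ∧ vv ψ r x ∈ O := by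
  have := Fact.mk Nat.prime_three
  obtain ⟨P, hP, hJ⟩ := exists_isSyl_le h0.isPGroup (le_top : JG ψ r ≤ ⊤)
  have hn : P ≤ nr O := le_normalizer_of_normal
  have h2 : O ⊓ P ≠ ⊥ := fun e => hO (h1.sig O (coprime_of_inf hP le_top hn (by rwa [inf_comm]))
    fun j _ k hk => ‹O.Normal›.conj_mem k hk j)
  have := hP.isPGroup.isNilpotent
  obtain ⟨⟨g, ⟨hg1, hg0⟩, hg2⟩, hg⟩ :=
    ne_bot_iff_exists_ne_one.1 (H2.inf_inf_centralizer_ne_bot hn h2)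
  obtain ⟨x, hx⟩ := (h0.mem g).1 (h0.cJ (centralizer_anti hJ hg2))
  exact ⟨x, fun e => hg (Subtype.ext (by simp [← hx, e, h0.vv_zero])), hx ▸ hg1⟩

theorem normal_B (h0 : L0 ψ r) (h1 : L1 ψ r) (k0 : K0 ψ r) {O : Subgroup G} [hn : O.Normal]
    (hO : O ≠ ⊥) : ∃ j, dot j (pt 0) ≠ 0 ∧ ψ (ιK6 ⟨j, 1⟩) ∈ O := by
  have mv : ∀ {g : G} {M : J4 → J4} {x : J4}, Acts ψ r g M → x ≠ 0 → vv ψ r x ∈ O →
      M x ≠ 0 ∧ vv ψ r (M x) ∈ O := fun {g M x} hg hx hm =>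
    ⟨fun e => h0.vv_ne_one hx (by
      have := hg x
      rw [e, h0.vv_zero] at this
      simpa [mul_inv_eq_iff_eq_mul] using this), hg x ▸ hn.conj_mem _ hm g⟩
  obtain ⟨x, hx, hm⟩ := normal_meets h0 h1 hO
  have h2 : ∃ x : J4, x.1 = 0 ∧ x ≠ 0 ∧ vv ψ r x ∈ O := by
    by_cases e : x.1 = 0
    · exact ⟨x, e, hx, hm⟩
    obtain ⟨k, hk⟩ := (by decide +kernel : ∀ x : J4, x.1 ≠ 0 → ∃ k : K48,
      (mR (x.1, k • x.2)).1 = 0 ∨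
      (ap4 (0, 0, 0, 1) (1, 0, 0, 0) (0, 1, 1, 0) (0, 1, 2, 0) (x.1, k • x.2)).1 = 0) x e
    obtain ⟨g, -, hg⟩ := k0.lift k
    obtain ⟨h3, h4⟩ := mv hg hx hm
    rcases hk with hk | hk
    · exact ⟨_, hk, mv h0.aR h3 h4⟩
    · obtain ⟨g', hg'⟩ := h1.real (0, 0, 0, 1) (1, 0, 0, 0) (0, 1, 1, 0) (0, 1, 2, 0)
        (by decide +kernel) (by decide +kernel)
      exact ⟨_, hk, mv hg' h3 h4⟩
  obtain ⟨⟨a, j⟩, rfl, h3, h4⟩ := h2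
  obtain ⟨k, hk⟩ := (by decide +kernel : ∀ j : J3, j ≠ 0 → ∃ k : K48, dot (k • j) (pt 0) ≠ 0) j
    fun e => h3 (by rw [e]; rfl)
  obtain ⟨g, -, hg⟩ := k0.lift k
  exact ⟨_, hk, vv_B (r := r) (k • j) ▸ (mv hg h3 h4).2⟩

theorem oddCore_bot (h0 : L0 ψ r) (h1 : L1 ψ r) (k0 : K0 ψ r) : oddCore G = ⊥ := by
  by_contra hO
  obtain ⟨j, hj, hm⟩ := normal_B h0 h1 k0 hO
  obtain ⟨x, hx, y, hy, hxy⟩ := (k0.xs 0).nonab
  have hc : Commute x (ψ (ιK6 ⟨j, 1⟩)) := by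
    have h2 : ⁅x, ψ (ιK6 ⟨j, 1⟩)⁆ ∈ oddCore G := by
      rw [commutatorElement_def]
      exact mul_mem (Normal.conj_mem inferInstance _ hm x) (inv_mem hm)
    have h3 : ⁅x, ψ (ιK6 ⟨j, 1⟩)⁆ ∈ Ex ψ r (pt 0) := by
      rw [commutatorElement_def, mul_assoc, mul_assoc, ← mul_assoc (ψ _)]
      exact mul_mem hx (conj_mem_of_mem_normalizer (k0.nB 0 ⟨⟨j, 1⟩, rfl, rfl⟩) (inv_mem hx))
    have h4 := (k0.xs 0).pow_four h3
    have h5 : (orderOf ⁅x, ψ (ιK6 ⟨j, 1⟩)⁆).Coprime 2 :=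
      (H2.coprime_card_pPrimeCore (p := 2) (G := G)).coprime_dvd_left
        (orderOf_dvd_natCard _ h2)
    have h6 : orderOf ⁅x, ψ (ιK6 ⟨j, 1⟩)⁆ = 1 :=
      Nat.Coprime.eq_one_of_dvd (h5.pow_right 2) (orderOf_dvd_of_pow_eq_one h4)
    exact commutatorElement_eq_one_iff_commute.1 (orderOf_eq_one_iff.1 h6)
  obtain ⟨n, rfl⟩ := k0.fpf 0 j hj x hx hc
  exact hxy ((Commute.zpow_left ((k0.xs 0).z_comm y hy) n).eq)

theorem caseA_false (k1 : K1 ψ r) (cb : CB ψ r) (hK : Ce (tG ψ r) ≤ nr (EG ψ r)) {X : Type*}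
    [Group X] {π : NG ψ r →* X} {φ : SD J3 K48 →* X} {ψ' : HS L48 →* X} (xt : XT ψ r π φ ψ')
    (hA : Ce (φ (vc 0 0 1)) ≤ φ.range) : False := by
  obtain ⟨w, ho, h1, h2⟩ := cb.five
  have hw : w ∈ NG ψ r := ⟨mem_Ce.2 h1.eq, hK (mem_Ce.2 h1.eq)⟩
  have he : ψ (ιK6 (vc 1 0 0)) ∈ NG ψ r := k1.psi ⟨_, rfl⟩
  have h3 : π ⟨w, hw⟩ ∈ Ce (φ (vc 1 0 0)) := by
    have e : π ⟨_, he⟩ = φ (vc 1 0 0) := xt.cmp (vc 1 0 0) ⟨_, he⟩ rfl
    rw [mem_Ce, ← e, ← map_mul, ← map_mul]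
    exact congrArg π (Subtype.ext h2.eq)
  obtain ⟨m, hm⟩ : ∃ m : SD J3 K48, m * vc 1 0 0 * m⁻¹ = vc 0 0 1 := by decide +kernel
  have h4 := conj_mem_Ce h3 (φ m)
  rw [← map_inv, ← map_mul, ← map_mul, hm] at h4
  obtain ⟨n, hn⟩ := hA h4
  have h5 : (⟨w, hw⟩ : NG ψ r) ^ 5 = 1 := Subtype.ext (by simp [← ho])
  have h6 : n ^ 5 = 1 := xt.ctx.inj (by
    rw [map_pow, hn, map_inv, conj_pow, ← map_pow, h5]; simp)
  have h7 : n = 1 := (by decide +kernel : ∀ n : SD J3 K48, n ^ 5 = 1 → n = 1) n h6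
  rw [h7, map_one, map_inv, eq_comm, mul_inv_eq_one, mul_eq_left] at hn
  have h8 := orderOf_dvd_of_pow_eq_one (k1.xs.pow_four ((xt.ker _).1 hn))
  rw [ho] at h8
  omega

theorem final (h0 : L0 ψ r) (h1 : L1 ψ r) (k0 : K0 ψ r) (cb : CB ψ r) (k1 : K1 ψ r)
    (sc : SC0 (tG ψ r) (EG ψ r) (NG ψ r)) (hK : Ce (tG ψ r) ≤ nr (EG ψ r)) {X : Type u}
    [Group X] [Finite X] {π : NG ψ r →* X} {φ : SD J3 K48 →* X} {ψ' : HS L48 →* X}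
    (xt : XT ψ r π φ ψ') : Spor.IsoCo2 G := by
  have := Fact.mk Nat.prime_two
  obtain ⟨lam, hB⟩ := xt.cases.resolve_left (caseA_false k1 cb hK xt)
  obtain ⟨e⟩ := H39.L3.job48BP X φ ψ' lam xt.ctx.toLocR xt.ctx.hu hB
  have hN : Ce (tG ψ r) = NG ψ r := (inf_eq_left.2 hK).symm
  have hE : EG ψ r ≤ Ce (tG ψ r) := fun x hx => mem_Ce.2 (k1.xs.z_comm x hx).symm
  have hO : pCoreOf 2 (Ce (tG ψ r)) = EG ψ r := by
    refine le_antisymm (sc.sig _ (pCoreOf_le _) ?_ (hN ▸ self_le_normalizer_pCoreOf _))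
      (le_pCoreOf k1.xs.isPGroup hE hK)
    obtain ⟨n, hn⟩ := IsPGroup.iff_card.1 (isPGroup_pCoreOf (p := 2) (Ce (tG ψ r)))
    rw [hn]
    exact Nat.Coprime.pow_left n (by decide)
  have hP : pCore 2 (Ce (tG ψ r)) = (EG ψ r).subgroupOf (Ce (tG ψ r)) := by
    rw [← pCoreOf_subgroupOf, hO]
  let π' : Ce (tG ψ r) →* X := π.comp (MulEquiv.subgroupCongr hN).toMonoidHom
  have hs : Function.Surjective π' := xt.surj.comp (MulEquiv.subgroupCongr hN).surjective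
  have hk : pCore 2 (Ce (tG ψ r)) = π'.ker := by
    rw [hP]
    ext g
    exact (xt.ker (MulEquiv.subgroupCongr hN g)).symm
  refine Cfsg.Agent.S1675.result (oddCore_bot h0 h1 k0) (center_bot h0 h1) (tG ψ r)
    k1.xs.orderOf_z (H10.IsCharP.isPConstrained fun g hg => ?_) ?_ ?_
    ((QuotientGroup.quotientMulEquivOfEq hk).trans
      ((QuotientGroup.quotientKerEquivOfSurjective π' hs).trans e))
  · rw [hP] at hg ⊢
    refine sc.cen g (hN ▸ g.2) fun x hx => ?_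
    have : (⟨x, hE hx⟩ : Ce (tG ψ r)) * g = g * ⟨x, hE hx⟩ := hg _ hx
    rw [commutatorElement_eq_one_iff_mul_comm.2 (congrArg Subtype.val this).symm]
    exact one_mem _
  · rw [hP]
    exact (k1.xs.subgroupOf hE).isExtraspecial
  · rw [hP, Nat.card_congr (subgroupOfEquivOfLe hE).toEquiv, k1.card]
    rfl

/-- S3336 from the jobs. -/
theorem co2_of_jobs (pre : JobPre.{u}) (mid : JobMid.{u}) (st : JobSt.{u}) (l0 : JobL0.{u})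
    (l1 : JobL1.{u}) (loc : JobLoc.{u}) (inv : JobInv.{u}) (r5 : JobR5.{u}) (j0 : JobK0.{u})
    (jc : JobCB.{u}) (j1 : JobK1.{u}) (jx : JobX.{u}) (alt : JobAlt.{u}) (sc : JobSC.{u})
    (S : Sylow 3 G) (Z C : Subgroup G)
    (hZ : Z = (S : Subgroup G) ⊓ centralizer ((S : Subgroup G) : Set G))
    (hC : C = centralizer (Z : Set G)) (hQ : IsExtraspecial 3 (pCore 3 C))
    (hQc : Nat.card (pCore 3 C) = 3 ^ 5) (hR : IsExtraspecial 2 (pCore 2 (C ⧸ pCore 3 C)))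
    (hRc : Nat.card (pCore 2 (C ⧸ pCore 3 C)) = 2 ^ 5)
    (e : (C ⧸ pCore 3 C) ⧸ pCore 2 (C ⧸ pCore 3 C) ≃* alternatingGroup (Fin 5))
    (hn : ¬ IsWeaklyClosed Z S) : Spor.IsoCo2 G := by
  obtain ⟨z, s, Q, R, π, hp⟩ := pre G S Z C hZ hC hQ hQc hR hRc ⟨e⟩ hn
  obtain ⟨d, f, t, r, κ, hm⟩ := mid G z s Q R π hp
  obtain ⟨ψ, hs⟩ := st G z s Q R π d f t r κ hm
  have h0 := l0 G ψ r hs
  have h1 := l1 G ψ r hs h0
  have k0 := j0 G ψ r hs h0 h1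
  have cb := jc loc r5 G ψ r hs h0 h1 k0
  have k1 := j1 G ψ r hs h0 k0 cb
  obtain ⟨s0, X, _, _, π', φ, ψ', xt⟩ := jx loc G ψ r hs h0 h1 k0 k1
  exact final h0 h1 k0 cb k1 s0 (sc G _ _ _ s0 (alt inv G ψ r X π' φ ψ' hs k0 k1 s0 xt)) xt

end H41.C3
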