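import Cfsg.Agent.H41.C3K0b

/-! `JobCB` of the blueprint `CO2T.md` (§8): the quotient `C(y) / ⟨y⟩`. -/

set_option autoImplicit false
set_option synthInstance.maxSize 2048
open Cfsg H44 H56.L3 H42.L3 H98 H14 Subgroup
open scoped commutatorElement

namespace H41.C3

universe u
variable {G : Type u} [Group G] {ψ : HS L24 →* G} {r : G}

theorem vvY : vv ψ r (1, 0) = yG ψ r := by
  simp [vv, ZMod.val_one, show (⟨0, 1⟩ : SD J3 K6) = 1 from rfl]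

theorem St.y_eq (hs : St ψ r) : yG ψ r = ρ ψ r cH := (hs.ρ_eq _).symm

theorem St.ψy (hs : St ψ r) (m : HS L24) : ψ m ∈ Ce (yG ψ r) := by
  obtain ⟨i, hi, h⟩ := hs.act m
  rw [mem_Ce', hs.y_eq, h _ (by decide +kernel),
    (by decide +kernel : ∀ i < 3, dH ^ i * cH * (dH ^ i)⁻¹ = cH) i hi]

theorem L0.yJ (h0 : L0 ψ r) : zpowers (yG ψ r) ≤ JG ψ r :=
  zpowers_le.2 (vvY (ψ := ψ) (r := r) ▸ h0.vmem (1, 0))

theorem L0.zp_y (h0 : L0 ψ r) {g : G} (h : g ∈ zpowers (yG ψ r)) : ∃ a, g = vv ψ r (a, 0) := by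
  obtain ⟨i, hi, rfl⟩ := (mem_zp3 (h0.cube (h0.yJ (mem_zpowers _)))).1 h
  refine ⟨i, ?_⟩
  rw [vv, ZMod.val_cast_of_lt hi]
  simp [show (⟨0, 1⟩ : SD J3 K6) = 1 from rfl]

theorem L0.Jy (h0 : L0 ψ r) : JG ψ r ≤ Ce (yG ψ r) := fun _ hg =>
  mem_Ce.2 (h0.comm hg (h0.yJ (mem_zpowers _)))

/-- the quotient `C(y) / ⟨y⟩` with its local structure -/
structure QY (ψ : HS L24 →* G) (r : G) {X : Type*} [Group X] (π : Ce (yG ψ r) →* X)
    (φ : SD J3 K48 →* X) (ψ' : HS L48 →* X) : Prop where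
  surj : Function.Surjective π
  ker : ∀ g, π g = 1 ↔ (g : G) ∈ zpowers (yG ψ r)
  ctx : Ctx φ ψ'
  cmp : ∀ (m : SD J3 K6) (g : Ce (yG ψ r)), (g : G) = ψ (ιK6 m) → π g = φ (K48.κ m)
  pp : PP ψ' = ((Q8H.map ψ).subgroupOf _).map π
  cases : Ce (φ (vc 0 0 1)) ≤ φ.range ∨ ∃ lam, CaseB φ lam

theorem exists_QY [Finite G] (loc : JobLoc.{u}) (hs : St ψ r) (h0 : L0 ψ r) (h1 : L1 ψ r)
    (k0 : K0 ψ r) : ∃ (X : Type u) (_ : Group X) (_ : Finite X) (π : Ce (yG ψ r) →* X) (φ : _)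
      (ψ' : _), QY ψ r π φ ψ' := by
  have YC : zpowers (yG ψ r) ≤ Ce (yG ψ r) := h0.yJ.trans h0.Jy
  have : ((zpowers (yG ψ r)).subgroupOf (Ce (yG ψ r))).Normal :=
    (normal_subgroupOf_iff_le_normalizer YC).2 Ce_le_nr
  let π := QuotientGroup.mk' ((zpowers (yG ψ r)).subgroupOf (Ce (yG ψ r)))
  have sf : Function.Surjective π := QuotientGroup.mk'_surjective _
  have one : ∀ g, π g = 1 ↔ (g : G) ∈ zpowers (yG ψ r) := fun g => QuotientGroup.eq_one_iff g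
  let ψC : HS L24 →* Ce (yG ψ r) := ψ.codRestrict _ hs.ψy
  obtain ⟨φ, ψ', h2, h3, h4, h5⟩ := loc _ (π.comp ψC)
    ((injective_iff_map_eq_one _).2 fun m hm => by
      obtain ⟨a, e⟩ := h0.zp_y ((one _).1 hm)
      have e' : ψ m = vv ψ r (a, 0) := e
      have := h0.aT (a, 0)
      rw [← e', ← mem_Ce.1 (hs.ψt m), mul_inv_cancel_right, e'] at this
      rw [(by decide : ∀ a : ZMod 3, a = -a → a = 0) a (congrArg Prod.fst (h0.inj this))] at e'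
      exact hs.inj (e'.trans (h0.v0.trans ψ.map_one.symm)))
    (le_antisymm (fun q hq => by
      obtain ⟨g, rfl⟩ := sf q
      obtain ⟨a, e⟩ := h0.zp_y ((one ⁅g, ψC zc⁆).1 (by
        rw [map_commutatorElement]
        exact commutatorElement_eq_one_iff_mul_comm.2 (mem_Ce.1 hq)))
      have e' : (g : G) * ψ zc * (g : G)⁻¹ = vv ψ r ((a, 0) + (0, pt 0)) := by
        rw [h0.add, vvB, ← zc_eq, ← e]
        exact (inv_mul_cancel_right _ _).symm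
      rw [(by decide : ∀ a : ZMod 3, qf ((a, 0) + (0, pt 0)) = 0 → a = 0) a
        (h1.sing _ (isConj_iff.2 ⟨_, e'⟩)), Prod.mk_zero_zero, zero_add, vvB, ← zc_eq] at e'
      obtain ⟨m, i, e1⟩ := hs.cy g (mul_inv_eq_iff_eq_mul.1 e') (mem_Ce.1 g.2)
      have h6 := pow_mem (mem_zpowers (yG ψ r)) i
      have e3 := congrArg π (show g = ψC m * ⟨_, YC h6⟩ from Subtype.ext e1)
      rw [map_mul, (one ⟨_, YC h6⟩).2 h6, mul_one] at e3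
      exact ⟨m, e3.symm⟩) (by
      rintro _ ⟨m, rfl⟩
      exact mem_Ce.2 (ψ_z m)))
    (fun M h3 hM => by
      have mM : ∀ {g : Ce (yG ψ r)}, (g : G) ∈ (M.comap π).map (Ce (yG ψ r)).subtype ↔ π g ∈ M :=
        fun {g} => mem_map_iff_mem (Ce (yG ψ r)).subtype_injective
      set M0 := (M.comap π).map (Ce (yG ψ r)).subtype
      have YM : zpowers (yG ψ r) ≤ M0 := fun a ha =>
        (mM (g := ⟨a, YC ha⟩)).2 ((one ⟨a, YC ha⟩).2 ha ▸ one_mem _)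
      have nJ : JG ψ r ≤ nr M0 := fun b hb => by
        obtain ⟨x, rfl⟩ := (h0.mem b).1 hb
        refine mul_mem (le_normalizer (YM (pow_mem (mem_zpowers _) _))) (mem_normalizer_of_cj_le ?_)
        rintro _ ⟨_, ⟨g, hg, rfl⟩, rfl⟩
        exact (mM (g := ψC (ιK6 ⟨x.2, 1⟩) * g * (ψC (ιK6 ⟨x.2, 1⟩))⁻¹)).2 (by
          simpa using hM _ (β_mem x.2) _ hg)
      have h5 : opp 3 M0 = ⊥ := h1.sig _ (coprime_card_opp _) fun j hj k hk =>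
        conj_mem_of_mem_normalizer (normalizer_le_normalizer_opp _ (nJ hj)) hk
      have h6 := (H87.burnside_dec (T := zpowers (yG ψ r)) (H := M0) (p := 3)
        ⟨YM, h0.pg.to_le h0.yJ, fun Q hQ h6 h7 => le_antisymm (fun a ha => by
          obtain ⟨g, hg, rfl⟩ := h7 ha
          obtain ⟨n, hn⟩ := hQ ⟨_, ha⟩
          refine (one g).1 (eq_one_of_cop (h3.pow_right n)
            (orderOf_dvd_iff_pow_eq_one.1 (orderOf_dvd_natCard M hg)) ?_)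
          have h8 : (g : G) ^ 3 ^ n = 1 := congrArg Subtype.val hn
          rw [← map_pow, show g ^ 3 ^ n = 1 from Subtype.ext h8, map_one])
          h6⟩
        fun a ha b hb => (zp_comm (map_subtype_le _ ha.1) hb).symm).2 _ le_rfl (h5 ▸ bot_le)
      refine eq_bot_iff.2 fun q hq => ?_
      obtain ⟨g, rfl⟩ := sf q
      exact (one g).2 (h6 (mM.2 hq)))
    fun k => by
      obtain ⟨g, -, h2⟩ := k0.lift k
      refine ⟨π ⟨g, mem_Ce'.2 (by simpa [vvY] using h2 (1, 0))⟩, fun j => ?_⟩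
      rw [MonoidHom.comp_apply, MonoidHom.comp_apply, ← map_inv, ← map_mul, ← map_mul]
      exact congrArg π (Subtype.ext (by simpa [vvB, ψC] using h2 (0, j)))
  refine ⟨_, _, inferInstance, π, φ, ψ', sf, one, h2,
    fun m g e => by rw [h3]; exact congrArg π (Subtype.ext e), ?_, h5⟩
  rw [h4]
  ext q
  exact ⟨fun ⟨n, hn, e⟩ => ⟨ψC n, ⟨n, hn, rfl⟩, e⟩, fun ⟨g, ⟨n, hn, e⟩, e'⟩ =>
    ⟨n, hn, by rw [← e']; exact congrArg π (Subtype.ext e)⟩⟩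

namespace QY
variable {X : Type u} [Group X] {π : Ce (yG ψ r) →* X} {φ : SD J3 K48 →* X} {ψ' : HS L48 →* X}
  (h0 : L0 ψ r) (q : QY ψ r π φ ψ')
include h0 q

theorem eq_of {a b : Ce (yG ψ r)} {n : ℕ} (hn : n.Coprime 3) (e : π a = π b) (ha : (a : G) ^ n = 1)
    (hb : (b : G) ^ n = 1) : a = b := by
  have h1 : ((a * b⁻¹ : Ce (yG ψ r)) : G) ∈ zpowers (yG ψ r) :=
    (q.ker _).1 (by rw [map_mul, map_inv, e, mul_inv_cancel])
  have h2 := (zp_comm b.2 h1).symm.mul_pow n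
  rw [hb, mul_one, ← coe_mul, inv_mul_cancel_right, ha] at h2
  exact mul_inv_eq_one.1 (Subtype.ext (eq_one_of_cop hn h2.symm (h0.cube (h0.yJ h1))))

theorem comm {a b : Ce (yG ψ r)} {n : ℕ} (hn : n.Coprime 3) (e : Commute (π a) (π b))
    (hb : (b : G) ^ n = 1) : Commute (a : G) b :=
  mul_inv_eq_iff_eq_mul.1 (congrArg Subtype.val (q.eq_of h0 (a := a * b * a⁻¹) hn
    (by rw [map_mul, map_mul, map_inv, e.eq, mul_inv_cancel_right])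
    (by rw [coe_mul, coe_mul, coe_inv, conj_pow, hb]; simp) hb))

theorem lift5 {w : X} (h : w ^ 5 = 1) : ∃ a : Ce (yG ψ r), π a = w ∧ (a : G) ^ 5 = 1 := by
  obtain ⟨a, rfl⟩ := q.surj w
  refine ⟨a ^ 6, by rw [map_pow, pow_succ', h, mul_one], ?_⟩
  have := h0.cube (h0.yJ ((q.ker (a ^ 5)).1 (by rw [map_pow, h])))
  rw [SubgroupClass.coe_pow, ← pow_mul] at this ⊢
  rw [show 6 * 5 = 5 * 3 * 2 from rfl, pow_mul, this, one_pow]

omit h0 in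
theorem βπ (hs : St ψ r) (j : J3) : π ⟨_, hs.ψy (ιK6 ⟨j, 1⟩)⟩ = φ ⟨j, 1⟩ := by
  rw [q.cmp ⟨j, 1⟩ _ rfl]
  exact congrArg φ (SD.ext rfl (map_one K48.κ0))

omit h0 in
theorem tπ (hs : St ψ r) : π ⟨_, hs.ψy tH⟩ = φ K48.t := by
  rw [q.cmp K6.t _ rfl, (by decide +kernel : K48.κ K6.t = K48.t)]

theorem nr_J [Finite G] (hs : St ψ r) {a : Ce (yG ψ r)} (h : π a ∈ φ.range) :
    (a : G) ∈ nr (JG ψ r) := by
  obtain ⟨m, e⟩ := h
  refine mem_normalizer_of_cj_le ?_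
  rintro _ ⟨b, hb, rfl⟩
  obtain ⟨x, rfl⟩ := (h0.mem b).1 hb
  show (a : G) * (_ * _) * (a : G)⁻¹ ∈ _
  rw [← conj_mul, conj_zp a.2 (pow_mem (mem_zpowers _) _)]
  refine mul_mem (h0.yJ (pow_mem (mem_zpowers _) _)) ?_
  have := h0.yJ ((q.ker (a * ⟨_, hs.ψy (ιK6 ⟨x.2, 1⟩)⟩ * a⁻¹ *
    (⟨_, hs.ψy (ιK6 ⟨m.k • x.2, 1⟩)⟩ : Ce (yG ψ r))⁻¹)).1 (by
    rw [map_mul, map_mul, map_mul, map_inv, map_inv, q.βπ hs, q.βπ hs, ← e, mul_inv_eq_one,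
      ← map_inv, ← map_mul, ← map_mul]
    congr 1
    ext <;> simp))
  simpa using mul_mem this (h0.βJ (m.k • x.2))

omit h0 in
theorem act_eq [Finite X] (hs : St ψ r) {a : Ce (yG ψ r)} {k : K48}
    (h : ∀ j, (a : G) * ψ (ιK6 ⟨j, 1⟩) * (a : G)⁻¹ = ψ (ιK6 ⟨k • j, 1⟩)) :
    ∃ j, π a = φ (⟨0, k⟩ * ⟨j, 1⟩) := by
  have e : ∀ j, (φ ⟨0, k⟩)⁻¹ * π a * φ ⟨j, 1⟩ = φ ⟨j, 1⟩ * ((φ ⟨0, k⟩)⁻¹ * π a) := fun j => by
    have h1 : π a * φ ⟨j, 1⟩ * (π a)⁻¹ = φ ⟨0, k⟩ * φ ⟨j, 1⟩ * (φ ⟨0, k⟩)⁻¹ := by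
      rw [← map_inv φ, ← map_mul, ← map_mul, show (⟨0, k⟩ * ⟨j, 1⟩ * (⟨0, k⟩ : SD J3 K48)⁻¹) =
        ⟨k • j, 1⟩ by ext <;> simp, ← q.βπ hs, ← q.βπ hs, ← map_inv, ← map_mul, ← map_mul]
      exact congrArg π (Subtype.ext (h j))
    calc _ = (φ ⟨0, k⟩)⁻¹ * (π a * φ ⟨j, 1⟩ * (π a)⁻¹) * π a := by group
      _ = _ := by rw [h1]; group
  obtain ⟨n, hn⟩ := q.ctx.nor.le (show (φ ⟨0, k⟩)⁻¹ * π a ∈ nr (JI φ) from
    centralizer_le_normalizer _ (by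
      rintro _ ⟨⟨j, l⟩, (rfl : l = 1), rfl⟩
      exact (e j).symm))
  have c : ∀ j, n * ⟨j, 1⟩ = ⟨j, 1⟩ * n := fun j => q.ctx.inj (by rw [map_mul, map_mul, hn, e])
  have h2 := (by decide +kernel : ∀ n : SD J3 K48, n * vc 1 0 0 = vc 1 0 0 * n →
    n * vc 0 1 0 = vc 0 1 0 * n → n * vc 0 0 1 = vc 0 0 1 * n → n.k = 1) n (c _) (c _) (c _)
  exact ⟨n.j, by rw [map_mul, ← h2, hn, mul_inv_cancel_left]⟩

theorem ctxA (hs : St ψ r) (h1 : L1 ψ r) : CtxA φ ψ' := by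
  refine ⟨q.ctx, q.cases.resolve_right ?_⟩
  rintro ⟨lam, hB⟩
  let c : Equiv.Perm (Fin 6) := Equiv.swap 0 1 * Equiv.swap 1 2 * Equiv.swap 2 3 * Equiv.swap 3 4
  obtain ⟨w, e, h5⟩ := q.lift5 h0 (w := lam (c, 1)) (by
    rw [← map_pow, Prod.pow_mk, one_pow, (by decide : c ^ 5 = 1)]; exact map_one _)
  have h2 := q.comm h0 (a := ⟨_, hs.ψy (ιK6 ⟨(0, 0, 1), 1⟩)⟩) (by decide : Nat.Coprime 5 3) (by
    rw [q.βπ hs, e, show φ ⟨(0, 0, 1), 1⟩ = _ from hB.e3]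
    exact Commute.map (Prod.ext (by simp) (by simp)) lam) h5
  obtain ⟨g, hg⟩ := h1.real (0, 1, 1, 0) (2, 2, 1, 0) (2, 1, 2, 0) (0, 0, 0, 1)
    (by decide +kernel) (by decide +kernel)
  have c1 : Commute (w : G) (vv ψ r (1, 0)) := by rw [vvY]; exact mem_Ce.1 w.2
  have c2 : Commute (w : G) (vv ψ r ((1, 0) + (0, 0, 0, 1))) := by
    rw [h0.add, vvB]; exact c1.mul_right h2.symm
  have d1 : Commute (g * w * g⁻¹) (g * _ * g⁻¹) := c1.map (MulAut.conj g)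
  have d2 : Commute (g * w * g⁻¹) (g * _ * g⁻¹) := c2.map (MulAut.conj g)
  rw [hg, (by decide +kernel : ap4 (0, 1, 1, 0) (2, 2, 1, 0) (2, 1, 2, 0) (0, 0, 0, 1) (1, 0) =
    (0, 1, 1, 0)), vvB] at d1
  rw [hg, (by decide +kernel : ap4 (0, 1, 1, 0) (2, 2, 1, 0) (2, 1, 2, 0) (0, 0, 0, 1)
    ((1, 0) + (0, 0, 0, 1)) = (0, pt 0)), vvB] at d2
  have h3 := hs.c5 (g * w * g⁻¹) (by rw [conj_pow, h5]; simp) (zc_eq ▸ d2) (by
    rw [dH_eq, (by decide : pt 1 = (1, 1, 0) + pt 0), β_add]; exact d1.mul_right d2)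
  rw [mul_inv_eq_one, mul_eq_left] at h3
  rw [show w = 1 from Subtype.ext h3, map_one, ← map_one lam] at e
  exact absurd (congrArg Prod.fst (hB.inj e)) (by decide)

end QY

end H41.C3
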