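import Cfsg.Agent.H41.C3CB1

/-! `JobCB` of the blueprint `CO2T.md` (§8). -/

set_option autoImplicit false
set_option synthInstance.maxSize 2048
open Cfsg H44 H56.L3 H42.L3 H98 H14 Subgroup
open scoped commutatorElement

namespace H41.C3

universe u
variable {G : Type u} [Group G] {ψ : HS L24 →* G} {r : G} [Finite G]
variable {X : Type u} [Group X] [Finite X] {π : Ce (yG ψ r) →* X} {φ : SD J3 K48 →* X}
  {ψ' : HS L48 →* X}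

theorem cb_five (r5 : JobR5.{u}) (hs : St ψ r) (h0 : L0 ψ r) (h1 : L1 ψ r) (q : QY ψ r π φ ψ') :
    ∃ w, orderOf w = 5 ∧ Commute w (tG ψ r) ∧ Commute w (ψ (ιK6 (vc 1 0 0))) := by
  obtain ⟨g, hg⟩ := h1.real (0, 0, 0, 1) (1, 0, 0, 0) (0, 1, 1, 0) (0, 1, 2, 0)
    (by decide +kernel) (by decide +kernel)
  have e1 : g * ψ (ιK6 (vc 1 0 0)) * g⁻¹ = yG ψ r := by
    have := hg (0, 1, 0, 0)
    rwa [vvB, (by decide +kernel : ap4 (0, 0, 0, 1) (1, 0, 0, 0) (0, 1, 1, 0) (0, 1, 2, 0)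
      (0, 1, 0, 0) = (1, 0)), vvY] at this
  have hC : g * tG ψ r * g⁻¹ ∈ Ce (yG ψ r) :=
    e1 ▸ conj_mem_Ce (mem_Ce.2 (mem_Ce.1 (hs.ψt _)).symm) g
  have t2 : (g * tG ψ r * g⁻¹) ^ 2 = 1 := by rw [conj_pow, pow_two, hs.xs0.z_sq]; simp
  obtain ⟨j, hj⟩ := q.act_eq hs (a := ⟨_, hC⟩) (k := K48.r3.k) fun j => by
    obtain ⟨x, a, b⟩ := (by decide +kernel : ∀ j : J3, ∃ x,
      ap4 (0, 0, 0, 1) (1, 0, 0, 0) (0, 1, 1, 0) (0, 1, 2, 0) x = (0, j) ∧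
      ap4 (0, 0, 0, 1) (1, 0, 0, 0) (0, 1, 1, 0) (0, 1, 2, 0) (-x.1, x.2) = (0, K48.r3.k • j)) j
    rw [← vvB (r := r), ← vvB (r := r), ← a, ← b, ← hg, ← hg, ← h0.aT]
    group
  obtain ⟨j', hj'⟩ := (by decide +kernel : ∀ j : J3, (K48.r3 * ⟨j, 1⟩) ^ 2 = 1 → ∃ j' : J3,
    (⟨j', 1⟩ : SD J3 K48) * K48.r3 * (⟨j', 1⟩ : SD J3 K48)⁻¹ = K48.r3 * ⟨j, 1⟩) j (q.ctx.inj (by
      rw [map_pow, show φ (K48.r3 * ⟨j, 1⟩) = _ from hj.symm, ← map_pow, map_one,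
        show (⟨_, hC⟩ : Ce (yG ψ r)) ^ 2 = 1 from Subtype.ext t2, map_one]))
  obtain ⟨w, ho, hc⟩ := r5 X φ ψ' (q.ctxA h0 hs h1)
  obtain ⟨a, e, h5⟩ := q.lift5 h0 (w := φ ⟨j', 1⟩ * w * (φ ⟨j', 1⟩)⁻¹)
    (by rw [conj_pow, ← ho, pow_orderOf_eq_one]; simp)
  have h2 := q.comm h0 (a := a) (b := ⟨_, hC⟩) (by decide : Nat.Coprime 2 3) (by
    rw [e, hj, show (⟨0, K48.r3.k⟩ : SD J3 K48) = K48.r3 from rfl, ← hj', map_mul, map_mul, map_inv]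
    exact hc.map (MulAut.conj (φ ⟨j', 1⟩))) t2
  have : Fact (Nat.Prime 5) := ⟨by decide⟩
  refine ⟨g⁻¹ * a * g, orderOf_eq_prime ?_ fun h => ?_, ?_, ?_⟩
  · rw [← inv_inv g, inv_inv g⁻¹, conj_pow, h5]; simp
  · have : a = 1 := Subtype.ext (by simpa [mul_assoc, inv_mul_eq_iff_eq_mul] using h)
    rw [this, map_one, eq_comm, mul_inv_eq_one, mul_eq_left] at e
    rw [e, orderOf_one] at ho
    omega
  · simpa [mul_assoc] using h2.map (MulAut.conj g⁻¹)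
  · have : Commute (a : G) (g * ψ (ιK6 (vc 1 0 0)) * g⁻¹) := by rw [e1]; exact mem_Ce.1 a.2
    simpa [mul_assoc] using this.map (MulAut.conj g⁻¹)

theorem exists_δ (hs : St ψ r) (h0 : L0 ψ r) (k0 : K0 ψ r) (q : QY ψ r π φ ψ') :
    ∃ δ : Ce (yG ψ r), Commute (δ : G) (ψ tH) ∧ cj (π δ) (PP ψ') = PQ φ ψ' ∧
      Ex ψ r (pt 1) = cj r (cj δ (Q8H.map ψ)) := by
  obtain ⟨g, -, hg⟩ := k0.lift K48.d.k
  have hC : g ∈ Ce (yG ψ r) := mem_Ce'.2 (by simpa [vvY] using hg (1, 0))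
  obtain ⟨j, hj⟩ := q.act_eq hs (a := ⟨g, hC⟩) (k := K48.d.k) fun j => by
    simpa [vvB] using hg (0, j)
  obtain ⟨j', hj'⟩ := (by decide +kernel : ∀ j : J3, ∃ j' : J3,
    (⟨j, 1⟩ * ⟨j', 1⟩ : SD J3 K48) ∈ DD) j
  let δ : Ce (yG ψ r) := ⟨g, hC⟩ * ⟨_, hs.ψy (ιK6 ⟨j', 1⟩)⟩
  have e : π δ = φ K48.d * φ (⟨j, 1⟩ * ⟨j', 1⟩) := by
    rw [map_mul, hj, q.βπ hs, ← map_mul, ← map_mul, mul_assoc]; rfl
  have hD : φ (⟨j, 1⟩ * ⟨j', 1⟩) ∈ DD.map φ := ⟨_, hj', rfl⟩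
  have h2 : Commute (δ : G) (ψ tH) := q.comm h0 (b := ⟨_, hs.ψy tH⟩) (by decide : Nat.Coprime 2 3)
    (by rw [e, q.tπ hs]; exact mem_Ce.1 (mul_mem q.ctx.d_mem (q.ctx.D_le hD)))
    (by rw [← map_pow, (by decide +kernel : tH ^ 2 = 1), map_one])
  refine ⟨δ, h2, by rw [e, ← cj_cj, cj_eq_self (q.ctx.D_nr hD).1]; rfl, ?_⟩
  have r1 := inv_eq_of_mul_eq_one_right hs.rr
  have hK : r * δ * r⁻¹ ∈ Ce (tG ψ r) := hs.t_eq ▸ conj_mem_Ce (mem_Ce.2 h2) r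
  have rJ := h0.acts_nr h0.aR
  obtain ⟨k, hk⟩ := k0.mono _ (mem_inf.2 ⟨hK, mul_mem (mul_mem rJ (mul_mem (h0.acts_nr hg)
    (le_normalizer (h0.βJ j')))) (inv_mem rJ)⟩)
  have h3 : k • pt 0 = pt 1 := h0.βinj (by
    have a1 : g * ψ zc * g⁻¹ = ψ dH := by
      have := hg (0, pt 0)
      rwa [vvB, vvB, (by decide +kernel : K48.d.k • pt 0 = pt 1), ← zc_eq, ← dH_eq] at this
    rw [← hk, ← zc_eq, ← dH_eq]
    calc _ = r * (g * (ψ (ιK6 ⟨j', 1⟩) * (r⁻¹ * ψ zc * r⁻¹⁻¹) * (ψ (ιK6 ⟨j', 1⟩))⁻¹) * g⁻¹) * r⁻¹ := by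
          simp only [δ, coe_mul]; group
      _ = _ := by
        rw [hs.rz.inv_left.eq, mul_inv_cancel_right, (ψ_z _).eq, mul_inv_cancel_right, a1,
          hs.rd.eq, mul_inv_cancel_right])
  rw [← k0.equi _ k (mem_Ce.1 hK) hk 0 1 (Or.inl h3), k0.e1, cj_cj, cj_cj, inv_mul_cancel_right]

end H41.C3

namespace H41.C3

universe u

theorem jobCB : JobCB.{u} := fun loc r5 G _ _ ψ r hs h0 h1 k0 => by
  obtain ⟨X, _, _, π, φ, ψ', q⟩ := exists_QY loc hs h0 h1 k0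
  obtain ⟨δ, d1, d2, d3⟩ := exists_δ hs h0 k0 q
  have A := q.ctxA h0 hs h1
  have r1 := inv_eq_of_mul_eq_one_right hs.rr
  set P := Q8H.map ψ with hP
  have PC : P ≤ Ce (yG ψ r) ⊓ Ce (ψ tH) := by
    rintro _ ⟨n, hn, rfl⟩
    exact ⟨hs.ψy n, (map_mem_Ce hs.inj).2 (xs_Q8H.z_comm n hn).symm⟩
  have QC : cj (δ : G) P ≤ Ce (yG ψ r) ⊓ Ce (ψ tH) := cj_le_of_le_of_mem PC ⟨δ.2, mem_Ce.2 d1⟩
  have p4 : ∀ p ∈ P, p ^ 4 = 1 := by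
    rintro _ ⟨n, hn, rfl⟩
    rw [← map_pow, xs_Q8H.pow_four hn, map_one]
  have q4 : ∀ p ∈ cj (δ : G) P, p ^ 4 = 1 := by
    rintro _ ⟨p, hp, rfl⟩
    rw [← map_pow, p4 p hp, map_one]
  have πP : ∀ p (hp : p ∈ P), π ⟨p, (PC hp).1⟩ ∈ PP ψ' := fun p hp => q.pp ▸ ⟨_, hp, rfl⟩
  have πQ : ∀ p (hp : p ∈ cj (δ : G) P), π ⟨p, (QC hp).1⟩ ∈ PQ φ ψ' := fun p hp => by
    rw [← d2, mem_cj, ← map_inv, ← map_mul, ← map_mul]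
    exact πP _ (mem_cj.1 hp)
  have cm : P ≤ cn (cj (δ : G) P) := fun p hp b hb => (q.comm h0 (a := ⟨p, (PC hp).1⟩)
    (b := ⟨b, (QC hb).1⟩) (by decide : Nat.Coprime 4 3) (A.comm (πP p hp) _ (πQ b hb)).symm
    (q4 b hb)).symm
  have RC : P ⊔ cj (δ : G) P ≤ Ce (yG ψ r) ⊓ Ce (ψ tH) := sup_le PC QC
  have r4 : ∀ x ∈ P ⊔ cj (δ : G) P, x ^ 4 = 1 := fun x hx => by
    obtain ⟨a, ha, b, hb, rfl⟩ := (mem_sup_left_norm (le_normalizer_of_le_centralizer cm)).1 hx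
    rw [(show Commute a b from (cm ha b hb).symm).mul_pow, p4 a ha, q4 b hb, mul_one]
  have πR : ∀ x (hx : x ∈ P ⊔ cj (δ : G) P), π ⟨x, (RC hx).1⟩ ∈ PP ψ' ⊔ PQ φ ψ' := fun x hx => by
    obtain ⟨a, ha, b, hb, rfl⟩ := (mem_sup_left_norm (le_normalizer_of_le_centralizer cm)).1 hx
    have := mul_mem (mem_sup_left (πP a ha)) (mem_sup_right (πQ b hb))
    rwa [← map_mul] at this
  have Rπ : ∀ x ∈ PP ψ' ⊔ PQ φ ψ', ∃ a : Ce (yG ψ r), (a : G) ∈ P ⊔ cj (δ : G) P ∧ π a = x := fun x hx => by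
    obtain ⟨a, ha, b, hb, rfl⟩ := A.mem_R hx
    rw [← d2] at hb
    obtain ⟨b, hb, rfl⟩ := hb
    rw [q.pp] at ha hb
    obtain ⟨a, ha, rfl⟩ := ha
    obtain ⟨b, hb, rfl⟩ := hb
    exact ⟨a * (δ * b * δ⁻¹), mul_mem (mem_sup_left ha) (mem_sup_right (conj_mem_cj hb)), by simp⟩
  have E01 : Ex ψ r (pt 0) ⊔ Ex ψ r (pt 1) = cj r (P ⊔ cj (δ : G) P) := by rw [cj_sup, k0.e1, d3]
  have tr : ∀ g ∈ Ce (tG ψ r) ⊓ Ce (ψ cH), r⁻¹ * g * r ∈ Ce (yG ψ r) ⊓ Ce (ψ tH) := fun g hg => by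
    refine ⟨?_, mem_cj.1 (by rw [cj_Ce]; exact (hs.t_eq ▸ hg.1 : g ∈ Ce (ρ ψ r tH)))⟩
    have := conj_mem_Ce hg.2 r
    rw [r1] at this ⊢
    exact this
  have πτ : ∀ a : Ce (yG ψ r), (a : G) ∈ Ce (ψ tH) → π a ∈ Ce (φ K48.t) := fun a ha => by
    rw [mem_Ce, ← q.tπ hs, ← map_mul, ← map_mul]
    exact congrArg π (Subtype.ext (mem_Ce.1 ha))
  refine ⟨?_, fun g hg => ?_, fun g hg => ?_, cb_five r5 hs h0 h1 q⟩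
  · rw [k0.e1, d3, cn, ← cj_centralizer]
    exact cj_mono r cm
  · rw [E01, nr, ← cj_normalizer, mem_cj]
    refine mem_normalizer_of_cj_le ?_
    rintro _ ⟨x, hx, rfl⟩
    obtain ⟨a, ha, e⟩ := Rπ _ (conj_mem_of_mem_normalizer
      (A.C_nr (πτ ⟨_, (tr g hg).1⟩ (tr g hg).2)) (πR x hx))
    rw [← map_inv, ← map_mul, ← map_mul] at e
    have := q.eq_of h0 (by decide : Nat.Coprime 4 3) e (r4 _ ha) (by
      rw [coe_mul, coe_mul, coe_inv, conj_pow, r4 x hx]; simp)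
    rw [this] at ha
    exact ha
  · obtain ⟨m, hm, x, hx, e⟩ := (mem_sup_left_norm A.range_nr).1
      (A.C_le (πτ ⟨_, (tr g hg).1⟩ (tr g hg).2))
    obtain ⟨a, ha, rfl⟩ := Rπ x hx
    have h2 := q.nr_J h0 hs (a := ⟨_, (tr g hg).1⟩ * a⁻¹) (by
      rw [map_mul, map_inv, e, mul_inv_cancel_right]; exact hm.2)
    have rJ := h0.acts_nr h0.aR
    refine ⟨r * (r⁻¹ * g * r * (a : G)⁻¹) * r⁻¹, 
      mem_inf.2 ⟨?_, mul_mem (mul_mem rJ h2) (inv_mem rJ)⟩, ?_⟩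
    · exact hs.t_eq ▸ conj_mem_Ce (mul_mem (tr g hg).2 (inv_mem (RC ha).2)) r
    · rw [E01, mem_cj]
      simpa [mul_assoc] using ha

end H41.C3
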