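import Cfsg.Agent.H41.C3K0a

/-! `JobK0` of the blueprint `CO2T.md` (§7). -/

set_option autoImplicit false
set_option synthInstance.maxSize 2048
open Cfsg H44 H56.L3 H42.L3 H98 H14 Subgroup
open scoped commutatorElement

namespace H41.C3

universe u
variable {G : Type u} [Group G] {ψ : HS L24 →* G} {r : G}

theorem Acts.mul {g h : G} {M N : J4 → J4} (hg : Acts ψ r g M) (hh : Acts ψ r h N) :
    Acts ψ r (g * h) (M ∘ N) := fun x => by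
  rw [Function.comp, ← hg, ← hh]; group

theorem L0.acts_J (h0 : L0 ψ r) {g : G} (hg : g ∈ JG ψ r) : Acts ψ r g id := fun x =>
  mul_inv_eq_iff_eq_mul.2 (h0.comm hg (h0.vmem x))

theorem L0.mem_of_acts (h0 : L0 ψ r) {g h : G} {M : J4 → J4} (hg : Acts ψ r g M)
    (hh : Acts ψ r h M) : h⁻¹ * g ∈ JG ψ r := h0.cJ fun a ha => by
  obtain ⟨x, rfl⟩ := (h0.mem a).1 ha
  have := (hg x).trans (hh x).symm
  calc _ = h⁻¹ * (h * vv ψ r x * h⁻¹) * g := by group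
    _ = _ := by rw [← this]; group

theorem k_lift (hs : St ψ r) (h0 : L0 ψ r) (h1 : L1 ψ r) (k : K48) :
    ∃ g, Commute g (tG ψ r) ∧ Acts ψ r g fun x => (x.1, k • x.2) := by
  have e := (by decide +kernel : ∀ (k : K48) (x : J4), ap4 (1, 0) (0, k • (1, 0, 0))
    (0, k • (0, 1, 0)) (0, k • (0, 0, 1)) x = (x.1, k • x.2)) k
  obtain ⟨g, hg⟩ := h1.real (1, 0) (0, k • (1, 0, 0)) (0, k • (0, 1, 0)) (0, k • (0, 0, 1))
    (fun x hx => by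
      rw [e, Prod.mk_eq_zero, smul_eq_zero_iff_eq] at hx
      exact Prod.ext hx.1 hx.2)
    fun x hx => by
      rwa [e, (by decide +kernel : ∀ (k : K48) (x : J4), qf (x.1, k • x.2) = qf x)]
  rw [funext e] at hg
  obtain ⟨x, hx⟩ := (h0.mem _).1 (h0.mem_of_acts (h0.aT.mul hg) (hg.mul h0.aT))
  have e1 : g⁻¹ * tG ψ r * g = tG ψ r * vv ψ r x := by rw [hx]; group
  have tt := hs.xs0.z_sq
  have t1 := inv_eq_of_mul_eq_one_right tt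
  have e2 : vv ψ r ((-x.1, x.2) + x) = vv ψ r 0 := by
    rw [h0.add, ← h0.aT, h0.v0, t1, mul_assoc (tG ψ r * _), ← e1,
      show g⁻¹ * tG ψ r * g * (g⁻¹ * tG ψ r * g) = g⁻¹ * (tG ψ r * tG ψ r) * g by group, tt]
    simp
  have e3 : (-(-x).1, (-x).2) + x + x = 0 :=
    (by decide +kernel : ∀ x : J4, (-x.1, x.2) + x = 0 → (-(-x).1, (-x).2) + x + x = 0) x (h0.inj e2)
  refine ⟨g * vv ψ r x, ?_, hg.mul (h0.acts_J (h0.vmem x))⟩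
  have e4 := congrArg (vv ψ r) e3
  rw [h0.add, h0.add, ← h0.aT, h0.neg, h0.v0, t1] at e4
  rw [Commute, SemiconjBy, ← mul_assoc, show tG ψ r * g = g * (tG ψ r * vv ψ r x) by
    rw [← e1]; group, mul_assoc, mul_assoc, mul_right_inj]
  calc _ = vv ψ r x * (tG ψ r * (tG ψ r * (vv ψ r x)⁻¹ * tG ψ r * vv ψ r x * vv ψ r x)) := by
        rw [e4, mul_one]
    _ = vv ψ r x * (tG ψ r * tG ψ r) * (vv ψ r x)⁻¹ * tG ψ r * vv ψ r x * vv ψ r x := by group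
    _ = _ := by rw [tt]; group

theorem k_equi (g : G) (k : K48) (hg : Commute g (tG ψ r))
    (h : ∀ j, g * ψ (ιK6 ⟨j, 1⟩) * g⁻¹ = ψ (ιK6 ⟨k • j, 1⟩)) (i i' : Fin 4)
    (hi : k • pt i = pt i' ∨ k • pt i = -pt i') : cj g (Ex ψ r (pt i)) = Ex ψ r (pt i') := by
  have d := (by decide +kernel : ∀ (k : K48) (a b : J3), dot (k • a) (k • b) = dot a b) k
  have e : cj g (Cx ψ r (pt i)) = Cx ψ r (k • pt i) := by
    ext x
    have c : ∀ a, g⁻¹ * x * g ∈ Ce a ↔ x ∈ Ce (g * a * g⁻¹) := fun a => by rw [← cj_Ce, mem_cj]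
    rw [mem_cj, mem_Cx, mem_Cx, c, mul_inv_eq_iff_eq_mul.2 hg.eq]
    refine and_congr_right' ⟨fun h1 j hj => ?_, fun h1 j hj => ?_⟩
    · have := h1 (k⁻¹ • j) (by rwa [← d, smul_inv_smul])
      rwa [c, h, smul_inv_smul] at this
    · rw [c, h]
      exact h1 _ (by rwa [d])
  rw [Ex, cj_opp, e]
  rcases hi with hi | hi
  · rw [hi]; rfl
  · rw [hi, Cx_neg]; rfl

variable [Finite G] (hs : St ψ r) (h0 : L0 ψ r) (h1 : L1 ψ r)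
include hs h0 h1

omit [Finite G] in
theorem k_lift' (k : K48) : ∃ g, Commute g (tG ψ r) ∧
    ∀ j, g * ψ (ιK6 ⟨j, 1⟩) * g⁻¹ = ψ (ιK6 ⟨k • j, 1⟩) := by
  obtain ⟨g, h2, h3⟩ := k_lift hs h0 h1 k
  exact ⟨g, h2, fun j => by simpa [vvB] using h3 (0, j)⟩

theorem k_tr (i : Fin 4) : ∃ (g : G) (k : K48), Commute g (tG ψ r) ∧
    (∀ j, g * ψ (ιK6 ⟨j, 1⟩) * g⁻¹ = ψ (ιK6 ⟨k • j, 1⟩)) ∧ k • pt 0 = pt i ∧
    cj g (Q8H.map (ρ ψ r)) = Ex ψ r (pt i) := by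
  obtain ⟨k, hk⟩ := (by decide +kernel : ∀ i : Fin 4, ∃ k : K48, k • pt 0 = pt i) i
  obtain ⟨g, h2, h3⟩ := k_lift' hs h0 h1 k
  exact ⟨g, k, h2, h3, hk, by rw [← Ex0 hs, k_equi g k h2 h3 0 i (Or.inl hk)]⟩

omit [Finite G] in
theorem k_mono (g : G) (hg : g ∈ Ce (tG ψ r) ⊓ nr (JG ψ r)) :
    ∃ k : K48, ∀ j, g * ψ (ιK6 ⟨j, 1⟩) * g⁻¹ = ψ (ιK6 ⟨k • j, 1⟩) := by
  choose F hF using fun j : J3 => mem_BG (h0.JK (conj_mem_of_mem_normalizer hg.2 (h0.βJ j))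
    (mul_mem (mul_mem hg.1 (hs.ψt _)) (inv_mem hg.1)))
  let f : J3 →+ J3 := AddMonoidHom.mk' F fun a b => h0.βinj (by
    rw [← hF, β_add, β_add, ← hF, ← hF, conj_mul])
  have lin : ∀ x y w : ZMod 3, F (x • pt 0 + y • pt 1 + w • pt 2) =
      x • F (pt 0) + y • F (pt 1) + w • F (pt 2) := fun x y w => by
    show f _ = x • f _ + y • f _ + w • f _
    rw [map_add, map_add, ZMod.map_smul, ZMod.map_smul, ZMod.map_smul]
  have sg : ∀ i, qf (0, F (pt i)) = 0 := fun i => by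
    obtain ⟨k, hk⟩ := (by decide +kernel : ∀ i : Fin 4, ∃ k : K48, k • pt 0 = pt i) i
    obtain ⟨a, -, h3⟩ := k_lift' hs h0 h1 k
    exact h1.sing' (g := g * a) (by rw [← hF, ← hk, ← h3, zc_eq]; group)
  obtain ⟨k, e0, e1, e2⟩ := mono_fin _ (sg 0) _ (sg 1) _ (sg 2) (by
    have := sg 3
    rwa [(by decide : pt 3 = (1 : ZMod 3) • pt 0 + (1 : ZMod 3) • pt 1 + (2 : ZMod 3) • pt 2), lin,
      one_smul, one_smul] at this) fun x y w h => h0.βinj (by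
    have := hF (x • pt 0 + y • pt 1 + w • pt 2)
    rw [lin, h, show (⟨0, 1⟩ : SD J3 K6) = 1 from rfl, map_one, map_one, mul_inv_eq_one,
      mul_eq_left] at this
    rw [this, show (⟨0, 1⟩ : SD J3 K6) = 1 from rfl, map_one, map_one])
  refine ⟨k, fun j => ?_⟩
  obtain ⟨x, y, w, rfl⟩ := (by decide +kernel : ∀ j : J3, ∃ x y w : ZMod 3,
    j = x • pt 0 + y • pt 1 + w • pt 2) j
  rw [hF, lin, ← e0, ← e1, ← e2, (by decide +kernel : ∀ (k : K48) (x y w : ZMod 3),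
    x • k • pt 0 + y • k • pt 1 + w • k • pt 2 = k • (x • pt 0 + y • pt 1 + w • pt 2))]

theorem k_s1 : ψ tH ∈ cn (Ex ψ r (pt 1)) := by
  obtain ⟨k, k1, k2⟩ : ∃ k : K48, k • pt 0 = pt 1 ∧ k • pt 1 = pt 0 := by decide +kernel
  obtain ⟨g, h2, h3⟩ := k_lift' hs h0 h1 k
  have c : ∀ a, g⁻¹ * ψ tH * g ∈ Ce a ↔ ψ tH ∈ Ce (g * a * g⁻¹) := fun a => by rw [← cj_Ce, mem_cj]
  rw [← k_equi g k h2 h3 0 1 (Or.inl k1), cn, ← cj_centralizer, mem_cj, Ex0 hs]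
  have h4 : g⁻¹ * ψ tH * g ∈ Ce (ψ dH) := by
    rw [c, dH_eq, h3, k2, ← zc_eq]; exact mem_Ce.2 (ψ_z _)
  have h5 : g⁻¹ * ψ tH * g * (g⁻¹ * ψ tH * g) = 1 := by
    rw [show g⁻¹ * ψ tH * g * (g⁻¹ * ψ tH * g) = g⁻¹ * ψ (tH * tH) * g by rw [map_mul]; group,
      (by decide +kernel : tH * tH = 1)]
    simp
  obtain ⟨m, n, hn, e⟩ := hs.ct' (g := g⁻¹ * ψ tH * g)
    (by rw [c, mul_inv_eq_iff_eq_mul.2 h2.eq]; exact hs.ψt _)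
    (by rw [c, zc_eq, h3, k1, ← dH_eq, map_mem_Ce hs.inj]; decide +kernel)
  generalize g⁻¹ * ψ tH * g = s at *
  obtain ⟨i, hi, h6⟩ := hs.act m
  have act : ∀ q : HS L24, q.g ^ 4 = 1 →
      s * ρ ψ r q * s⁻¹ = ρ ψ r (dH ^ i * n * q * (dH ^ i * n)⁻¹) := fun q hq => by
    have := h6 (n * q * n⁻¹) (by simp only [HS.mul_g, HS.inv_g, conj_pow, hq]; simp)
    rw [show dH ^ i * n * q * (dH ^ i * n)⁻¹ = dH ^ i * (n * q * n⁻¹) * (dH ^ i)⁻¹ by group, ← this, e]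
    simp only [map_mul, map_inv]
    group
  have c4 : ∀ a q : HS L24, q.g ^ 4 = 1 → (a * q * a⁻¹).g ^ 4 = 1 := fun a q hq => by
    simp only [HS.mul_g, HS.inv_g, conj_pow, hq]; simp
  have a1 : ∀ q : HS L24, q.g ^ 4 = 1 →
      dH ^ i * n * (dH ^ i * n * q * (dH ^ i * n)⁻¹) * (dH ^ i * n)⁻¹ = q := fun q hq =>
    hs.ρ_inj (by
      rw [← act _ (c4 _ _ hq), ← act _ hq, inv_eq_of_mul_eq_one_right h5, ← mul_assoc, ← mul_assoc,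
        h5, one_mul, mul_assoc, h5, mul_one])
  have a2 : ∀ q : HS L24, q.g ^ 4 = 1 → dH ^ i * n * (dH * q * dH⁻¹) * (dH ^ i * n)⁻¹ =
      dH * (dH ^ i * n * q * (dH ^ i * n)⁻¹) * dH⁻¹ := fun q hq => hs.ρ_inj (by
    rw [← act _ (c4 _ _ hq), map_mul, map_mul, map_mul, map_mul _ dH, ← act _ hq, map_inv, hs.ρ_d,
      ← mul_assoc, ← mul_assoc, mem_Ce.1 h4, mul_assoc _ (ψ dH)⁻¹, ← mul_inv_rev, mem_Ce.1 h4]
    group)
  rintro _ ⟨q, hq, rfl⟩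
  rw [eq_comm, ← mul_inv_eq_iff_eq_mul, act q hq.2.2]
  obtain ⟨l, hl, rfl⟩ := q8_form hn
  obtain ⟨l', hl', rfl⟩ := q8_form hq
  exact congrArg _ ((by decide +kernel : ∀ i < 3, ∀ l : L24, l ^ 4 = 1 →
    dH ^ i * ⟨0, 0, l⟩ * (dH ^ i * ⟨0, 0, l⟩ * L24.qi * (dH ^ i * ⟨0, 0, l⟩)⁻¹) *
      (dH ^ i * ⟨0, 0, l⟩)⁻¹ = L24.qi →
    dH ^ i * ⟨0, 0, l⟩ * (dH * L24.qi * dH⁻¹) * (dH ^ i * ⟨0, 0, l⟩)⁻¹ =
      dH * (dH ^ i * ⟨0, 0, l⟩ * L24.qi * (dH ^ i * ⟨0, 0, l⟩)⁻¹) * dH⁻¹ →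
    dH ^ i * ⟨0, 0, l⟩ * (dH * L24.qj * dH⁻¹) * (dH ^ i * ⟨0, 0, l⟩)⁻¹ =
      dH * (dH ^ i * ⟨0, 0, l⟩ * L24.qj * (dH ^ i * ⟨0, 0, l⟩)⁻¹) * dH⁻¹ →
    ∀ l' : L24, l' ^ 4 = 1 → dH ^ i * ⟨0, 0, l⟩ * ⟨0, 0, l'⟩ * (dH ^ i * ⟨0, 0, l⟩)⁻¹ = ⟨0, 0, l'⟩)
    i hi l hl (a1 _ (by decide +kernel)) (a2 _ (by decide +kernel)) (a2 _ (by decide +kernel)) l' hl')

end H41.C3

namespace H41.C3

universe u

theorem jobK0 : JobK0.{u} := fun G _ _ ψ r hs h0 h1 => by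
  refine ⟨(Ex0 hs).trans hs.E_eq.symm, fun i => ?_, fun i => ?_, fun i x hx => ?_,
    fun i => (B_Cx hs h0 _).trans (self_le_normalizer_opp _),
    fun i j hj x hx => mem_Ce.1 ((mem_Cx.1 (opp_le _ hx)).2 j hj), fun i j hj x hx hc => ?_,
    k_lift hs h0 h1, k_equi, k_mono hs h0 h1, ?_, sig0 hs, ?_, k_s1 hs h0 h1⟩
  · obtain ⟨g, k, h2, -, -, e⟩ := k_tr hs h0 h1 i
    have := hs.xs0.conj g
    rwa [mul_inv_eq_iff_eq_mul.2 h2.eq, show map _ _ = _ from e] at this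
  · obtain ⟨g, k, -, -, -, e⟩ := k_tr hs h0 h1 i
    rw [← e, card_cj, hs.card0]
  · obtain ⟨g, k, h2, -, -, e⟩ := k_tr hs h0 h1 i
    rw [← e] at hx
    obtain ⟨_, ⟨n, hn, rfl⟩, rfl⟩ := hx
    have h3 := mul_inv_eq_iff_eq_mul.2 h2.eq
    show g * _ * g⁻¹ ∈ _ ∨ g * _ * g⁻¹ * (g * _ * g⁻¹) = _
    rcases q8_all (P := fun n => n = 1 ∨ n = tH ∨ n * n = tH) (by decide +kernel) n hn
      with rfl | rfl | h
    · exact Or.inl (by simp)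
    · exact Or.inl (by rw [← hs.t_eq, h3]; exact mem_zpowers _)
    · exact Or.inr (by rw [conj_mul, ← map_mul, h, ← hs.t_eq, h3])
  · obtain ⟨g, k, h2, h3, h4, e⟩ := k_tr hs h0 h1 i
    rw [← e, mem_cj] at hx
    have := fpf0 hs (j := k⁻¹ • j) (by
      rwa [← (by decide +kernel : ∀ (k : K48) (a b : J3), dot (k • a) (k • b) = dot a b) k,
        smul_inv_smul, h4]) hx (mem_Ce.1 (by
      rw [← mem_cj, cj_Ce, h3, smul_inv_smul]; exact mem_Ce.2 hc))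
    rw [← conj_zp (mem_Ce.2 h2) this] at this
    simpa [mul_assoc] using this
  · rintro _ ⟨m, rfl⟩
    exact ⟨hs.ψt m, Ex0 hs ▸ hs.ψn m⟩
  · rw [Ex0 hs]
    rintro _ ⟨n, hn, rfl⟩
    exact (hs.cm' (by decide +kernel) hn.2.2).symm

end H41.C3
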