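import Cfsg.Agent.H41.C3X1

/-! `JobX` of the blueprint `CO2T.md` (§10): every element of `E` is centralised by an element
of order three. -/

set_option autoImplicit false
open Cfsg H44 H56.L3 H42.L3 H98 Subgroup
open scoped commutatorElement

namespace H41.C3

universe u
variable {G : Type u} [Group G] {ψ : HS L24 →* G} {r : G}

section
variable (k0 : K0 ψ r) {i : Fin 4}
include k0

theorem q1 {x y : G} (hx : x ∈ Ex ψ r (pt i)) (hy : y ∈ Ex ψ r (pt i)) (x1 : x ∉ zpowers (tG ψ r))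
    (y1 : y ∉ zpowers (tG ψ r)) (h : Commute x y) : x * y ∈ zpowers (tG ψ r) :=
  (k0.sq i _ (mul_mem hx hy)).resolve_right fun b => (k0.xs i).z_ne (by
    rw [← b, h.symm.mul_mul_mul_comm, (k0.sq i _ hx).resolve_left x1,
      (k0.sq i _ hy).resolve_left y1, k0.tt])

theorem q2 {x y b : G} (hx : x ∈ Ex ψ r (pt i)) (hy : y ∈ Ex ψ r (pt i)) (hb : b ∈ Ex ψ r (pt i))
    (x1 : x ∉ zpowers (tG ψ r)) (y1 : y ∉ zpowers (tG ψ r)) (b1 : b ∉ zpowers (tG ψ r))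
    (xy : x * y ∉ zpowers (tG ψ r)) (xb : x * b ∉ zpowers (tG ψ r))
    (yb : y * b ∉ zpowers (tG ψ r)) : x * y * b ∈ zpowers (tG ψ r) := by
  have e1 := ((k0.xs i).comm x hx b hb).resolve_left fun h => xb (q1 k0 hx hb x1 b1 h)
  have e2 := ((k0.xs i).comm y hy b hb).resolve_left fun h => yb (q1 k0 hy hb y1 b1 h)
  refine q1 k0 (mul_mem hx hy) hb xy b1 ?_
  rw [Commute, SemiconjBy, mul_assoc, e2, mul_assoc b, ← mul_assoc, e1, mul_assoc, ← mul_assoc _ y,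
    (k0.xs i).z_comm y hy, mul_assoc y, k0.tt, mul_one, mul_assoc]

theorem mod_of_mul {x y : G} (hy : y ∈ Ex ψ r (pt i)) (h : x * y ∈ zpowers (tG ψ r)) :
    x * y⁻¹ ∈ zpowers (tG ψ r) := by
  simpa [mul_assoc] using mul_mem h (inv_mem (k0.sq' hy))

theorem cyc1 {v : J3} (hv : dot v (pt i) ≠ 0) {a b : G} (ha : a ∈ Ex ψ r (pt i))
    (hb : b ∈ Ex ψ r (pt i)) (a1 : a ∉ zpowers (tG ψ r)) (b1 : b ∉ zpowers (tG ψ r)) :
    ∃ n : ZMod 3, ψ (ιK6 ⟨n • v, 1⟩) * a * (ψ (ιK6 ⟨n • v, 1⟩))⁻¹ * b ∈ zpowers (tG ψ r) := by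
  have cj1 : ∀ (j : J3) (x : G), ψ (ιK6 ⟨j, 1⟩) * x * (ψ (ιK6 ⟨j, 1⟩))⁻¹ ∈ zpowers (tG ψ r) →
      x ∈ zpowers (tG ψ r) := fun j x h => by
    rw [← conj_zp (inv_mem (k0.ψK (ιK6 ⟨j, 1⟩))) h] at h
    simpa [mul_assoc] using h
  have nf : ∀ j, dot j (pt i) ≠ 0 → ∀ x ∈ Ex ψ r (pt i), x ∉ zpowers (tG ψ r) →
      ψ (ιK6 ⟨j, 1⟩) * x * (ψ (ιK6 ⟨j, 1⟩))⁻¹ * x ∉ zpowers (tG ψ r) := fun j hj x hx x1 h =>
    x1 (k0.fpf i j hj x hx (comm_of_mod k0.tt (k0.ψK _) (β_cube j) (mod_of_mul k0 hx h)).symm)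
  have h1 := conj_mem_of_mem_normalizer (k0.βn i v) ha
  have h2 := conj_mem_of_mem_normalizer (k0.βn i (v + v)) ha
  by_cases c0 : a * b ∈ zpowers (tG ψ r)
  · exact ⟨0, by simpa [show (⟨0, 1⟩ : SD J3 K6) = 1 from rfl] using c0⟩
  by_cases c1 : ψ (ιK6 ⟨v, 1⟩) * a * (ψ (ιK6 ⟨v, 1⟩))⁻¹ * b ∈ zpowers (tG ψ r)
  · exact ⟨1, by rwa [one_smul]⟩
  refine ⟨2, ?_⟩
  rw [two_smul]
  have sy : ∀ x ∈ Ex ψ r (pt i), ∀ y, x * y ∈ zpowers (tG ψ r) → y * x ∈ zpowers (tG ψ r) :=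
    fun x hx y h => by
    rw [← conj_zp (inv_mem (k0.EK i hx)) h] at h
    simpa [mul_assoc] using h
  have p1 := q2 k0 h1 ha hb (mt (cj1 _ _) a1) a1 b1 (nf v hv a ha a1) c1 c0
  have p2 := q2 k0 h1 ha h2 (mt (cj1 _ _) a1) a1 (mt (cj1 _ _) a1) (nf v hv a ha a1)
    (fun h => nf v hv _ h1 (mt (cj1 _ _) a1) (by
      have := sy _ h1 _ h
      rwa [β_add, mul_inv_rev, mul_assoc _ _ a, mul_assoc (ψ _), ← mul_assoc (ψ _ * a),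
        ← mul_assoc (ψ _)] at this))
    (fun h => nf (v + v) ((by decide : ∀ (v : J3) (i : Fin 4), dot v (pt i) ≠ 0 →
      dot (v + v) (pt i) ≠ 0) v i hv) a ha a1 (sy _ ha _ h))
  simpa [mul_assoc] using mul_mem (k0.sq' h2) (mul_mem (inv_mem p2) p1)

theorem cyc3 {a b : Fin 4 → G} (ha : ∀ i, i ≠ 0 → a i ∈ Ex ψ r (pt i) ∧ a i ∉ zpowers (tG ψ r))
    (hb : ∀ i, i ≠ 0 → b i ∈ Ex ψ r (pt i) ∧ b i ∉ zpowers (tG ψ r)) :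
    ∃ j, ∀ i, i ≠ 0 → ψ (ιK6 ⟨j, 1⟩) * a i * (ψ (ιK6 ⟨j, 1⟩))⁻¹ * b i ∈ zpowers (tG ψ r) := by
  have one : ∀ i, i ≠ 0 → ∃ v : J3, (∀ c, c ≠ 0 → c ≠ i → dot v (pt c) = 0) ∧
      ψ (ιK6 ⟨v, 1⟩) * a i * (ψ (ιK6 ⟨v, 1⟩))⁻¹ * b i ∈ zpowers (tG ψ r) := fun i hi => by
    obtain ⟨v, h1, h2⟩ := (by decide +kernel : ∀ i : Fin 4, i ≠ 0 → ∃ v : J3, dot v (pt i) ≠ 0 ∧
      ∀ n : ZMod 3, ∀ c, c ≠ 0 → c ≠ i → dot (n • v) (pt c) = 0) i hi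
    obtain ⟨n, hn⟩ := cyc1 k0 h1 (ha i hi).1 (hb i hi).1 (ha i hi).2 (hb i hi).2
    exact ⟨_, h2 n, hn⟩
  have red : ∀ i, i ≠ 0 → ∀ v w : J3, dot w (pt i) = 0 →
      ψ (ιK6 ⟨v + w, 1⟩) * a i * (ψ (ιK6 ⟨v + w, 1⟩))⁻¹ =
        ψ (ιK6 ⟨v, 1⟩) * a i * (ψ (ιK6 ⟨v, 1⟩))⁻¹ := fun i hi v w h => by
    rw [β_add, mul_assoc _ _ (a i), ← k0.cB i w h _ (ha i hi).1]; group
  have da : ∀ v w p : J3, dot v p = 0 → dot w p = 0 → dot (v + w) p = 0 := by decide +kernel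
  obtain ⟨v1, p1, q1⟩ := one 1 (by decide)
  obtain ⟨v2, p2, q2⟩ := one 2 (by decide)
  obtain ⟨v3, p3, q3⟩ := one 3 (by decide)
  refine ⟨v1 + v2 + v3, fun i hi => ?_⟩
  fin_cases i
  · exact (hi rfl).elim
  · rw [add_assoc]
    exact (red 1 (by decide) v1 _ (da _ _ _ (p2 1 (by decide) (by decide))
      (p3 1 (by decide) (by decide)))).symm ▸ q1
  · rw [add_comm v1, add_assoc]
    exact (red 2 (by decide) v2 _ (da _ _ _ (p1 2 (by decide) (by decide))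
      (p3 2 (by decide) (by decide)))).symm ▸ q2
  · rw [add_comm]
    exact (red 3 (by decide) v3 _ (da _ _ _ (p1 3 (by decide) (by decide))
      (p2 3 (by decide) (by decide)))).symm ▸ q3

end

variable [Finite G] (hs : St ψ r) (h0 : L0 ψ r) (k0 : K0 ψ r) (k1 : K1 ψ r)
include hs k0 k1

omit [Finite G] in
theorem fx_gen {x : Fin 4 → G} (hx : ∀ i, x i ∈ Ex ψ r (pt i))
    (h : ∀ i, i ≠ 0 → x i ∉ zpowers (tG ψ r)) :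
    ∃ u ∈ NG ψ r, orderOf u = 3 ∧ Commute u (pr4 x) := by
  have eq := k0.equi _ _ (mem_Ce.1 (k0.ψK _)) (ι_act K6.s)
  set σ := ψ (ιK6 K6.s) with hσ
  have σK : σ ∈ Ce (tG ψ r) := k0.ψK _
  have nt : ∀ i, i ≠ 0 → σ * x i * σ⁻¹ ∉ zpowers (tG ψ r) := fun i hi h1 => h i hi (by
    rw [← conj_zp (inv_mem σK) h1] at h1
    simpa [mul_assoc] using h1)
  obtain ⟨j, hj⟩ := cyc3 k0 (a := ![1, σ * x 3 * σ⁻¹, σ * x 1 * σ⁻¹, σ * x 2 * σ⁻¹]) (b := x)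
    (fun i hi => by
      fin_cases i
      · exact (hi rfl).elim
      · exact ⟨eq 3 1 (by decide +kernel) ▸ conj_mem_cj (hx 3), nt 3 (by decide)⟩
      · exact ⟨eq 1 2 (by decide +kernel) ▸ conj_mem_cj (hx 1), nt 1 (by decide)⟩
      · exact ⟨eq 2 3 (by decide +kernel) ▸ conj_mem_cj (hx 2), nt 2 (by decide)⟩)
    fun i hi => ⟨hx i, h i hi⟩
  have hu : ψ (ιK6 ⟨j, K6.s.k⟩) = ψ (ιK6 ⟨j, 1⟩) * σ := by
    rw [hσ, ← map_mul, ← map_mul]; congr 2; ext <;> simp [K6.s]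
  have u3 : ψ (ιK6 ⟨j, K6.s.k⟩) ^ 3 = ψ (ιK6 ⟨dot j (pt 0) • pt 0, 1⟩) := by
    rw [← map_pow, ← map_pow, (by decide +kernel : ∀ j : J3,
      (⟨j, K6.s.k⟩ : SD J3 K6) ^ 3 = ⟨dot j (pt 0) • pt 0, 1⟩) j]
  have uK := k0.ψK (ιK6 ⟨j, K6.s.k⟩)
  have u1 : ψ (ιK6 ⟨j, K6.s.k⟩) ≠ 1 := fun e => absurd (hs.inj (e.trans ψ.map_one.symm))
    ((by decide +kernel : ∀ j : J3, ιK6 ⟨j, K6.s.k⟩ ≠ 1) j)
  have uN : ψ (ιK6 ⟨j, K6.s.k⟩) ∈ NG ψ r := k1.psi ⟨_, rfl⟩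
  generalize ψ (ιK6 ⟨j, K6.s.k⟩) = u at *
  have mv : ∀ a b : Fin 4, ψ (ιK6 ⟨j, 1⟩) * (σ * x a * σ⁻¹) * (ψ (ιK6 ⟨j, 1⟩))⁻¹ * x b ∈
      zpowers (tG ψ r) → ∃ τ ∈ zpowers (tG ψ r), u * x a * u⁻¹ = τ * x b := fun a b h1 =>
    ⟨_, mod_of_mul k0 (hx b) h1, by rw [hu]; group⟩
  obtain ⟨τ1, t1, e1⟩ := mv 3 1 (hj 1 (by decide))
  obtain ⟨τ2, t2, e2⟩ := mv 1 2 (hj 2 (by decide))
  obtain ⟨τ3, t3, e3⟩ := mv 2 3 (hj 3 (by decide))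
  have hd : dot j (pt 0) = 0 := by
    by_contra hd
    refine h 1 (by decide) (k0.fpf 1 (dot j (pt 0) • pt 0)
      ((by decide : ∀ c : ZMod 3, c ≠ 0 → dot (c • pt 0) (pt 1) ≠ 0) _ hd) _ (hx 1)
      (comm_of_mod k0.tt (k0.ψK _) (β_cube _) ?_).symm)
    rw [← u3, show ⁅u ^ 3, x 1⁆ = u * (u * (u * x 1 * u⁻¹) * u⁻¹) * u⁻¹ * (x 1)⁻¹ by
      simp [commutatorElement_def, pow_succ, mul_assoc], e2, ← conj_mul (a := τ2), conj_zp uK t2,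
      e3, ← conj_mul (a := τ2), ← conj_mul (a := τ3), conj_zp uK t2, conj_zp uK t3, e1]
    simpa [mul_assoc] using mul_mem t2 (mul_mem t3 t1)
  rw [hd, zero_smul, show (⟨0, 1⟩ : SD J3 K6) = 1 from rfl, map_one, map_one] at u3
  have e0 : u * x 0 * u⁻¹ = x 0 := by
    have h1 := hx 0
    rw [k0.e1] at h1
    obtain ⟨_, ⟨n, hn, rfl⟩, e⟩ := h1
    have h2 : Commute σ (x 0) := by
      rw [← e]
      show Commute σ (r * ψ n * r⁻¹)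
      rw [inv_eq_of_mul_eq_one_right hs.rr]
      exact hs.cm _ n (by decide +kernel) hn.2.2
    rw [hu, mul_inv_eq_iff_eq_mul]
    exact Commute.mul_left (k0.cB 0 j hd _ (hx 0)).symm h2
  refine ⟨u, uN, orderOf_eq_prime u3 u1, comm_of_mod k0.tt uK u3 ?_⟩
  have c := fun i {τ : G} (hτ : τ ∈ zpowers (tG ψ r)) => zp_comm (k0.EK i (hx i)) hτ
  rw [commutatorElement_def, conj_pr4, pr4, e0, e1, e2, e3, pr4]
  simp only [mul_assoc, (c 0 t2).left_comm, (c 2 t3).left_comm, (c 0 t3).left_comm,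
    (c 3 t1).left_comm, (c 2 t1).left_comm, (c 0 t1).left_comm,
    (k1.cc2 (by decide) (hx 3) (hx 1)).left_comm, (k1.cc2 (by decide) (hx 2) (hx 1)).left_comm]
  simpa [mul_assoc] using mul_mem t2 (mul_mem t3 t1)

include h0

theorem x_fx (e : G) (he : e ∈ EG ψ r) : ∃ u ∈ NG ψ r, orderOf u = 3 ∧ Commute u e := by
  obtain ⟨x, hx, rfl⟩ := k1.dec e he
  by_cases h : ∃ i i', i ≠ i' ∧ x i ∈ zpowers (tG ψ r) ∧ x i' ∈ zpowers (tG ψ r)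
  · obtain ⟨i, i', h1, h2, h3⟩ := h
    obtain ⟨j, hj, h4⟩ := (by decide +kernel : ∀ i i' : Fin 4, i ≠ i' → ∃ j : J3, j ≠ 0 ∧
      ∀ a, a ≠ i → a ≠ i' → dot j (pt a) = 0) i i' h1
    have c : ∀ a, Commute (ψ (ιK6 ⟨j, 1⟩)) (x a) := fun a => by
      by_cases e1 : a = i
      · exact zp_comm (k0.ψK _) (e1 ▸ h2)
      by_cases e2 : a = i'
      · exact zp_comm (k0.ψK _) (e2 ▸ h3)
      exact (k0.cB a j (h4 a e1 e2) _ (hx a)).symm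
    exact ⟨_, k1.psi ⟨_, rfl⟩, orderOf_eq_prime (β_cube j) fun e => hj (h0.βinj (e.trans (by
      rw [show (⟨0, 1⟩ : SD J3 K6) = 1 from rfl, map_one, map_one]))),
      (((c 0).mul_right (c 1)).mul_right (c 2)).mul_right (c 3)⟩
  obtain ⟨i, hi⟩ : ∃ i, ∀ a, a ≠ i → x a ∉ zpowers (tG ψ r) := by
    by_cases h1 : ∃ i, x i ∈ zpowers (tG ψ r)
    · obtain ⟨i, h1⟩ := h1
      exact ⟨i, fun a ha h2 => h ⟨a, i, ha, h2, h1⟩⟩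
    · exact ⟨0, fun a _ h2 => h1 ⟨a, h2⟩⟩
  obtain ⟨k, hk⟩ := (by decide +kernel : ∀ i : Fin 4, ∃ k : K48, ∀ a', a' ≠ 0 → ∃ a, a ≠ i ∧
    (k • pt a = pt a' ∨ k • pt a = -pt a')) i
  obtain ⟨g, hg, h1⟩ := k0.lift' h0 k
  obtain ⟨y, hy, e⟩ := k1.dec _ (conj_mem_of_mem_normalizer (k1.nJ hg) he)
  have one : ∀ (x : Fin 4 → G) (a : Fin 4) (b : G), (∀ i, x i ∈ Ex ψ r (pt i)) →
      b ∈ Ex ψ r (pt a) → (Commute (x a) b ↔ Commute (pr4 x) b) := fun x a b hx hb => by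
    have h2 := conj_pr4 b x
    have h3 : (pr4 fun i => b * x i * b⁻¹) = pr4 (Function.update x a (b * x a * b⁻¹)) := by
      congr 1
      funext c
      by_cases e : c = a
      · rw [e, Function.update_self]
      · rw [Function.update_of_ne e, ← (k1.cc2 e (hx c) hb).eq, mul_inv_cancel_right]
    rw [h3, mul_inv_eq_iff_eq_mul] at h2
    refine ⟨fun h => ?_, fun h => ?_⟩
    · rw [← h.eq, mul_inv_cancel_right, Function.update_eq_self] at h2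
      exact h2.symm
    · rw [← h.eq, mul_left_inj] at h2
      have : x a = b * x a * b⁻¹ := by
        fin_cases a <;> simpa [pr4] using h2
      exact (eq_mul_inv_iff_mul_eq.1 this)
  obtain ⟨u, hu, ho, hc⟩ := fx_gen hs k0 k1 hy fun a' ha' h2 => by
    obtain ⟨a, ha, h3⟩ := hk a' ha'
    refine hi a ha (k0.ctr (hx a) fun b hb => (one x a b hx hb).2 ?_)
    have h4 : g * b * g⁻¹ ∈ Ex ψ r (pt a') :=
      k0.equi g k (mem_Ce.1 hg.1) h1 a a' h3 ▸ conj_mem_cj hb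
    have h5 := (one y a' _ hy h4).1 (zp_comm (k0.EK a' h4) h2).symm
    rw [show pr4 y = g * pr4 x * g⁻¹ from e.symm] at h5
    simpa [mul_assoc] using h5.map (MulAut.conj g⁻¹)
  have hgN : g ∈ NG ψ r := ⟨hg.1, k1.nJ hg⟩
  refine ⟨g⁻¹ * u * g, mul_mem (mul_mem (inv_mem hgN) hu) hgN, ?_, ?_⟩
  · rw [← ho]; simpa using (MulAut.conj g⁻¹).orderOf_eq u
  · rw [show pr4 y = g * pr4 x * g⁻¹ from e.symm] at hc
    simpa [mul_assoc, pr4] using hc.map (MulAut.conj g⁻¹)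

end H41.C3
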