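import Cfsg.Agent.H41.C3X2

/-! `JobX` of the blueprint `CO2T.md` (§10). -/

set_option autoImplicit false
open Cfsg H44 H56.L3 H42.L3 H98 Subgroup
open scoped commutatorElement

namespace H41.C3

universe u
variable {G : Type u} [Group G] {ψ : HS L24 →* G} {r : G} [Finite G]
variable (hs : St ψ r) (h0 : L0 ψ r) (h1 : L1 ψ r) (k0 : K0 ψ r) (k1 : K1 ψ r)
include hs k1

omit [Finite G] in
theorem psi_E {m : HS L24} (h : ψ m ∈ EG ψ r) : m = 1 := by
  have c : ∀ n : HS L24, n.g = 1 → m * n = n * m := fun n hn => by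
    have h2 : ψ ⁅m, n⁆ ∈ EG ψ r := by
      rw [map_commutatorElement, commutatorElement_def, mul_assoc, mul_assoc, ← mul_assoc (ψ n)]
      exact mul_mem h (conj_mem_of_mem_normalizer (k1.psi ⟨n, rfl⟩).2 (inv_mem h))
    refine commutatorElement_eq_one_iff_mul_comm.1 (eq_one_of_cop (by decide : Nat.Coprime 3 4)
      ((by decide +kernel : ∀ w : HS L24, w.g = 1 → w ^ 3 = 1) _ (by
        simp [commutatorElement_def, hn])) (hs.inj ?_))
    rw [map_pow, k1.xs.pow_four h2, map_one]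
  exact (by decide +kernel : ∀ m : HS L24, m ^ 4 = 1 → m * cH = cH * m →
    m * ιK6 K6.s = ιK6 K6.s * m → m = 1) m (hs.inj (by rw [map_pow, k1.xs.pow_four h, map_one]))
    (c _ (by decide +kernel)) (c _ (by decide +kernel))

include h0 h1 k0

theorem x_sc0 : SC0 (tG ψ r) (EG ψ r) (NG ψ r) := by
  have EN : EG ψ r ≤ NG ψ r := le_inf k0.EGK le_normalizer
  have hT := T3_sylN hs k0 k1
  refine ⟨k1.xs, rfl, EG_le fun i x hx => ?_, x_uf hs h0 h1 k0 k1, x_fx hs h0 k0 k1,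
    fun g hg hc => ?_, fun h => (T3_syl hs k0).not_dvd_relIndex ?_,
    fun M hM h3 hn => k1.sigB M hM h3 (BT.trans (hT.le.trans hn)), fun M hn hE hM => ?_⟩
  · refine (k0.sq i x hx).elim (fun h => ?_) fun h => subset_closure ⟨Ex_le i hx, h⟩
    obtain ⟨a, ha, b, hb, hab⟩ := (k0.xs 0).nonab
    have a2 := (k0.sq 0 a ha).resolve_left fun h => hab (zp_comm (k0.EK 0 hb) h).symm
    have aC : a ∈ closure {e | e ∈ EG ψ r ∧ e * e = tG ψ r} := subset_closure ⟨Ex_le 0 ha, a2⟩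
    have := mul_mem aC aC
    rw [a2] at this
    exact zpowers_le.2 this h
  · by_contra hn
    have inv : ∀ {a b : G}, ⁅a, b⁆ ∈ zpowers (tG ψ r) → ⁅b, a⁆ ∈ zpowers (tG ψ r) := fun h => by
      rw [← commutatorElement_inv]; exact inv_mem h
    have h2 := z_mem hs k0 k1 (M := NG ψ r ⊓ stab (EG ψ r) (zpowers (tG ψ r)))
      (le_normalizer_inf le_normalizer (le_normalizer_stab inf_le_right
        (inf_le_left.trans Ce_le_nr))) inf_le_left
      fun h => hn (h ⟨hg, Ce_le_nr hg.1, fun e he => inv (hc e he)⟩)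
    obtain ⟨a, ha, b, hb, hab⟩ := (k0.xs 1).nonab
    exact hab (zp_comm (k0.EK 1 hb) (k0.fpf 1 (pt 0) (by decide) a ha (zc_eq ▸ (comm_of_mod k0.tt
      (k0.ψK _) z_cube (inv (h2.2.2 a (Ex_le 1 ha)))).symm))).symm
  · rw [← relIndex_mul_relIndex (T3 ψ) (NG ψ r) _ hT.le inf_le_left]
    exact h.mul_left _
  · by_cases h : M ≤ EG ψ r
    · exact Or.inl (le_antisymm h hE)
    have hz := z_mem hs k0 k1 hn hM h
    obtain ⟨k, hk⟩ : ∃ k : K48, k • pt 0 = pt 1 := by decide +kernel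
    obtain ⟨g, hg, h2⟩ := k0.lift' h0 k
    have hd : ψ dH ∈ M := by
      rw [dH_eq, ← hk, ← h2, ← zc_eq]
      exact conj_mem_of_mem_normalizer (hn ⟨hg.1, k1.nJ hg⟩) hz
    refine Or.inr ⟨ψ tH, ?_, by rw [← map_mul, (by decide +kernel : tH * tH = 1), map_one],
      fun h3 => absurd (psi_E hs k1 h3) (by decide +kernel)⟩
    rw [← (by decide +kernel : (L24.qi * dH * L24.qi⁻¹ * dH⁻¹) ^ 2 = tH), map_pow, map_mul,
      map_mul, map_mul, map_inv, map_inv]
    exact pow_mem (mul_mem (conj_mem_of_mem_normalizer (hn (k1.psi ⟨_, rfl⟩)) hd) (inv_mem hd)) 2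

end H41.C3

namespace H41.C3

universe u

theorem jobX : JobX.{u} := fun loc G _ _ ψ r hs h0 h1 k0 k1 => by
  refine ⟨x_sc0 hs h0 h1 k0 k1, ?_⟩
  have EN : EG ψ r ≤ NG ψ r := le_inf k0.EGK le_normalizer
  have : ((EG ψ r).subgroupOf (NG ψ r)).Normal :=
    (normal_subgroupOf_iff_le_normalizer EN).2 inf_le_right
  let π := QuotientGroup.mk' ((EG ψ r).subgroupOf (NG ψ r))
  have sf : Function.Surjective π := QuotientGroup.mk'_surjective _
  have one : ∀ g : NG ψ r, π g = 1 ↔ (g : G) ∈ EG ψ r := fun g => QuotientGroup.eq_one_iff g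
  let ψN : HS L24 →* NG ψ r := ψ.codRestrict _ fun m => k1.psi ⟨m, rfl⟩
  have cE : (Nat.card (EG ψ r)).Coprime 3 := by rw [k1.card]; decide
  obtain ⟨φ, ψ', h2, h3, -, h4⟩ := loc _ (π.comp ψN)
    ((injective_iff_map_eq_one _).2 fun m hm => psi_E hs k1 ((one _).1 hm))
    (le_antisymm (fun q hq => by
      obtain ⟨g, rfl⟩ := sf q
      obtain ⟨e, he, hc⟩ := lift_comm cE (k1.psi ⟨zc, rfl⟩).2 z_cube (g := g)
        ((one ⁅g⁻¹, ψN zc⁆).1 (by
          rw [map_commutatorElement, map_inv]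
          exact commutatorElement_eq_one_iff_commute.2
            (show Commute (π g) _ from mem_Ce.1 hq).inv_left))
      obtain ⟨m, n, hn, e1⟩ := hs.ct _ hc.symm (mem_Ce.1 (mul_mem g.2.1 (k0.EGK he)))
      have h5 := Ex_le 0 (hs.mem_E0 k0 hn)
      have e2 : g * ⟨e, EN he⟩ = ψN m * ⟨_, EN h5⟩ := Subtype.ext e1
      have e3 := congrArg π e2
      rw [map_mul, map_mul, (one ⟨e, EN he⟩).2 he, (one ⟨_, EN h5⟩).2 h5, mul_one, mul_one] at e3
      exact ⟨m, e3.symm⟩) (by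
      rintro _ ⟨m, rfl⟩
      exact mem_Ce.2 (ψ_z m)))
    (fun M h3 hM => by
      have mM : ∀ {g : NG ψ r}, (g : G) ∈ (M.comap π).map (NG ψ r).subtype ↔ π g ∈ M :=
        fun {g} => mem_map_iff_mem (NG ψ r).subtype_injective
      have h5 := k1.sigB ((M.comap π).map (NG ψ r).subtype)
        ((map_subtype_le _).trans inf_le_left) (cop_of_forall (by
          rintro _ ⟨g, hg, rfl⟩ g3
          exact eq_one_of_mem cE ((one g).1 (eq_one_of_mem h3 hg (by
            rw [← map_pow, show g ^ 3 = 1 from Subtype.ext g3, map_one]))) g3))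
        fun b hb => by
          obtain ⟨j, rfl⟩ := mem_BG hb
          refine mem_normalizer_of_cj_le ?_
          rintro _ ⟨_, ⟨g, hg, rfl⟩, rfl⟩
          exact (mM (g := ψN (ιK6 ⟨j, 1⟩) * g * (ψN (ιK6 ⟨j, 1⟩))⁻¹)).2 (by
            simpa using hM _ (β_mem j) _ hg)
      refine eq_bot_iff.2 fun q hq => ?_
      obtain ⟨g, rfl⟩ := sf q
      exact (one g).2 (h5 (mM.2 hq)))
    fun k => by
      obtain ⟨g, hg, h2⟩ := k0.lift' h0 k
      refine ⟨π ⟨g, hg.1, k1.nJ hg⟩, fun j => ?_⟩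
      rw [MonoidHom.comp_apply, MonoidHom.comp_apply, ← map_inv, ← map_mul, ← map_mul]
      exact congrArg π (Subtype.ext (h2 j))
  exact ⟨_, _, inferInstance, π, φ, ψ', sf, one, h2,
    fun m g e => by rw [h3]; exact congrArg π (Subtype.ext e), h4⟩

end H41.C3
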