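/- S3275, U2F central case: job HY. -/
import Cfsg.Agent.H96.U2CenSpec
import Cfsg.Agent.H12.LC5

set_option autoImplicit false

namespace H41.CenHY

open Subgroup Cfsg H98 H48.DP H96.U2I H96.Cen

universe u

theorem jobHY : H96.Cen.HY.{u} := by
  intro W _ _ F A K v md qd reg hv nK
  have inv : ∀ a ∈ A, a⁻¹ = a := fun a ha => inv_eq_of_mul_eq_one_right (md.el a ha)
  have ab : ∀ a ∈ A, ∀ b ∈ A, a * b = b * a := fun a ha b hb => by
    rw [← inv _ (mul_mem ha hb), mul_inv_rev, inv a ha, inv b hb]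
  have key : ∀ a ∈ A, a ∉ K → ∀ f ∈ F, a * f = f * a → ∀ s ∈ A, s * f = f * s := by
    intro a ha hK f hf c s hs
    obtain ⟨p, hp⟩ := hv a ha hK
    have e : a • p + p = v := by rw [hp, add_right_comm, md.two, zero_add]
    have h1 : s • v = v := e ▸ qd a ha s hs p
    have h2 : s • f • v = f • v := by
      rw [← e, smul_add, ← mul_smul f a, ← c, mul_smul]
      exact qd a ha s hs _
    have m : f⁻¹ * (s * f * s⁻¹) ∈ F :=
      mul_mem (inv_mem hf) ((mem_normalizer_iff.1 (md.nF hs) f).1 hf)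
    have := reg _ m (by
      rw [inv s hs, mul_smul, mul_smul, mul_smul, h1, h2, inv_smul_smul])
    rw [inv_mul_eq_one] at this
    exact mul_inv_eq_iff_eq_mul.1 this.symm
  obtain ⟨a, ha, aK⟩ := SetLike.not_le_iff_exists.1 nK
  have a1 : a ≠ 1 := fun e => aK (e ▸ one_mem K)
  by_contra hc
  obtain ⟨b, hb, b1, ba⟩ : ∃ b ∈ A, b ≠ 1 ∧ b ≠ a := by
    by_contra n
    push Not at n
    apply hc
    have : (A : Set (Au W)) ⊆ {1, a} := fun b hb => by
      by_cases e : b = 1
      · exact .inl e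
      · exact .inr (n b hb e)
    have := Set.ncard_le_ncard this (Set.toFinite _)
    exact this.trans (Set.ncard_pair a1.symm).le
  have o2 : ∀ a ∈ A, a ≠ 1 → orderOf a = 2 := fun a ha h =>
    orderOf_eq_prime (by rw [pow_two, md.el a ha]) h
  have odd : Odd (Nat.card F) := by
    haveI : Fact (Nat.Prime 3) := ⟨Nat.prime_three⟩
    obtain ⟨n, hn⟩ := IsPGroup.iff_card.1 md.F3
    rw [hn]
    exact Odd.pow (by decide)
  have fin : ∀ s ∈ A, s ≠ 1 → (b ∈ K → s = b) → (a * b ∈ K → s = a * b) → False := by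
    intro s hs s1 h1 h2
    have g : ∀ t ∈ A, (t ∈ K → s = t) → ∀ x ∈ F, t * x = x * t → x ∈ C1 s := fun t ht h x hx c =>
      mem_centralizer_iff.2 <| by
        rintro _ rfl
        by_cases k : t ∈ K
        · rw [h k]; exact c
        · exact key t ht k x hx c _ hs
    have := H12.LC.gen_four (L := C1 s) odd (o2 a ha a1) (o2 b hb b1) (ab a ha b hb) ba.symm
      (md.nF ha) (md.nF hb) (g a ha fun k => absurd k aK) (g b hb h1) (g _ (mul_mem ha hb) h2)
    exact s1 (md.fa s hs fun f hf => mem_centralizer_iff.1 (this hf) s rfl)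
  by_cases k : b ∈ K
  · exact fin b hb b1 (fun _ => rfl) fun h => absurd ((mul_mem_cancel_right k).1 h) aK
  · refine fin (a * b) (mul_mem ha hb) (fun e => ba ?_) (fun h => absurd h k) fun _ => rfl
    rw [← inv a ha]
    exact eq_inv_of_mul_eq_one_right e

end H41.CenHY
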