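/- S3275, chapter U0 section C: job Sec. -/
import Cfsg.Agent.H98.DP0CSpec
import Cfsg.Agent.H82.DPCCm

set_option autoImplicit false

namespace H41.DpSec

open Subgroup Cfsg H98 H48.DP H57.DPC H48.DP2 H98.DP0C H82.DPCm

universe u

theorem jobSec : H98.DP0C.JobSec.{u} := by
  intro act cov sm G X _ _ _ _ H π hG hH pj h27
  have hk : π.ker = pCore 2 H := pj.ker.trans (pCoreOf_subgroupOf H)
  have k2 : IsPGroup 2 π.ker := hk ▸ isPGroup_pCore 2 H
  have nd : ND X := (hG.nd.sub H).of_surjective π pj.surj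
  have o2 : O2 (⊤ : Subgroup X) = ⊥ := by
    have := map_pCoreOf_of_ker (p := 2) k2 (H := ⊤)
    rw [map_top_of_surjective _ pj.surj, pCoreOf_top, ← hk] at this
    rw [O2, ← this, Subgroup.map_eq_bot_iff]
  refine ⟨nd, o2, fun K hK => ?_, fun B hB => ?_⟩
  · have hcp := H14.cp_iff.mpr hK
    have h3 : Three (K ⧸ center K) := by
      let L : Subgroup G := (K.comap π).map H.subtype
      have LH : L ≤ H := map_subtype_le _
      have mem : ∀ l : L, π (inclusion LH l) ∈ K := by
        rintro ⟨_, x, hx, rfl⟩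
        exact hx
      let φ : L →* K ⧸ center K :=
        (QuotientGroup.mk' (center K)).comp ((π.comp (inclusion LH)).codRestrict K mem)
      have hφ : Function.Surjective φ := by
        refine (QuotientGroup.mk'_surjective _).comp fun k => ?_
        obtain ⟨x, hx⟩ := pj.surj k
        exact ⟨⟨x, x, show π x ∈ K from hx ▸ k.2, rfl⟩, Subtype.ext hx⟩
      let e := QuotientGroup.quotientKerEquivOfSurjective φ hφ
      have s : IsSimpleGroup (K ⧸ center K) := hcp.2.2
      refine three_congr e (hG.k L (fun h => hH (top_le_iff.1 (h ▸ LH))) φ.ker e.isSimpleGroup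
        fun c => H14.quasi_quotient_not_comm hcp.2 ⟨⟨fun a b => ?_⟩⟩)
      obtain ⟨a, rfl⟩ := e.surjective a
      obtain ⟨b, rfl⟩ := e.surjective b
      rw [← map_mul, ← map_mul, c.1.1 a b]
    have h3' : Three K := cov K hcp.2 (odd_center hcp.1 o2) h3
    have hN : IsComponentOf K (No K) :=
      H14.cp_iff.mp ⟨SubN.of_normal le_normalizer le_rfl, hcp.2⟩
    exact ⟨⟨hK, sm X K h3', (act_rel act nd hK h3).1,
      fun g hg => (act_rel act nd hN h3).2 g hg hg⟩, h3'⟩
  · have : Fact (Nat.Prime 3) := ⟨Nat.prime_three⟩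
    have : Fact (Nat.Prime 2) := ⟨Nat.prime_two⟩
    obtain ⟨R, hR⟩ := exists_isSyl 3 (B.comap π)
    have hB3 : IsPGroup 3 B := fun b => ⟨1, Subtype.ext (by simpa using hB.1.2 b b.2)⟩
    have m : R.map π = B := by
      have := hR.map π
      rw [map_comap_eq_self_of_surjective pj.surj] at this
      exact this.eq_of_isPGroup hB3
    have inj : ∀ x ∈ R, π x = 1 → x = 1 := fun x hx e =>
      (disjoint_def.1 (IsPGroup.disjoint_of_ne 3 2 (by decide) _ _ hR.isPGroup k2)) hx e
    refine h27 (R.map H.subtype) (map_subtype_le _) ⟨⟨⟨⟨?_⟩⟩, ?_⟩, ?_⟩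
    · rintro ⟨_, a, ha, rfl⟩ ⟨_, b, hb, rfl⟩
      have c := congrArg Subtype.val (hB.1.1.1.1 ⟨π a, hR.le ha⟩ ⟨π b, hR.le hb⟩)
      have c' : π a * π b = π b * π a := c
      have := inj (a * b * (b * a)⁻¹) (mul_mem (mul_mem ha hb) (inv_mem (mul_mem hb ha)))
        (by rw [map_mul, map_inv, map_mul, map_mul, c', mul_inv_cancel])
      have e : ((a * b : H) : G) = (b * a : H) := congrArg Subtype.val (mul_inv_eq_one.1 this)
      exact Subtype.ext e
    · rintro _ ⟨a, ha, rfl⟩
      have := inj (a ^ 3) (pow_mem ha 3) (by rw [map_pow]; exact hB.1.2 _ (hR.le ha))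
      exact congrArg Subtype.val this
    · rw [card_map_of_injective H.subtype_injective]
      refine hB.2.trans ?_
      rw [← m]
      exact Nat.card_le_card_of_surjective _ (π.subgroupMap_surjective R)

end H41.DpSec
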