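/- A standard subgroup whose tightly embedded pairs meet in groups of order two. -/
import Cfsg.Agent.H48.ASG

set_option autoImplicit false
set_option linter.unusedSectionVars false

namespace H41.F4AS

open Subgroup Cfsg H98 H14 H1.Gold
open H99.Wr hiding mem_cen1 AS
open H48.ASG (mc1 TS exists_ts0 rev_not)
open scoped commutatorElement

universe u v

section Aut
variable {X : Type v} [Group X]

def Inr (σ : MulAut X) : Prop := ∃ a, σ = MulAut.conj a

/-- `B = N_A(K')`, `Y = K' ⊓ A`, `H` the image of `K' ⊓ N` in `Aut A`. -/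
structure Cfg (B Y : Subgroup X) (H : Subgroup (MulAut X)) : Prop where
  ne : B ≠ ⊤
  le : Y ≤ B
  inn : ∀ y ∈ Y, MulAut.conj y ∈ H
  com : ∀ b ∈ B, ∀ h ∈ H, b * (h b)⁻¹ ∈ Y
  fix : ∀ σ ∈ H, orderOf σ = 2 → ∀ a, σ a = a → a ∈ B

/-- The local fact on the second centre. -/
def Core (X : Type v) [Group X] : Prop := ∀ (x : X) (β : MulAut X) (U B : Subgroup X),
  orderOf x = 2 → IsSyl 2 U B → U ≤ cen1 x → cen1 x ≤ B → (∀ u ∈ U, β u = u ∨ β u = x * u) →
  β ≠ 1 → β ≠ MulAut.conj x →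
  (∀ σ, σ = β ∨ σ = β * MulAut.conj x → orderOf σ = 2 → ∀ a, σ a = a → a ∈ B) → B = ⊤

structure AF (X : Type v) [Group X] : Prop where
  simple : IsSimpleGroup X
  inj : Function.Injective (MulAut.conj : X →* MulAut X)
  core : Core X
  f2 : ∀ σ : MulAut X, σ * σ = 1 → ¬ Inr σ → ∃ a, orderOf (a * (σ a)⁻¹) = 2
  f3 : ∀ σ τ : MulAut X, Inr σ ∨ Inr τ ∨ Inr (σ * τ)

theorem exists_mod {G : Type*} [Group G] [Finite G] {S T Z : Subgroup G} (hS : IsPGroup 2 S)
    (hT : T ≤ S) (h1 : S ≤ nor T) (h2 : S ≤ nor Z) (h3 : ¬ T ≤ Z) :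
    ∃ w ∈ T, w ∉ Z ∧ ∀ a ∈ S, w * a * w⁻¹ * a⁻¹ ∈ Z := by
  have hN : (Z.subgroupOf S).Normal := normal_subgroupOf_of_le_normalizer h2
  have hT' : (T.subgroupOf S).Normal := normal_subgroupOf_of_le_normalizer h1
  let π := QuotientGroup.mk' (Z.subgroupOf S)
  have hQ : IsPGroup 2 (S ⧸ Z.subgroupOf S) := hS.to_quotient _
  have hn : ((T.subgroupOf S).map π).Normal := hT'.map π (QuotientGroup.mk'_surjective _)
  have := inf_centralizer_ne_bot (Q := (T.subgroupOf S).map π) (A := ⊤) (hQ.to_subgroup _)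
    (hQ.to_subgroup _) (normalizer_eq_top _).ge fun e => h3 fun t ht => by
      have : π ⟨t, hT ht⟩ ∈ (T.subgroupOf S).map π := mem_map_of_mem π ht
      rw [e, mem_bot] at this
      exact (QuotientGroup.eq_one_iff (N := Z.subgroupOf S) _).1 this
  obtain ⟨⟨_, ⟨w, hw, rfl⟩, hc⟩, h4⟩ := ne_bot_iff_exists_ne_one.1 this
  refine ⟨w, hw, fun e => h4 (Subtype.ext ((QuotientGroup.eq_one_iff _).2 e)), fun a ha => ?_⟩
  have h5 := mem_cen.1 hc (π ⟨a, ha⟩) (mem_top _)
  have : π (w * ⟨a, ha⟩ * w⁻¹ * ⟨a, ha⟩⁻¹) = 1 := by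
    rw [map_mul, map_mul, map_mul, map_inv, map_inv, ← h5]; group
  exact (QuotientGroup.eq_one_iff (N := Z.subgroupOf S) _).1 this

theorem conj_cj (h : MulAut X) (b : X) : h * MulAut.conj b * h⁻¹ = MulAut.conj (h b) :=
  MulEquiv.ext fun a => by simp

theorem AF.f1 [Finite X] (hF : AF X) {B Y : Subgroup X} {H T : Subgroup (MulAut X)} (c : Cfg B Y H)
    (hT : IsSyl 2 T H) : Nat.card T ≤ 2 := by
  by_contra hc
  set C : Subgroup (MulAut X) := B.map MulAut.conj with hC
  have hb : ∀ b ∈ B, ∀ h ∈ H, h b ∈ B := fun b hb h hh => by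
    have := mul_mem (inv_mem (c.le (c.com b hb h hh))) hb
    simpa using this
  have n1 : H ≤ nor C := fun h hh => mem_normalizer_of_cj_le (by
    rintro _ ⟨_, ⟨b, hb', rfl⟩, rfl⟩
    exact ⟨h b, hb b hb' h hh, (conj_cj h b).symm⟩)
  have n2 : C ≤ nor H := by
    rintro _ ⟨b, hb', rfl⟩
    refine mem_normalizer_of_cj_le ?_
    rintro _ ⟨h, hh, rfl⟩
    have : MulAut.conj b * h * (MulAut.conj b)⁻¹ = MulAut.conj (b * (h b)⁻¹) * h := by
      rw [map_mul, map_inv, ← conj_cj]; group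
    show MulAut.conj b * h * (MulAut.conj b)⁻¹ ∈ H
    rw [this]; exact mul_mem (c.inn _ (c.com b hb' h hh)) hh
  obtain ⟨S, hS, hTS⟩ := exists_isSyl_le hT.isPGroup (hT.le.trans le_sup_left : T ≤ H ⊔ C)
  have SH : S ≤ nor H := hS.le.trans (sup_le le_normalizer n2)
  have SC : S ≤ nor C := hS.le.trans (sup_le n1 le_normalizer)
  have eT : S ⊓ H = T := hT.eq_of_le (hS.isPGroup.to_le inf_le_left) (le_inf hTS hT.le) inf_le_right
  have ST : S ≤ nor T := eT ▸ le_normalizer_inf le_normalizer SH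
  have hU : IsSyl 2 ((S ⊓ C).comap MulAut.conj) B := by
    refine IsSyl.of_map_injective hF.inj ?_
    rw [map_comap_eq_self (inf_le_right.trans (map_le_range _ _))]
    exact hS.inf_of_le_normalizer le_sup_right SC
  have h1 : T ⊓ Inn X ≠ ⊥ := fun e => hc (by
    have k : ∀ a ∈ T, Inr a → a = 1 := fun a ha ⟨b, hb⟩ =>
      mem_bot.1 (e ▸ (⟨ha, b, hb.symm⟩ : a ∈ T ⊓ Inn X))
    have k2 : ∀ a ∈ T, ∀ b ∈ T, a ≠ 1 → b ≠ 1 → a * b = 1 := fun a ha b hb a1 b1 =>
      k _ (mul_mem ha hb) (((hF.f3 a b).resolve_left (mt (k a ha) a1)).resolve_left (mt (k b hb) b1))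
    by_cases e0 : T = ⊥
    · rw [e0, card_bot]; omega
    obtain ⟨t, ht, ot⟩ := H88.exists_involution_of_isPGroup hT.isPGroup e0
    have : T ≤ zpowers t := fun a ha => (mem_zpowers_two ot).2 (by
      by_cases a1 : a = 1
      · exact .inl a1
      · exact .inr (by
          rw [eq_inv_of_mul_eq_one_left (k2 a ha t ht a1 (ne_one_of_two ot)), inv_eq_of_two ot]))
    have := card_le_of_le this
    rwa [Nat.card_zpowers, ot] at this)
  obtain ⟨s, ⟨⟨hs, x, rfl⟩, sc⟩, os⟩ := H88.exists_involution_of_isPGroup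
    (hT.isPGroup.to_le (inf_le_left.trans inf_le_left))
    (inf_centralizer_ne_bot (hT.isPGroup.to_le inf_le_left) hS.isPGroup
      (le_normalizer_inf ST (le_top.trans (normalizer_eq_top _).ge)) h1)
  have ox : orderOf x = 2 := by rw [← os, orderOf_injective _ hF.inj]
  obtain ⟨w, hw, nw, cw⟩ := exists_mod (Z := zpowers (MulAut.conj x)) hS.isPGroup hTS ST
    (fun a ha => centralizer_le_normalizer _ ((cen1_eq _).le (mc1.2 (mem_cen.1 sc a ha))))
    fun e => hc (by have := card_le_of_le e; rwa [Nat.card_zpowers, os] at this)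
  refine c.ne (hF.core x w _ B ox hU (fun u hu => mc1.2 (hF.inj ?_))
    (fun a ha => c.fix _ (hT.le hs) os a ?_) (fun u hu => ?_) (fun e => nw (e ▸ one_mem _))
    (fun e => nw (e ▸ mem_zpowers _)) fun σ hσ oσ => c.fix σ (hT.le ?_) oσ)
  · rw [map_mul, map_mul]; exact mem_cen.1 sc _ hu.1
  · rw [MulAut.conj_apply, ← mc1.1 ha, mul_inv_cancel_right]
  · have := cw _ hu.1
    rw [conj_cj, ← map_inv, ← map_mul, mem_zpowers_two os] at this
    rcases this with e | e
    · exact .inl (mul_inv_eq_one.1 (hF.inj (e.trans (map_one _).symm)))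
    · exact .inr (mul_inv_eq_iff_eq_mul.1 (hF.inj e))
  · rcases hσ with rfl | rfl
    exacts [hw, mul_mem hw hs]

end Aut

variable {G : Type u} [Group G] [Finite G] {X : Type v} [Group X] [Finite X]
  {A : Subgroup G} {l : X →* G} {g n m s : G} {σ τ : MulAut X}

structure Base (A : Subgroup G) (l : X →* G) : Prop where
  std : IsStandardSubgroup A
  inj : Function.Injective l
  rng : l.range = A

/-- `n` induces `σ` -/
def Act (l : X →* G) (n : G) (σ : MulAut X) : Prop := ∀ a, l (σ a) = n * l a * n⁻¹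

theorem Act.mul (h : Act l n σ) (h' : Act l m τ) : Act l (n * m) (σ * τ) := fun a => by
  rw [MulAut.mul_apply, h, h']; group

theorem Act.one : Act l 1 1 := fun a => by simp

theorem Act.inv (h : Act l n σ) : Act l n⁻¹ σ⁻¹ := fun a => by
  have := h (σ⁻¹ a)
  rw [MulAut.apply_inv_self] at this
  rw [this]; group

theorem Act.pow (h : Act l n σ) (k : ℕ) : Act l (n ^ k) (σ ^ k) := by
  induction k with
  | zero => simpa using Act.one
  | succ k ih => rw [pow_succ, pow_succ]; exact ih.mul h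

theorem act_conj (a : X) : Act l (l a) (MulAut.conj a) := fun b => by simp

/-- the automorphisms induced by `Y` -/
def im (l : X →* G) (Y : Subgroup G) : Subgroup (MulAut X) where
  carrier := {σ | ∃ n ∈ Y, Act l n σ}
  one_mem' := ⟨1, Y.one_mem, Act.one⟩
  mul_mem' := by
    rintro _ _ ⟨n, hn, h⟩ ⟨m, hm, h'⟩
    exact ⟨_, Y.mul_mem hn hm, h.mul h'⟩
  inv_mem' := by
    rintro _ ⟨n, hn, h⟩
    exact ⟨_, Y.inv_mem hn, h.inv⟩

section Base
variable (b : Base A l)
include b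

theorem mem_A (a : X) : l a ∈ A := b.rng ▸ ⟨a, rfl⟩

theorem of_mem {x : G} (h : x ∈ A) : ∃ a, l a = x := by rwa [← b.rng] at h

theorem nK : nor A = nor (cen A) := b.std.2.2.2

theorem uniq (h : Act l n σ) (h' : Act l n τ) : σ = τ :=
  MulEquiv.ext fun a => b.inj ((h a).trans (h' a).symm)

theorem cen_of (h : Act l n σ) (h' : Act l m σ) : n * m⁻¹ ∈ cen A := by
  have := h.mul h'.inv
  rw [mul_inv_cancel] at this
  refine mem_cen.2 fun x hx => ?_
  obtain ⟨a, rfl⟩ := of_mem b hx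
  have := this a
  rw [MulAut.one_apply, eq_mul_inv_iff_mul_eq] at this
  exact this

theorem act_cen (h : n ∈ cen A) : Act l n 1 := fun a => by
  rw [← mem_cen.1 h _ (mem_A b a)]; simp

theorem exists_hom : ∃ α : nor A →* MulAut X, ∀ n : nor A, Act l n (α n) := by
  let e : X ≃* A := (MonoidHom.ofInjective b.inj).trans (MulEquiv.subgroupCongr b.rng)
  have he : ∀ a, (e a : G) = l a := fun _ => rfl
  refine ⟨(MulAut.congr e.symm).toMonoidHom.comp A.normalizerMonoidHom, fun n a => ?_⟩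
  rw [← he, ← he]
  simp [MulAut.congr]

theorem act_ex (h : n ∈ nor A) : ∃ σ, Act l n σ :=
  let ⟨_, hα⟩ := exists_hom b; ⟨_, hα ⟨n, h⟩⟩

theorem im_eq {α : nor A →* MulAut X} (hα : ∀ n : nor A, Act l n (α n)) {Y : Subgroup G}
    (h : Y ≤ nor A) : im l Y = (Y.subgroupOf (nor A)).map α := by
  ext σ
  constructor
  · rintro ⟨n, hn, k⟩
    exact ⟨⟨n, h hn⟩, hn, uniq b (hα _) k⟩
  · rintro ⟨n, hn, rfl⟩
    exact ⟨n, hn, hα n⟩

theorem im_syl {T Y : Subgroup G} (h : IsSyl 2 T Y) (hY : Y ≤ nor A) :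
    IsSyl 2 (im l T) (im l Y) := by
  obtain ⟨α, hα⟩ := exists_hom b
  rw [im_eq b hα hY, im_eq b hα (h.le.trans hY)]
  exact (h.subgroupOf hY).map α

theorem card_im {T : Subgroup G} (h : T ≤ nor A) (hd : T ⊓ cen A = ⊥) :
    Nat.card (im l T) = Nat.card T := by
  choose f hf using fun t : T => act_ex b (h t.2)
  refine (Nat.card_eq_of_bijective (fun t : T => (⟨f t, t, t.2, hf t⟩ : im l T)) ⟨?_, ?_⟩).symm
  · intro t t' e
    have e' : f t = f t' := congrArg Subtype.val e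
    have : (t : G) * (t' : G)⁻¹ ∈ T ⊓ cen A :=
      ⟨T.mul_mem t.2 (T.inv_mem t'.2), cen_of b (hf t) (e' ▸ hf t')⟩
    rw [hd, mem_bot, mul_inv_eq_one] at this
    exact Subtype.ext this
  · rintro ⟨σ, t, ht, k⟩
    exact ⟨⟨t, ht⟩, Subtype.ext (uniq b (hf _) k)⟩

theorem inn_iff (h : Act l n σ) : Inr σ ↔ n ∈ cen A ⊔ A := by
  constructor
  · rintro ⟨a, rfl⟩
    have := mul_mem_sup (cen_of b h (act_conj a)) (mem_A b a)
    rwa [inv_mul_cancel_right] at this
  · intro hn
    obtain ⟨k, hk, x, hx, rfl⟩ := (mem_sup_right_norm (le_normalizer.trans (nK b).le)).1 hn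
    obtain ⟨a, rfl⟩ := of_mem b hx
    exact ⟨a, by simpa using uniq b h ((act_cen b hk).mul (act_conj a))⟩

theorem base_cj (g : G) : Base (cj g A) ((MulAut.conj g).toMonoidHom.comp l) :=
  ⟨H69.Std.std_cj b.std g, (MulAut.conj g).injective.comp b.inj, by
    rw [MonoidHom.range_comp, b.rng]⟩

theorem no_inv (hg : g ∉ nor A) {k : G} (h1 : k ∈ cen A) (h2 : k ∈ cj g (cen A)) (kk : k * k = 1) :
    k = 1 := by
  by_contra h
  exact hg (nK b ▸ te_mem_normalizer b.std.2.1 (orderOf_two_of_mul_self kk h) h1 h2)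

variable (hF : AF X)
include hF

theorem normal_A {Y : Subgroup G} (hn : A ≤ nor Y) : A ≤ Y ∨ A ⊓ Y = ⊥ := by
  have := hF.simple
  have hN : (Y.comap l).Normal := ⟨fun a ha c => by
    rw [mem_comap, map_mul, map_mul, map_inv]
    exact conj_mem_of_mem_normalizer (hn (mem_A b c)) ha⟩
  rcases hN.eq_bot_or_eq_top with e | e
  · refine Or.inr (eq_bot_iff.2 fun x hx => ?_)
    obtain ⟨a, rfl⟩ := of_mem b hx.1
    have : a ∈ Y.comap l := hx.2
    rw [e, mem_bot] at this
    rw [this, map_one]; exact one_mem _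
  · refine Or.inl fun x hx => ?_
    obtain ⟨a, rfl⟩ := of_mem b hx
    exact (e ▸ mem_top a : a ∈ Y.comap l)

theorem AK : A ⊓ cen A = ⊥ :=
  (normal_A b hF (le_normalizer.trans (nK b).le)).resolve_left fun e =>
    quasi_sub_commutator_ne_bot b.std.1 (commutator_eq_bot_iff_le_centralizer.2 e)

theorem dec (hs : s ∈ cen A ⊔ A) (ss : s * s = 1) :
    ∃ k ∈ cen A, ∃ x ∈ A, s = k * x ∧ k * k = 1 := by
  obtain ⟨k, hk, x, hx, rfl⟩ := (mem_sup_right_norm (le_normalizer.trans (nK b).le)).1 hs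
  refine ⟨k, hk, x, hx, rfl, ?_⟩
  have h1 : k * k * (x * x) = 1 := by
    calc _ = k * (k * x) * x := by group
      _ = _ := by rw [← mem_cen.1 hk x hx, ← ss]; group
  have : k * k ∈ A ⊓ cen A := ⟨by
    rw [eq_inv_of_mul_eq_one_left h1]; exact A.inv_mem (A.mul_mem hx hx), mul_mem hk hk⟩
  rwa [AK b hF, mem_bot] at this

theorem cfg (hg : g ∉ nor A) (hs : s ∈ cj g (cen A) ⊓ nor A) (os : orderOf s = 2) :
    Cfg ((nor (cj g (cen A))).comap l) ((cj g (cen A)).comap l) (im l (cj g (cen A) ⊓ nor A)) := by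
  refine ⟨fun e => ?_, fun y hy => le_normalizer hy, fun y hy =>
    ⟨_, ⟨hy, le_normalizer (mem_A b y)⟩, act_conj y⟩, ?_, ?_⟩
  · have hn : A ≤ nor (cj g (cen A)) := fun x hx => by
      obtain ⟨a, rfl⟩ := of_mem b hx
      exact (e ▸ mem_top a : a ∈ (nor (cj g (cen A))).comap l)
    rcases normal_A b hF hn with h | h
    · rw [cj_centralizer] at h
      exact b.std.2.2.1 g (fun e => hg (cj_eq_self_iff.1 e))
        (commutator_eq_bot_iff_le_centralizer.2 h)
    · refine ne_one_of_two os (no_inv b hg (mem_cen.2 fun x hx => ?_) hs.1 (mul_self_of_two os))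
      have : x * s * x⁻¹ * s⁻¹ ∈ A ⊓ cj g (cen A) := ⟨by
        rw [show x * s * x⁻¹ * s⁻¹ = x * (s * x⁻¹ * s⁻¹) by group]
        exact A.mul_mem hx (conj_mem_of_mem_normalizer hs.2 (A.inv_mem hx)),
        Subgroup.mul_mem _ (conj_mem_of_mem_normalizer (hn hx) hs.1) (Subgroup.inv_mem _ hs.1)⟩
      rwa [h, mem_bot, mul_inv_eq_one, mul_inv_eq_iff_eq_mul] at this
  · rintro a ha _ ⟨k, hk, h⟩
    rw [mem_comap, map_mul, map_inv, h,
      show l a * (k * l a * k⁻¹)⁻¹ = l a * k * (l a)⁻¹ * k⁻¹ by group]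
    exact mul_mem (conj_mem_of_mem_normalizer ha hk.1) (inv_mem hk.1)
  · rintro σ ⟨k, hk, h⟩ oσ a ha
    have σσ := mul_self_of_two oσ
    have k2 : k * k ∈ cen A := by simpa using cen_of b (h.mul h) (m := 1) (by rw [σσ]; exact Act.one)
    have ho : Odd (orderOf (k * k)) :=
      odd_of_mem (b.std.2.1.2 g (fun e => hg ((nK b).ge e))) ⟨k2, mul_mem hk.1 hk.1⟩
    have h' := h.pow (orderOf (k * k))
    have e : σ ^ orderOf (k * k) = σ := by
      obtain ⟨j, hj⟩ := ho
      rw [hj, pow_succ, pow_mul, pow_two, σσ, one_pow, one_mul]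
    rw [e] at h'
    have o : orderOf (k ^ orderOf (k * k)) = 2 := orderOf_two_of_mul_self
      (by rw [← (Commute.refl k).mul_pow, pow_orderOf_eq_one]) fun e =>
        ne_one_of_two oσ (uniq b (e ▸ h') Act.one)
    refine te_centralizer_le (te_cj b.std.2.1 g) o (pow_mem hk.1 _) (mc1.2 ?_)
    have := h' a
    rwa [ha, eq_mul_inv_iff_mul_eq] at this

section Pair
variable {T R T0 : Subgroup G} (hg : g ∉ nor A) (hT : IsSyl 2 T (cj g (cen A) ⊓ nor A))
  (h : TS (cen A) (cj g (cen A)) T R T0)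
include hg hT h

omit hF in
theorem cen_R (hs : s ∈ T) (os : orderOf s = 2) {r : G} (hr : r ∈ R) (e : r * s = s * r) :
    r ∈ T0 := by
  have h0 := h.syl0 b.std.2.1 (nK b ▸ hg) (nK b ▸ hT)
  have : R ⊓ cen1 s = T0 := h0.eq_of_le (h.syl.isPGroup.to_le inf_le_left)
    (le_inf h.le fun t ht => mc1.2 (h.c s hs t ht).symm)
    (inf_le_inf h.syl.le (te_centralizer_le (te_cj b.std.2.1 g) os (hT.le hs).1))
  exact this ▸ ⟨hr, mc1.2 e⟩

theorem card_T (hs : s ∈ T) (os : orderOf s = 2) : Nat.card T = 2 := by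
  have h1 := hF.f1 (cfg b hF hg (hT.le hs) os) (im_syl b hT inf_le_right)
  rw [card_im b (hT.le.trans inf_le_right) h.dis] at h1
  have := card_le_of_le (zpowers_le.2 hs)
  rw [Nat.card_zpowers, os] at this
  omega

/-- an inner involution forces `T₀` to be a Sylow subgroup of `K` -/
theorem R_le (hs : s ∈ T) (os : orderOf s = 2) (hi : s ∈ cen A ⊔ A) : R ≤ T0 := by
  have c0 : Nat.card T0 = 2 := h.card.trans (card_T b hF hg hT h hs os)
  have cA : ∀ r ∈ R, ∀ x ∈ A, r * x = x * r := fun r hr x hx =>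
    (mem_cen.1 (h.syl.le hr) x hx).symm
  obtain ⟨k, hk, x, hx, e, kk⟩ := dec b hF hi (mul_self_of_two os)
  have kR : k ∈ R := by
    refine zpowers_le.1 (h.syl.le_of_le_normalizer' (el_zpowers kk).two (zpowers_le.2 hk)
      (zpowers_le.2 ?_))
    rw [eq_mul_inv_of_mul_eq e.symm]
    exact mul_mem (h.nR hs) (inv_mem (centralizer_le_normalizer _
      (mem_cen.2 fun w hw => cA w hw x hx)))
  have cm : ∀ r ∈ R, r * k = k * r → r ∈ T0 := fun r hr c => cen_R b hg hT h hs os hr (by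
    rw [e, ← mul_assoc, c, mul_assoc, cA r hr x hx, mul_assoc])
  by_cases k1 : k = 1
  · exact fun r hr => cm r hr (by rw [k1, mul_one, one_mul])
  obtain ⟨z, hz, oz, hc⟩ := exists_central_involution h.syl.isPGroup
    (fun e => k1 (mem_bot.1 (e ▸ kR)))
  have e0 : zpowers z = T0 := eq_of_le_of_card_ge (zpowers_le.2 (cm z hz (mem_cen.1 hc k kR).symm))
    (by rw [c0, Nat.card_zpowers, oz])
  have : k = z := ((mem_zpowers_two oz).1 (e0 ▸ cm k kR rfl)).resolve_left k1
  exact fun r hr => cm r hr (this ▸ mem_cen.1 hc r hr)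

end Pair

omit hF in
theorem exists_even [IsSimpleGroup G] (hG : ¬ IsMulCommutative G) :
    ∃ g ∉ nor A, Even (Nat.card ↥(cj g (cen A) ⊓ nor A)) := by
  by_contra h
  push Not at h
  rw [nK b] at h
  have K1 : cen A ≠ ⊥ := fun e => by
    have := b.std.2.1.1
    rw [show centralizer (A : Set G) = ⊥ from e, card_bot] at this
    exact absurd this (by decide)
  rcases Cfsg.Agent.S1911.result _ b.std.2.1 (fun g hg => Nat.not_even_iff_odd.1 (h g hg))
    with k | k
  · exact quasi_sub_commutator_ne_bot b.std.1 (commutator_eq_bot_iff_le_centralizer.2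
      (le_top.trans (k.eq_bot_or_eq_top.resolve_left K1).ge))
  have e : normalClosure (cen A : Set G) = ⊤ :=
    normalClosure_normal.eq_bot_or_eq_top.resolve_left fun e => K1 (le_bot_iff.1 (e ▸ le_normalClosure))
  have : IsSimpleGroup (normalClosure (cen A : Set G)) :=
    ((MulEquiv.subgroupCongr e).trans topEquiv).isSimpleGroup
  have hs : Group.IsSolvable _ := H99.se_isSolvable H82.hub k (H99.se_twoRank_of_simple k)
  refine quasi_not_le_solvable b.std.1 (H := ((nor (cen A)).subgroupOf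
    (normalClosure (cen A : Set G))).map (normalClosure (cen A : Set G)).subtype)
    (Group.isSolvable_of_surjective (MonoidHom.subgroupMap_surjective _ _)) fun x hx =>
      ⟨⟨x, e ▸ mem_top x⟩, (nK b).le (le_normalizer hx), rfl⟩

theorem card_le [IsSimpleGroup G] (hG : ¬ IsMulCommutative G) {R₀ : Subgroup G}
    (hR : IsSyl 2 R₀ (cen A)) : Nat.card R₀ ≤ 2 := by
  by_contra rk
  have big : ∀ {g : G} {T R T0 : Subgroup G}, g ∉ nor A → IsSyl 2 T (cj g (cen A) ⊓ nor A) →
      TS (cen A) (cj g (cen A)) T R T0 → ∀ s ∈ T, orderOf s = 2 → ¬ R ≤ T0 :=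
    fun hg hT h s hs os e => rk ((h.syl.card_le hR.isPGroup hR.le).trans ((card_le_of_le e).trans
      (h.card.trans (card_T b hF hg hT h hs os)).le))
  have hc : ∀ g ∉ nor A, ∀ s ∈ cj g (cen A), orderOf s = 2 → s ∉ cen A ⊔ A := fun g hg s hs os hi => by
    obtain ⟨T, hT, h⟩ := exists_isSyl_le (el_zpowers (mul_self_of_two os)).two
      (zpowers_le.2 (mem_inf.2 ⟨hs, sup_le (centralizer_le_normalizer _) le_normalizer hi⟩))
    have sT := h (mem_zpowers s)
    obtain ⟨R, T0, h⟩ := exists_ts0 b.std.2.1 (nK b ▸ hg) (nK b ▸ hT)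
      fun e => ne_one_of_two os (mem_bot.1 (e ▸ sT))
    exact big hg hT h s sT os (R_le b hF hg hT h sT os hi)
  obtain ⟨g, hg, he⟩ := exists_even b hG
  obtain ⟨T, hT⟩ := exists_isSyl 2 (cj g (cen A) ⊓ nor A)
  have h1 : T ≠ ⊥ := fun e => hT.eq_bot_iff.1 e (even_iff_two_dvd.1 he)
  obtain ⟨s, hs, os⟩ := H88.exists_involution_of_isPGroup hT.isPGroup h1
  have sK := (hT.le hs).1
  have sN := (hT.le hs).2
  obtain ⟨R, T0, h⟩ := exists_ts0 b.std.2.1 (nK b ▸ hg) (nK b ▸ hT) h1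
  have c2 : Nat.card T = 2 := card_T b hF hg hT h hs os
  have ss := mul_self_of_two os
  -- a second involution of `K' ⊓ N` commuting with `s` does not exist
  have uq : ∀ w ∈ cj g (cen A), w ∈ nor A → orderOf w = 2 → s * w = w * s → w = s :=
    fun w h1 h2 ow c => by
      by_contra e
      obtain ⟨e1, e2⟩ := ea_four os ow c (Ne.symm e)
      have := hT.card_le (El.two fun a ha => by rw [← pow_two]; exact e1.2 a ha)
        (closure_pair_le (hT.le hs) ⟨h1, h2⟩)
      omega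
  have c0 : Nat.card T0 = 2 := h.card.trans c2
  obtain ⟨t, ht, ot⟩ := H88.exists_involution_of_isPGroup h.two (fun e => by
    rw [e, card_bot] at c0; omega)
  have e0 : zpowers t = T0 := eq_of_le_of_card_ge (zpowers_le.2 ht)
    (by rw [c0, Nat.card_zpowers, ot])
  have tK : t ∈ cen A := (h.sub ht).1
  have hne : ¬ R ≤ T0 := big hg hT h s hs os
  have T0n : T ≤ nor T0 := fun a ha => centralizer_le_normalizer _
    (mem_cen.2 fun c hc => (h.c a ha c hc).symm)
  have inK : ∀ e ∈ T0 ⊔ T, e ∈ cen A → e ∈ T0 := fun e he hk => by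
    obtain ⟨a, ha, c, hc, rfl⟩ := (mem_sup_right_norm T0n).1 he
    have : c ∈ T ⊓ cen A := ⟨hc, by
      simpa using Subgroup.mul_mem _ (Subgroup.inv_mem _ (h.sub ha).1) hk⟩
    rw [h.dis, mem_bot] at this
    rwa [this, mul_one]
  obtain ⟨r, hr, er⟩ : ∃ r ∈ R, r * s * r⁻¹ = t * s := by
    have lt := lt_inf_normalizer (h.syl.isPGroup.to_sup_of_normal_left' hT.isPGroup h.nR)
      (show T0 ⊔ T < R ⊔ T from lt_of_le_of_ne (sup_le_sup_right h.le _) fun e =>
        hne fun r hr => inK r (e ▸ mem_sup_left hr) (h.syl.le hr))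
    obtain ⟨w, hw, hw'⟩ := SetLike.exists_of_lt lt
    obtain ⟨r, hr, c, hc, rfl⟩ := (mem_sup_right_norm h.nR).1 hw.1
    have rn : r ∈ nor (T0 ⊔ T) := by
      simpa using Subgroup.mul_mem _ hw.2
        (Subgroup.inv_mem _ (le_normalizer (mem_sup_right hc : c ∈ T0 ⊔ T)))
    have := inK _ (mul_mem (conj_mem_of_mem_normalizer rn (mem_sup_right hs))
      (inv_mem (mem_sup_right hs))) (by
        rw [show r * s * r⁻¹ * s⁻¹ = r * (s * r⁻¹ * s⁻¹) by group]
        exact h.syl.le (mul_mem hr (conj_mem_of_mem_normalizer (h.nR hs) (inv_mem hr))))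
    rcases (mem_zpowers_two ot).1 (e0 ▸ this) with e | e
    · rw [mul_inv_eq_one, mul_inv_eq_iff_eq_mul] at e
      exact absurd (mul_mem (mem_sup_left (cen_R b hg hT h hs os hr e)) (mem_sup_right hc)) hw'
    · exact ⟨r, hr, by rw [← e]; group⟩
  obtain ⟨σ, hσ⟩ := act_ex b sN
  obtain ⟨a, ha⟩ := hF.f2 σ (uniq b (ss ▸ hσ.mul hσ) Act.one)
    fun k => hc g hg s sK os ((inn_iff b hσ).1 k)
  obtain ⟨v, hv⟩ : ∃ v, v = l (a * (σ a)⁻¹) := ⟨_, rfl⟩
  have vA : v ∈ A := hv ▸ mem_A b _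
  have ov : orderOf v = 2 := by rw [hv, orderOf_injective l b.inj, ha]
  have eu : l a * s * (l a)⁻¹ = v * s := by rw [hv, map_mul, map_inv, hσ]; group
  have ou : orderOf (v * s) = 2 := by rw [← eu, orderOf_conj', os]
  have vs : s * v = v * s := by
    rw [← inv_eq_of_two ou, mul_inv_rev, inv_eq_of_two os, inv_eq_of_two ov]
  have tv : v * t = t * v := mem_cen.1 tK v vA
  have st : s * t = t * s := h.c s hs t ht
  have eu' : r * l a * s * (r * l a)⁻¹ = t * v * s := by
    calc _ = r * (l a * s * (l a)⁻¹) * r⁻¹ := by group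
      _ = r * v * r⁻¹ * (r * s * r⁻¹) := by rw [eu]; group
      _ = _ := by rw [er, ← mem_cen.1 (h.syl.le hr) v vA, mul_inv_cancel_right, ← mul_assoc, tv]
  -- the same inside `A' = A^g`
  have b' := base_cj b g
  have eK : cen (cj g A) = cj g (cen A) := (cj_centralizer g A).symm
  have nN : ∀ w : G, s * w = w * s → w ∈ nor (cj g A) := fun w e => by
    rw [nK b', eK]; exact te_centralizer_le (te_cj b.std.2.1 g) os sK (mc1.2 e.symm)
  have out : ∀ (c w : G) (ρ : MulAut X), w ∈ cj c (cen A) → w ∉ cj g (cen A) →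
      orderOf w = 2 → Act ((MulAut.conj g).toMonoidHom.comp l) w ρ → ¬ Inr ρ :=
    fun c w ρ h1 h2 ow k hi => by
      have := (inn_iff b' k).1 hi
      rw [eK, ← cj_sup, mem_cj] at this
      refine hc (g⁻¹ * c) (fun e => h2 ?_) _ (by
        rw [← cj_cj, ← inv_inv g, inv_inv g⁻¹]; exact conj_mem_cj h1)
        (by rw [← ow, ← orderOf_conj' g⁻¹ w, inv_inv]) this
      rw [nK b] at e
      rwa [← cj_eq_self e, cj_cj, mul_inv_cancel_left]
  have outs : ∀ c ∈ nor A, ∀ y : G, y ≠ 1 → s * y = y * s → c * s * c⁻¹ = y * s →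
      ∀ ρ, Act ((MulAut.conj g).toMonoidHom.comp l) (y * s) ρ → ¬ Inr ρ :=
    fun c hcN y y1 ys e ρ k => by
      have o : orderOf (y * s) = 2 := by rw [← e, orderOf_conj', os]
      refine out (c * g) _ ρ (by rw [← cj_cj, ← e]; exact conj_mem_cj sK) (fun hm => y1 ?_) o k
      simpa using uq _ hm (e ▸ mul_mem (mul_mem hcN sN) (inv_mem hcN)) o
        (by rw [← mul_assoc, ys])
  obtain ⟨ρ, hρ⟩ := act_ex b' (nN t st)
  obtain ⟨π, hπ⟩ := act_ex b' (nN (v * s) (by rw [← mul_assoc, vs]))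
  have aN : l a ∈ nor A := le_normalizer (mem_A b a)
  rcases hF.f3 ρ π with k | k | k
  · exact out 1 t ρ (by rwa [cj_one])
      (fun e => ne_one_of_two ot (no_inv b hg tK e (mul_self_of_two ot))) ot hρ k
  · exact outs _ aN v (ne_one_of_two ov) vs eu π hπ k
  · refine outs _ (mul_mem (centralizer_le_normalizer _ (h.syl.le hr)) aN) (t * v) (fun e => ?_)
      (by rw [← mul_assoc, st, mul_assoc, vs, mul_assoc]) eu' _ (mul_assoc t v s ▸ hρ.mul hπ) k
    have : t ∈ A ⊓ cen A := ⟨by rw [eq_inv_of_mul_eq_one_left e]; exact A.inv_mem vA, tK⟩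
    rw [AK b hF, mem_bot] at this
    exact ne_one_of_two ot this

end Base

theorem cyc_of (hF : AF X) [IsSimpleGroup G] (hG : ¬ IsMulCommutative G) (L : Subgroup G)
    (hL : IsStandardSubgroup L) (e : L ≃* X) (R : Sylow 2 ↥(centralizer (L : Set G))) :
    IsCyclic ↥(R : Subgroup ↥(centralizer (L : Set G))) := by
  have b : Base L (L.subtype.comp e.symm.toMonoidHom) :=
    ⟨hL, L.subtype_injective.comp e.symm.injective, by
      rw [MonoidHom.range_comp, MonoidHom.range_eq_top.2 e.symm.surjective,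
        ← MonoidHom.range_eq_map, range_subtype]⟩
  have h1 := card_le b hF hG (isSyl_map_subtype R)
  rw [card_map_of_injective (subtype_injective _)] at h1
  have h2 : 0 < Nat.card (R : Subgroup ↥(centralizer (L : Set G))) := Nat.card_pos
  rcases (by omega : Nat.card (R : Subgroup ↥(centralizer (L : Set G))) = 1 ∨
    Nat.card (R : Subgroup ↥(centralizer (L : Set G))) = 2) with h | h
  · have := (Nat.card_eq_one_iff_unique.1 h).1
    infer_instance
  · exact isCyclic_of_prime_card h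

end H41.F4AS
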