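/- Tower FE (S1308), job Nc. -/
import Cfsg.Agent.H14.FESpec

set_option autoImplicit false

namespace H41.FeNc

open Cfsg Subgroup MulAction H14 H98 H1.Gold H31.S2 H14.GC H14.FE
open scoped commutatorElement

universe u

variable {G : Type u} [Group G]

theorem eq_one_of_two_odd {x : G} {k : ℕ} (h : x ^ 2 ^ k = 1) (ho : Odd (orderOf x)) : x = 1 :=
  orderOf_eq_one_iff.1 (Nat.Coprime.eq_one_of_dvd
    (Nat.Coprime.pow_right k (Nat.coprime_two_right.2 ho)) (orderOf_dvd_of_pow_eq_one h))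

/-- an element that centralises the involutions of an abelian 2-group, and whose odd power
centralises the group, centralises it -/
theorem cen_of_odd {R : Subgroup G} (hA : Ab R) {n : G} (hn : ∀ x ∈ R, n * x * n⁻¹ ∈ R)
    (hi : ∀ x ∈ R, x * x = 1 → n * x * n⁻¹ = x) {m : ℕ} (hm : Odd m)
    (hc : ∀ x ∈ R, n ^ m * x * (n ^ m)⁻¹ = x) (k : ℕ) :
    ∀ x ∈ R, x ^ 2 ^ k = 1 → n * x * n⁻¹ = x := by
  induction k with
  | zero => intro x _ h; simp only [pow_zero, pow_one] at h; simp [h]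
  | succ k ih =>
    intro x hx h
    have h2 := ih (x * x) (R.mul_mem hx hx) (by rw [← pow_two, ← pow_mul, ← pow_succ', h])
    obtain ⟨v, hv⟩ : ∃ v, v = n * x * n⁻¹ * x⁻¹ := ⟨_, rfl⟩
    have vR : v ∈ R := hv ▸ R.mul_mem (hn x hx) (R.inv_mem hx)
    have e0 : n * x * n⁻¹ = v * x := by rw [hv]; group
    have vv : v * v = 1 := by
      have c := hA _ vR _ hx
      have e1 : v * x * (v * x) = x * x := by rw [← e0, ← h2]; group
      have e2 : v * v * (x * x) = x * x := by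
        calc v * v * (x * x) = v * (v * x) * x := by group
          _ = v * (x * v) * x := by rw [c]
          _ = v * x * (v * x) := by group
          _ = x * x := e1
      simpa using e2
    have nv := hi v vR vv
    have key : ∀ j : ℕ, n ^ j * x * (n ^ j)⁻¹ = v ^ j * x := by
      intro j
      induction j with
      | zero => simp
      | succ j ihj =>
        calc n ^ (j + 1) * x * (n ^ (j + 1))⁻¹ = n * (n ^ j * x * (n ^ j)⁻¹) * n⁻¹ := by
              rw [pow_succ']; group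
          _ = (n * v * n⁻¹) ^ j * (n * x * n⁻¹) := by rw [ihj, conj_pow]; group
          _ = v ^ (j + 1) * x := by rw [nv, e0, pow_succ, mul_assoc]
    have e3 := key m
    rw [hc x hx] at e3
    obtain ⟨j, rfl⟩ := hm
    have e4 : v ^ (2 * j + 1) = v := by rw [pow_succ, pow_mul, pow_two, vv, one_pow, one_mul]
    rw [e4] at e3
    rw [e0, ← e3]

theorem cen_inv [Finite G] {Q R T : Subgroup G} {g z n r : G} (E : Ed Q g R T) (cb : CaseB Q R T)
    (hz : z ∈ R) (iz : Inv z) (nQ : n ∈ Q) (nz : n * z = z * n) (nR : ∀ x ∈ R, n * x * n⁻¹ ∈ R)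
    (hr : r ∈ R) (ir : Inv r) : n * r * n⁻¹ = r := by
  have QN : nor Q ≤ nor (opp 2 Q) := normalizer_le_normalizer_opp Q
  have cO : ∀ a ∈ nor Q, ∀ o ∈ opp 2 Q, a * o * a⁻¹ ∈ opp 2 Q := fun a ha o ho =>
    (mem_normalizer_iff.1 (QN ha) o).1 ho
  have RQ := E.sylR.le
  obtain ⟨s, hs, is, zs⟩ := cb z hz iz
  obtain ⟨t, ht, it, rt⟩ := cb r hr ir
  obtain ⟨c, hc⟩ : ∃ c, c = s * n * s⁻¹ * n⁻¹ := ⟨_, rfl⟩
  have cOpp : c ∈ opp 2 Q := by
    have h1 := cO z⁻¹ (le_normalizer (Q.inv_mem (RQ hz))) _ (zs n nQ)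
    convert h1 using 1
    rw [commutatorElement_def, hc]
    calc s * n * s⁻¹ * n⁻¹ = s * n * s⁻¹ * (z * n)⁻¹ * z := by group
      _ = s * n * s⁻¹ * (n * z)⁻¹ * z := by rw [nz]
      _ = _ := by group
  have oddO : Odd (Nat.card (opp 2 Q)) := odd_opp Q
  obtain ⟨k, hk⟩ : Odd (orderOf c) := oddO.of_dvd_nat (orderOf_dvd_natCard _ cOpp)
  have sc : s * c * s⁻¹ = c⁻¹ := by
    rw [hc]
    calc s * (s * n * s⁻¹ * n⁻¹) * s⁻¹ = (s * s) * n * s⁻¹ * n⁻¹ * s⁻¹ := by group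
      _ = n * s * n⁻¹ * s⁻¹ := by rw [is.2, one_mul, is.inv_eq]
      _ = _ := by group
  obtain ⟨h, hh⟩ : ∃ h, h = c ^ (k + 1) * n := ⟨_, rfl⟩
  have hQ : h ∈ Q := hh ▸ Q.mul_mem (Q.pow_mem (opp_le _ cOpp) _) nQ
  have sh : s * h * s⁻¹ = h := by
    have e1 : c ^ (2 * k + 1) = 1 := by rw [← hk, pow_orderOf_eq_one]
    have e2 : s * n * s⁻¹ = c * n := by rw [hc]; group
    calc s * h * s⁻¹ = (s * c * s⁻¹) ^ (k + 1) * (s * n * s⁻¹) := by rw [hh, conj_pow]; group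
      _ = (c ^ (2 * k + 1))⁻¹ * (c ^ (k + 1) * n) := by rw [sc, e2]; group
      _ = h := by rw [e1, inv_one, one_mul, hh]
  have h' : g⁻¹ * h * g ∈ nor Q := by
    by_contra hn
    have o := E.te.2 _ hn
    have s1 : g⁻¹ * s * g ∈ Q := mem_cj.1 (E.sylT.le hs)
    have m : g⁻¹ * s * g ∈ Q ⊓ cj (g⁻¹ * h * g) Q := by
      refine ⟨s1, mem_cj.2 ?_⟩
      convert s1 using 1
      calc (g⁻¹ * h * g)⁻¹ * (g⁻¹ * s * g) * (g⁻¹ * h * g) =
            g⁻¹ * h⁻¹ * (s * h * s⁻¹) * s * g := by group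
        _ = _ := by rw [sh]; group
    have i2 : Inv (g⁻¹ * s * g⁻¹⁻¹) := is.conj g⁻¹
    rw [inv_inv] at i2
    have := o.of_dvd_nat (orderOf_dvd_natCard _ m)
    rw [inv_iff.1 i2] at this
    exact absurd this (by decide)
  obtain ⟨y, hy⟩ : ∃ y, y = t * h * t⁻¹ * h⁻¹ := ⟨_, rfl⟩
  have tQ := E.sylT.le ht
  have ym : y ∈ Q ⊓ cj g Q := by
    rw [hy]
    refine ⟨Q.mul_mem ((mem_normalizer_iff.1 (E.le ht) h).1 hQ) (Q.inv_mem hQ), ?_⟩
    have : h * t⁻¹ * h⁻¹ ∈ cj g Q := by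
      refine mem_cj.2 ?_
      have := (mem_normalizer_iff.1 h' _).1 (mem_cj.1 ((cj g Q).inv_mem tQ))
      convert this using 1
      group
    have := (cj g Q).mul_mem tQ this
    simpa [mul_assoc] using this
  have yo : Odd (Nat.card (zpowers y)) := by
    rw [Nat.card_zpowers]
    exact (E.te.2 g E.out).of_dvd_nat (orderOf_dvd_natCard _ ym)
  have oS : Odd (Nat.card (zpowers y ⊔ opp 2 Q : Subgroup G)) :=
    odd_sup ((zpowers_le.2 ym.1).trans (le_normalizer.trans QN)) yo oddO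
  have xm : r * n * r⁻¹ * n⁻¹ ∈ zpowers y ⊔ opp 2 Q := by
    have o2 : (c ^ (k + 1))⁻¹ ∈ opp 2 Q := inv_mem (pow_mem cOpp _)
    have a1 := cO r (le_normalizer (RQ hr)) _ o2
    have a2 := cO t (E.le ht) _ (rt h hQ)
    have e1 : t * (r * t) = r := by
      rw [E.comm r hr t ht, ← mul_assoc, it.2, one_mul]
    have e2 : r * n * r⁻¹ * n⁻¹ = (r * (c ^ (k + 1))⁻¹ * r⁻¹) * (t * ⁅r * t, h⁆ * t⁻¹) * y *
        (c ^ (k + 1))⁻¹⁻¹ := by
      have en : n = (c ^ (k + 1))⁻¹ * h := by rw [hh]; group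
      rw [commutatorElement_def, hy, en]
      calc r * ((c ^ (k + 1))⁻¹ * h) * r⁻¹ * ((c ^ (k + 1))⁻¹ * h)⁻¹ =
            (r * (c ^ (k + 1))⁻¹ * r⁻¹) * (r * h * r⁻¹) * h⁻¹ * (c ^ (k + 1))⁻¹⁻¹ := by group
        _ = (r * (c ^ (k + 1))⁻¹ * r⁻¹) * ((t * (r * t)) * h * (t * (r * t))⁻¹) * h⁻¹ *
            (c ^ (k + 1))⁻¹⁻¹ := by rw [e1]
        _ = _ := by group
    rw [e2]
    exact mul_mem (mul_mem (mul_mem (mem_sup_right a1) (mem_sup_right a2))
      (mem_sup_left (mem_zpowers y))) (mem_sup_right (inv_mem o2))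
  have xR : r * n * r⁻¹ * n⁻¹ ∈ R := by
    have := R.mul_mem hr (nR _ (R.inv_mem hr))
    simpa [mul_assoc] using this
  obtain ⟨j, hj⟩ := E.sylR.isPGroup ⟨_, xR⟩
  have e : r * n * r⁻¹ * n⁻¹ = 1 := eq_one_of_two_odd (congrArg Subtype.val hj)
    (oS.of_dvd_nat (orderOf_dvd_natCard _ xm))
  calc n * r * n⁻¹ = (r * n * r⁻¹ * n⁻¹)⁻¹ * r := by group
    _ = r := by rw [e, inv_one, one_mul]

theorem jobNc : JobNc.{u} := by
  intro G _ _ Q g R T E hA cb z hz iz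
  have RC : R ≤ cen1 z ⊓ Q := fun x hx =>
    ⟨mem_centralizer_singleton_iff.2 (hA x hx z hz), E.sylR.le hx⟩
  have sy : IsSyl 2 R (cen1 z ⊓ Q) := E.sylR.of_le RC inf_le_right
  obtain ⟨P, hP⟩ := sy.exists_sylow
  have : Fact (Nat.Prime 2) := ⟨Nat.prime_two⟩
  have hN : normalizer ((P : Subgroup ↥(cen1 z ⊓ Q)) : Set ↥(cen1 z ⊓ Q)) ≤
      centralizer ((P : Subgroup ↥(cen1 z ⊓ Q)) : Set ↥(cen1 z ⊓ Q)) := by
    intro n hn x hx
    rw [hP] at hn hx
    have nR : ∀ y ∈ R, n.1 * y * n.1⁻¹ ∈ R := fun y hy =>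
      (mem_normalizer_iff.1 hn ⟨y, RC hy⟩).1 hy
    have nN : n.1 ∈ nor R := mem_normalizer_fintype nR
    have o0 : orderOf n.1 ≠ 0 := (orderOf_pos _).ne'
    obtain ⟨a, m, hm, e⟩ := Nat.exists_eq_two_pow_mul_odd o0
    have pm : n.1 ^ m ∈ R := by
      refine sy.le_of_le_normalizer' (Q := zpowers (n.1 ^ m)) (isPGroup_zpowers (k := a) ?_)
        (zpowers_le.2 (pow_mem n.2 _)) (zpowers_le.2 (pow_mem nN _)) (mem_zpowers _)
      rw [← pow_mul, mul_comm, ← e, pow_orderOf_eq_one]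
    obtain ⟨j, hj⟩ := E.sylR.isPGroup ⟨x.1, hx⟩
    have := cen_of_odd hA nR (fun y hy yy => by
      by_cases y1 : y = 1
      · simp [y1]
      · exact cen_inv E cb hz iz n.2.2 (mem_centralizer_singleton_iff.1 n.2.1) nR hy ⟨y1, yy⟩) hm
      (fun y hy => by rw [hA _ pm y hy, mul_inv_cancel_right]) j x.1 hx (congrArg Subtype.val hj)
    apply Subtype.ext
    change x.1 * n.1 = n.1 * x.1
    rw [← mul_inv_eq_iff_eq_mul.1 this]
  have hc := MonoidHom.ker_transferSylow_isComplement' P hN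
  refine ⟨(MonoidHom.transferSylow P hN).ker.map (cen1 z ⊓ Q).subtype, map_subtype_le _, ?_, ?_, ?_⟩
  · intro x hx
    refine mem_normalizer_fintype ?_
    rintro _ ⟨y, hy, rfl⟩
    exact ⟨_, (MonoidHom.normal_ker _).conj_mem y hy ⟨x, hx⟩, rfl⟩
  · rw [card_map_of_injective (subtype_injective _)]
    exact Nat.not_even_iff_odd.1 fun h =>
      MonoidHom.not_dvd_card_ker_transferSylow P hN (even_iff_two_dvd.1 h)
  · intro x hx
    obtain ⟨⟨a, b⟩, e⟩ := hc.2 ⟨x, hx⟩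
    have e' : (a.1 : G) * (b.1 : G) = x := congrArg Subtype.val e
    rw [← e']
    refine mul_mem (mem_sup_right ⟨_, a.2, rfl⟩) (mem_sup_left ?_)
    exact (hP.le b.2 : b.1 ∈ R.subgroupOf _)

end H41.FeNc
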