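/- S3275, chapter C4 part II: job G3. -/
import Cfsg.Agent.H73.GSSpec

set_option autoImplicit false

namespace H41.GsG3

open Subgroup Cfsg H98 H48.DP H57.DPC H48.DP2 H98.DP0C H73.GS
open scoped commutatorElement

universe u

section

variable {G X : Type u} [Group G] [Group X] {H : Subgroup G} {π : H →* X}

theorem mem_of_bar (pj : Pj H π) {S : Subgroup G} {g : G} (hg : g ∈ H)
    (h : π ⟨g, hg⟩ ∈ bar π S) : g ∈ S ⊔ O2 H := by
  obtain ⟨a, ha, e⟩ := h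
  have k : a⁻¹ * ⟨g, hg⟩ ∈ π.ker := by
    rw [MonoidHom.mem_ker, map_mul, map_inv, e, inv_mul_cancel]
  rw [pj.ker, mem_subgroupOf] at k
  have := mul_mem (mem_sup_left (T := O2 H) (mem_subgroupOf.1 ha)) (mem_sup_right (S := S) k)
  simpa using this

theorem bar_sup {A B : Subgroup G} (hA : A ≤ H) (hB : B ≤ H) :
    bar π (A ⊔ B) = bar π A ⊔ bar π B := by
  rw [bar, subgroupOf_sup hA hB, Subgroup.map_sup]

theorem bar_zp {g : G} (hg : g ∈ H) : bar π (zpowers g) = zpowers (π ⟨g, hg⟩) := by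
  have : (zpowers g).subgroupOf H = zpowers ⟨g, hg⟩ := by
    have e : zpowers g = (zpowers (⟨g, hg⟩ : H)).map H.subtype := by
      rw [MonoidHom.map_zpowers]; rfl
    rw [e]
    exact comap_map_eq_self_of_injective H.subtype_injective _
  rw [bar, this, MonoidHom.map_zpowers]

theorem bar_no {S : Subgroup G} {g : G} (hg : g ∈ H) (h : g ∈ No S) :
    π ⟨g, hg⟩ ∈ No (bar π S) :=
  le_normalizer_map π ⟨⟨g, hg⟩, mem_normalizer_iff.2 fun a => mem_normalizer_iff.1 h a, rfl⟩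

theorem bar_comm {Y : Subgroup G} {x : G} (hY : Y ≤ H) (hx : x ∈ H) {N : Subgroup X}
    (h : ⁅bar π Y, zpowers (π ⟨x, hx⟩)⁆ ≤ N) :
    ⁅Y, zpowers x⁆ ≤ (N.comap π).map H.subtype := by
  refine commutator_le.2 fun a ha b hb => ?_
  have hb' : b ∈ H := zpowers_le.2 hx hb
  refine ⟨⁅(⟨a, hY ha⟩ : H), (⟨b, hb'⟩ : H)⁆, ?_, ?_⟩
  · show π _ ∈ N
    rw [map_commutatorElement]
    refine h (commutator_mem_commutator ⟨_, ha, rfl⟩ ?_)
    rw [← bar_zp hx]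
    exact ⟨_, hb, rfl⟩
  · rw [map_commutatorElement]; rfl

end

theorem jobG3 : H73.GS.JobG3.{u} := by
  intro am tx s3 G _ _ M Q Y y x u s q h tq nM
  have IY : ⁅Y, zpowers x⁆ ≤ Y := le_normalizer_iff_commutator_le_left.1 (zpowers_le.2 tq.xY)
  rcases am G Y x s q tq with a | a | ⟨N, N1, NY, YH, xH, sH, qH⟩
  · exact .inl (cj_le_of_le IY a)
  · exact .inr a
  left
  haveI : Fact (Nat.Prime 2) := ⟨Nat.prime_two⟩
  have Ht : No N ≠ ⊤ := no_ne_top h.toHyp (tq.twoY.to_le NY) N1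
  generalize No N = H at Ht YH xH sH qH
  obtain ⟨K, hK, pj⟩ := exists_pj H
  generalize QuotientGroup.mk' K = π at pj
  have HO : H ≤ No (O2 H) := self_le_normalizer_pCoreOf H
  have W2 : IsPGroup 2 ↥(Y ⊔ O2 H) :=
    tq.twoY.to_sup_of_normal_right' (isPGroup_pCoreOf H) (YH.trans HO)
  have xW : x ∈ No (Y ⊔ O2 H) := by
    rw [← cj_eq_self_iff, cj, Subgroup.map_sup]
    exact congrArg₂ _ (cj_eq_self tq.xY) (cj_eq_self (HO xH))
  have sW : s ∉ Y ⊔ O2 H := inv_not_mem W2 xW tq.x3 tq.sx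
  suffices k : ∀ a ∈ ⁅Y, zpowers x⁆, q * a * q⁻¹ ∈ Y ⊔ O2 H by
    intro t ht
    have ha := mem_cj.1 ht
    have e : q * (q⁻¹ * t * q) * q⁻¹ = t := by group
    have t1 := k _ ha
    have t2 := (mem_normalizer_iff.1 tq.qT _).1 (mem_sup_left (IY ha))
    rw [e] at t1 t2
    refine (mem_two tq.sY tq.s2 t2).resolve_right fun c => sW ?_
    have := mul_mem (inv_mem (mem_sup_left (T := O2 H) c)) t1
    simpa using this
  by_cases IO : ⁅Y, zpowers x⁆ ≤ O2 H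
  · exact fun a ha => mem_sup_right ((mem_normalizer_iff.1 (HO qH) a).1 (IO ha))
  have bot : ¬ ⁅bar π Y, zpowers (π ⟨x, xH⟩)⁆ ≤ ⊥ := fun c => IO <| (bar_comm YH xH c).trans <| by
    rintro _ ⟨a, ha, rfl⟩
    have : a ∈ π.ker := ha
    rwa [pj.ker] at this
  obtain ⟨N', e1, e2⟩ : ∃ N', (O2 H ≤ M → N' = bar π M) ∧
      ¬ ⁅bar π Y, zpowers (π ⟨x, xH⟩)⁆ ≤ N' := by
    by_cases c : O2 H ≤ M
    · refine ⟨_, fun _ => rfl, fun d => nM ((bar_comm YH xH d).trans ?_)⟩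
      rintro _ ⟨a, ha, rfl⟩
      exact sup_le le_rfl c (mem_of_bar pj a.2 ha)
    · exact ⟨⊥, fun d => absurd d c, bot⟩
  have sx := tx G _ M Q H π y x u xH N' h Ht (fun c => nM (IY.trans (YH.trans c))) pj e1
  have sH' := zpowers_le.2 sH
  have b1 : bar π (Y ⊔ zpowers s) = bar π Y ⊔ zpowers (π ⟨s, sH⟩) := by
    rw [bar_sup YH sH', bar_zp]
  have tq' : Tq (bar π Y) (π ⟨x, xH⟩) (π ⟨s, sH⟩) (π ⟨q, qH⟩) := by
    refine ⟨sx.x3, bar_no xH tq.xY, bar_no sH tq.sY, ?_, ?_, ?_, ?_, ?_, fun c => bot ?_⟩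
    · rw [← map_inv, ← map_mul, ← map_mul, ← map_inv]
      exact congrArg π (Subtype.ext tq.sx)
    · rw [← map_mul]
      exact ⟨_, tq.s2, rfl⟩
    · rw [← b1, ← bar_zp qH, ← bar_sup (sup_le YH sH') (zpowers_le.2 qH)]
      exact (tq.two.comap_subtype).map π
    · rw [← b1]
      exact bar_no qH tq.qT
    · rw [← b1, ← map_mul]
      exact ⟨_, tq.q2, rfl⟩
    · refine (commutator_eq_bot_iff_le_centralizer.2 fun a ha => ?_).le
      rw [mem_centralizer_iff]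
      rintro _ ⟨n, rfl⟩
      exact (Commute.zpow_left (mem_centralizer_iff.1 (c ha) _ rfl) n).eq
  have qY := s3 _ N' _ _ _ _ sx tq' e2
  intro a ha
  have aH := YH (IY ha)
  refine mem_of_bar pj (mul_mem (mul_mem qH aH) (inv_mem qH)) ?_
  have := (mem_normalizer_iff.1 qY (π ⟨a, aH⟩)).1 ⟨_, IY ha, rfl⟩
  rwa [← map_inv, ← map_mul, ← map_mul] at this

end H41.GsG3
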