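import Cfsg.Agent.H41.ItSpec

/-! IT: the combinatorial top. -/

set_option autoImplicit false

namespace H41.IT
open Cfsg Subgroup

universe u

section
variable {G : Type*} [Group G]

theorem K2.symm {x y : G} (h : K2 x y) : K2 y x :=
  ⟨h.y1, h.x1, h.my, h.mx, fun g hg => (h.cov g hg).symm⟩

/-- `g` has maximal centraliser order -/
def Mx (g : G) : Prop := g ≠ 1 ∧ ∀ h : G, h ≠ 1 → c g ∣ c h → c h = c g

theorem cs_finite [Finite G] : (CS G).Finite :=
  (Set.finite_range fun g : G => c g).subset fun _ ⟨g, _, e⟩ => ⟨g, e.symm⟩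

theorem exists_mx [Finite G] {g : G} (hg : g ≠ 1) : ∃ h : G, Mx h ∧ c g ∣ c h := by
  obtain ⟨h, ⟨h1, h2⟩, h3⟩ := Set.Finite.exists_maximalFor (fun h : G => c h)
    {h : G | h ≠ 1 ∧ c g ∣ c h} (Set.toFinite _) ⟨g, hg, dvd_rfl⟩
  refine ⟨h, ⟨h1, fun k k1 hk => ?_⟩, h2⟩
  have := Nat.le_of_dvd Nat.card_pos hk
  exact le_antisymm (h3 ⟨k1, h2.trans hk⟩ this) this

theorem one_of (d : ℕ) (h : ∀ g : G, g ≠ 1 → Mx g ∨ c g = d) : One G d := fun t ht => by
  have t1 : t ≠ 1 := fun e => by rw [e, orderOf_one] at ht; omega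
  exact ⟨fun g g1 hg => (h g g1).imp_left fun m => (m.2 t t1 hg).symm,
    fun hd _ g g1 hg => ((h t t1).resolve_right hd).2 g g1 hg⟩

theorem card_eq_index [Finite G] {A B : Subgroup G} (h : A.index.Coprime B.index)
    (h0 : A ⊓ B = ⊥) : Nat.card B = A.index := by
  have h1 : A.index * B.index ∣ (A ⊓ B).index :=
    h.mul_dvd_of_dvd_of_dvd (index_dvd_of_le inf_le_left) (index_dvd_of_le inf_le_right)
  have h2 := index_inf_le (H := A) (K := B)
  have h3 := le_antisymm h2 (Nat.le_of_dvd (Nat.pos_of_ne_zero index_ne_zero_of_finite) h1)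
  rw [h0, index_bot, ← B.card_mul_index] at h3
  exact Nat.eq_of_mul_eq_mul_right (Nat.pos_of_ne_zero index_ne_zero_of_finite) h3

end

/-- In the two-headed case both sides have a proper value of their own. -/
theorem side (jSZ : JobSZ.{u}) (jM : JobM.{u}) (jAB : AB.{u}) {G : Type u} [Group G] [Finite G]
    [IsSimpleGroup G] (hG : ¬ IsMulCommutative G) {x y : G} (h : K2 x y) :
    ∃ g : G, g ≠ 1 ∧ c g ∣ c y ∧ c g ≠ c y ∧ ¬ c g ∣ c x := by
  by_contra! h1
  have s := jSZ G hG x y h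
  obtain ⟨h2, h3⟩ := jM G x y h s fun g g1 hg => (em _).imp_right (h1 g g1 hg)
  exact jAB G hG x _ h.x1 h2 h3 (card_eq_index s.cop h3)

/-- Either one non-maximal value, or three maximal values, or the two-headed case. -/
theorem heads (jSZ : JobSZ.{u}) {G : Type u} [Group G] [Finite G]
    [IsSimpleGroup G] (hG : ¬ IsMulCommutative G) :
    (∃ a b e : G, Mx a ∧ Mx b ∧ Mx e ∧ c a ≠ c b ∧ c a ≠ c e ∧ c b ≠ c e) ∨
    ∃ x y : G, K2 x y ∧ Odd (C x).index := by
  obtain ⟨g, g1⟩ := exists_ne (1 : G)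
  obtain ⟨a, ha, -⟩ := exists_mx g1
  have key : ∀ x y : G, K2 x y → ∃ x y : G, K2 x y ∧ Odd (C x).index := fun x y h => by
    rcases Nat.even_or_odd (C x).index with e | e
    · exact ⟨y, x, h.symm, Nat.coprime_two_left.1
        ((jSZ G hG x y h).cop.coprime_dvd_left e.two_dvd)⟩
    · exact ⟨x, y, h, e⟩
  by_cases h1 : ∃ b : G, Mx b ∧ c a ≠ c b
  · obtain ⟨b, hb, hab⟩ := h1
    by_cases h2 : ∃ e : G, Mx e ∧ c a ≠ c e ∧ c b ≠ c e
    · obtain ⟨e, he, h3, h4⟩ := h2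
      exact .inl ⟨a, b, e, ha, hb, he, hab, h3, h4⟩
    push Not at h2
    refine .inr (key a b ⟨ha.1, hb.1, ha.2, hb.2, fun k k1 => ?_⟩)
    obtain ⟨e, he, h3⟩ := exists_mx k1
    by_cases h4 : c a = c e
    · exact .inl (h4 ▸ h3)
    · exact .inr (h2 e he h4 ▸ h3)
  · push Not at h1
    refine .inr (key a a ⟨ha.1, ha.1, ha.2, ha.2, fun k k1 => ?_⟩)
    obtain ⟨e, he, h3⟩ := exists_mx k1
    exact .inl (h1 e he ▸ h3)

theorem mem_of_ncard {S : Set ℕ} (hS : S.Finite) {T : Finset ℕ} (hT : ∀ m ∈ T, m ∈ S)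
    (h : S.ncard ≤ T.card) {m : ℕ} (hm : m ∈ S) : m ∈ T := by
  have := Set.eq_of_subset_of_ncard_le (s := (T : Set ℕ)) hT (by rwa [Set.ncard_coe_finset]) hS
  rwa [← this] at hm

theorem rank_four (jON : ON.{u}) (jSZ : JobSZ.{u}) (jM : JobM.{u}) (jAB : AB.{u})
    (jP1 : JobP1.{u}) {G : Type u} [Group G] [Finite G] [IsSimpleGroup G]
    (hG : ¬ IsMulCommutative G) (h4 : (CS G).ncard = 4) : Lst G := by
  rcases heads jSZ hG with ⟨a, b, e, ha, hb, he, h1, h2, h3⟩ | ⟨x, y, h, ho⟩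
  · by_cases h5 : ∀ g : G, g ≠ 1 → Mx g
    · exact jON G hG 0 (one_of 0 fun g g1 => .inl (h5 g g1))
    push Not at h5
    obtain ⟨g, g1, hg⟩ := h5
    have n : ∀ k : G, Mx k → c g ≠ c k := fun k hk e => hg ⟨g1, e ▸ hk.2⟩
    refine jON G hG (c g) (one_of _ fun k k1 => ?_)
    have := mem_of_ncard cs_finite (T := {c g, c a, c b, c e}) (by
      simp only [Finset.mem_insert, Finset.mem_singleton]
      rintro m (rfl | rfl | rfl | rfl)
      exacts [⟨g, g1, rfl⟩, ⟨a, ha.1, rfl⟩, ⟨b, hb.1, rfl⟩, ⟨e, he.1, rfl⟩]) (by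
      rw [h4, Finset.card_insert_of_notMem (by simp [n a ha, n b hb, n e he]),
        Finset.card_eq_three.2 ⟨_, _, _, h1, h2, h3, rfl⟩]) (m := c k) ⟨k, k1, rfl⟩
    simp only [Finset.mem_insert, Finset.mem_singleton] at this
    rcases this with e | e | e | e
    exacts [.inr e, .inl ⟨k1, e ▸ ha.2⟩, .inl ⟨k1, e ▸ hb.2⟩, .inl ⟨k1, e ▸ he.2⟩]
  · obtain ⟨g, g1, g2, g3, g4⟩ := side jSZ jM jAB hG h
    obtain ⟨k, k1, k2, k3, k4⟩ := side jSZ jM jAB hG h.symm
    have xy : ¬ c x ∣ c y := fun e => g4 (h.mx y h.y1 e ▸ g2)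
    have yx : ¬ c y ∣ c x := fun e => g4 (g2.trans e)
    have all : ∀ v : G, v ≠ 1 → c v = c x ∨ c v = c y ∨ c v = c g ∨ c v = c k := fun v v1 => by
      have n1 : c x ≠ c y := fun e => xy (e ▸ dvd_rfl)
      have n2 : c x ≠ c g := fun e => xy (e ▸ g2)
      have n3 : c y ≠ c k := fun e => yx (e ▸ k2)
      have n4 : c g ≠ c k := fun e => g4 (e ▸ k2)
      simpa using mem_of_ncard cs_finite (T := {c x, c y, c g, c k}) (by
        simp only [Finset.mem_insert, Finset.mem_singleton]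
        rintro m (rfl | rfl | rfl | rfl)
        exacts [⟨x, h.x1, rfl⟩, ⟨y, h.y1, rfl⟩, ⟨g, g1, rfl⟩, ⟨k, k1, rfl⟩]) (by
        rw [h4, Finset.card_insert_of_notMem (by simp [n1, n2, k3.symm]),
          Finset.card_eq_three.2 ⟨_, _, _, g3.symm, n3, n4, rfl⟩]) (m := c v) ⟨v, v1, rfl⟩
    refine jON G hG (c k) (jP1 G x y h (jSZ G hG x y h) ho (fun v v1 a b => ?_) (c k) (c g) (c g)
      (fun v v1 a => ?_) fun v v1 a => ?_)
    · rcases all v v1 with e | e | e | e <;> rw [e] at a b <;> contradiction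
    · rcases all v v1 with e | e | e | e <;> rw [e] at a ⊢ <;> first | contradiction | simp
    · rcases all v v1 with e | e | e | e <;> rw [e] at a ⊢ <;> first | contradiction | simp

theorem ncard_eq {G : Type*} [Group G] [Finite G] [IsSimpleGroup G] (hG : ¬ IsMulCommutative G) :
    Set.ncard {m : ℕ | ∃ x : G, x ∉ center G ∧ m = (centralizer ({x} : Set G)).index} =
      (CS G).ncard := by
  have hZ : center G = ⊥ := (Normal.eq_bot_or_eq_top inferInstance).resolve_right fun e =>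
    hG ⟨⟨fun a b => mem_center_iff.1 (e ▸ mem_top b) a⟩⟩
  have : {m : ℕ | ∃ x : G, x ∉ center G ∧ m = (centralizer ({x} : Set G)).index} =
      (fun m => Nat.card G / m) '' CS G := by
    ext m
    have e : ∀ x : G, Nat.card G / c x = (C x).index := fun x => by
      rw [← (C x).card_mul_index, Nat.mul_div_cancel_left _ Nat.card_pos]
    simp only [hZ, mem_bot, Set.mem_ofPred_eq, Set.mem_image]
    exact ⟨fun ⟨x, h, e'⟩ => ⟨_, ⟨x, h, rfl⟩, (e x).trans e'.symm⟩,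
      fun ⟨_, ⟨x, h, rfl⟩, e'⟩ => ⟨x, h, e'.symm.trans (e x)⟩⟩
  rw [this]
  refine Set.InjOn.ncard_image ?_
  rintro _ ⟨x, -, rfl⟩ _ ⟨y, -, rfl⟩ e
  have h1 := Nat.div_mul_cancel (card_subgroup_dvd_card (C x))
  have h2 := Nat.div_mul_cancel (card_subgroup_dvd_card (C y))
  simp only at e
  rw [← e] at h2
  refine Nat.eq_of_mul_eq_mul_left (Nat.pos_of_ne_zero fun z => ?_) (h1.trans h2.symm)
  rw [z, zero_mul] at h1
  exact Nat.card_pos.ne h1

theorem c_map {G H : Type*} [Group G] [Group H] (e : G ≃* H) (g : G) : c (e g) = c g :=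
  Nat.card_congr ⟨fun a => ⟨e.symm a, by
      have := mem_centralizer_singleton_iff.1 a.2
      exact mem_centralizer_singleton_iff.2 (e.injective (by simpa using this))⟩,
    fun a => ⟨e a, by
      have := mem_centralizer_singleton_iff.1 a.2
      exact mem_centralizer_singleton_iff.2 (by rw [← map_mul, ← map_mul, this])⟩,
    fun a => by simp, fun a => by simp⟩

theorem cs_congr {G H : Type*} [Group G] [Group H] (e : G ≃* H) : CS G = CS H := by
  ext m
  exact ⟨fun ⟨g, h, e'⟩ => ⟨e g, by simpa using h, e'.trans (c_map e g).symm⟩,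
    fun ⟨g, h, e'⟩ => ⟨e.symm g, by simpa using h, e'.trans (c_map e.symm g).symm⟩⟩

end H41.IT
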