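import Cfsg.Agent.H41.ItSpec
import Cfsg.Agent.H58.ItP1

/-! Tower IV (S3194): five centraliser orders, two heads. Proofs: blueprints/IV.md -/

set_option autoImplicit false

namespace H41.IV
open Cfsg Subgroup H41.IT
open scoped ComplexConjugate

universe u

/-- normaliser -/
abbrev Nm {G : Type*} [Group G] (K : Subgroup G) : Subgroup G := normalizer (K : Set G)

/-- two heads `a`, `b`, own values `e ∣ a`, `d ∣ b`, common value `f` -/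
structure R3 (G : Type*) [Group G] (a b e d f : ℕ) : Prop where
  val : ∀ g : G, g ≠ 1 → c g = a ∨ c g = b ∨ c g = e ∨ c g = d ∨ c g = f
  ea : e ∣ a
  ea' : e ≠ a
  eb : ¬ e ∣ b
  db : d ∣ b
  db' : d ≠ b
  da : ¬ d ∣ a
  fa : f ∣ a
  fb : f ∣ b
  exa : ∃ g : G, g ≠ 1 ∧ c g = a
  exb : ∃ g : G, g ≠ 1 ∧ c g = b
  exf : ∃ g : G, g ≠ 1 ∧ c g = f
  cop : (Nat.card G / a).Coprime (Nat.card G / b)
  nc : ∀ x y : G, x ≠ 1 → y ≠ 1 → c x = a → c y = b → ¬ Commute x y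
  npa : ∀ p k : ℕ, p.Prime → Nat.card G / a ≠ p ^ k
  npb : ∀ p k : ℕ, p.Prime → Nat.card G / b ≠ p ^ k

theorem R3.symm {G : Type*} [Group G] {a b e d f : ℕ} (h : R3 G a b e d f) : R3 G b a d e f :=
  ⟨fun g g1 => by have := h.val g g1; tauto, h.db, h.db', h.da, h.ea, h.ea', h.eb, h.fb, h.fa,
    h.exb, h.exa, h.exf, h.cop.symm, fun x y x1 y1 e1 e2 k => h.nc y x y1 x1 e2 e1 k.symm, h.npb,
    h.npa⟩

/-- the coprime setting: two values `β`, `δ` on the odd side -/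
structure S5 (G : Type*) [Group G] (α β δ : ℕ) : Prop where
  card : Nat.card G = α * β
  cop : α.Coprime β
  odd : Odd β
  val : ∀ g : G, g ≠ 1 → c g ∣ α ∨ c g = β ∨ c g = δ
  dvd : δ ∣ β
  ne : δ ≠ β
  np : ∀ p k : ℕ, p.Prime → β ≠ p ^ k
  ncc : ∀ B : Subgroup G, H66.IsCC B → Nat.card B ≠ β

/-- the same, with odd local subgroups -/
structure S6 (G : Type*) [Group G] (α β δ : ℕ) : Prop extends S5 G α β δ where
  loc : ∀ H : Subgroup G, H ≠ ⊥ → Nat.card H ∣ β → Odd (Nat.card (Nm H))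

section Kit
variable {G : Type*} [Group G] [Finite G] {α β δ : ℕ}

omit [Finite G] in
theorem ord_dvd (g : G) : orderOf g ∣ c g :=
  (C g).orderOf_dvd_natCard (mem_centralizer_singleton_iff.2 rfl)

/-- a `p`-element is conjugate into a subgroup of index prime to `p` -/
theorem into_p {A : Subgroup G} {p : ℕ} (hp : p.Prime) (hA : ¬ p ∣ A.index) {t : G}
    (ht : PE p t) : ∃ g : G, g⁻¹ * t * g ∈ A := by
  have := Fact.mk hp
  obtain ⟨k, hk⟩ := ht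
  have hP : IsPGroup p (zpowers t) := IsPGroup.of_card (n := k) (by rw [Nat.card_zpowers, hk])
  obtain ⟨q, hq⟩ := hP.nonempty_fixed_point_of_prime_not_dvd_card (G ⧸ A) hA
  obtain ⟨g, rfl⟩ := QuotientGroup.mk_surjective q
  have := QuotientGroup.eq.1 (show ((g : G) : G ⧸ A) = (t * g : G) from (hq ⟨t, mem_zpowers t⟩).symm)
  exact ⟨g, by rwa [mul_assoc]⟩

omit [Finite G] in
theorem S5.one_lt (h : S5 G α β δ) : β ≠ 1 := h.np 2 0 Nat.prime_two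

omit [Finite G] in
theorem S5.two (h : S5 G α β δ) {g : G} (g1 : g ≠ 1) {s : ℕ} (hs : s.Prime) (h1 : s ∣ β)
    (h2 : s ∣ c g) : c g = β ∨ c g = δ :=
  (h.val g g1).resolve_left fun e => hs.one_lt.ne' (Nat.eq_one_of_dvd_coprimes h.cop (h2.trans e) h1)

theorem S5.two' (h : S5 G α β δ) {g : G} (g1 : g ≠ 1) (h1 : orderOf g ∣ β) :
    c g = β ∨ c g = δ := by
  obtain ⟨s, hs, hd⟩ := Nat.exists_prime_and_dvd (mt orderOf_eq_one_iff.1 g1)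
  exact h.two g1 hs (hd.trans h1) (hd.trans (ord_dvd g))

omit [Finite G] in
theorem S5.alpha (h : S5 G α β δ) {g : G} (g1 : g ≠ 1) {r : ℕ} (hr : r.Prime) (h1 : r ∣ α)
    (h2 : r ∣ c g) : c g ∣ α := by
  have n : ¬ r ∣ β := fun e => hr.one_lt.ne' (Nat.eq_one_of_dvd_coprimes h.cop h1 e)
  rcases h.val g g1 with e | e | e
  exacts [e, absurd (e ▸ h2) n, absurd ((e ▸ h2).trans h.dvd) n]

theorem S5.not_dvd (h : S5 G α β δ) : ¬ β ∣ δ := fun e => h.ne (Nat.dvd_antisymm h.dvd e)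

theorem S5.eq_of_le (h : S5 G α β δ) {g : G} (g1 : g ≠ 1) {H : Subgroup G} (le : H ≤ C g)
    (hH : Nat.card H = β) : C g = H := by
  have d : β ∣ c g := hH ▸ card_dvd_of_le le
  rcases h.val g g1 with e | e | e
  · exact absurd (Nat.eq_one_of_dvd_coprimes h.cop (d.trans e) dvd_rfl) h.one_lt
  · exact (eq_of_le_of_card_ge le (e.trans hH.symm).le).symm
  · exact absurd (e ▸ d) h.not_dvd

end Kit

section Defs
variable {G : Type u} [Group G]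

/-- isolated nilpotent subgroup -/
structure Iso (B : Subgroup G) : Prop where
  nil : Group.IsNilpotent B
  iso : ∀ g ∈ B, g ≠ 1 → C g ≤ B
  np : ∀ p k : ℕ, p.Prime → Nat.card B ≠ p ^ k
  cen : ∃ s : ℕ, (∀ v ∈ B, v ^ s = 1 → ∀ b ∈ B, Commute v b) ∧ (∃ v ∈ B, v ≠ 1 ∧ v ^ s = 1) ∧
    ∃ b ∈ B, b ^ s ≠ 1

/-- characters of a Frobenius group `G` with kernel `B` -/
def SN [Fintype G] (B : Subgroup G) : Prop := ∃ (T : Finset (G → ℂ)) (d : (G → ℂ) → ℕ),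
  (∀ χ, χ ∈ T ↔ IsIrrCharacter G χ ∧ ∃ k : G, k ∈ B ∧ χ k ≠ χ 1) ∧
  (∀ χ ∈ T, χ 1 = d χ ∧ 0 < d χ ∧ (∀ g : G, g ∉ B → χ g = 0) ∧ ∑ g : G, χ g = 0) ∧
  ∑ χ ∈ T, d χ ^ 2 + B.index = Nat.card G ∧ ∃ χ ∈ T, d χ ≤ B.index

/-- exceptional characters -/
def XD (B : Subgroup G) [Fintype B] (e : ℕ) : Prop :=
  ∃ (ι : Type u) (_ : Fintype ι) (f : ι → G → ℂ) (ξ : ι → B → ℂ) (d : ι → ℕ) (σ m : ℤ),
  (σ = 1 ∨ σ = -1) ∧ (∀ i, IsIrrCharacter G (f i) ∧ f i ≠ fun _ => 1) ∧ Function.Injective f ∧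
  (∀ i, 0 < d i ∧ ξ i 1 = d i ∧ ∑ k : B, ξ i k = 0 ∧
    ∑ k : B, ξ i k * conj (ξ i k) = e * Nat.card B) ∧
  (∀ i j, i ≠ j → ∑ k : B, ξ i k * conj (ξ j k) = 0) ∧
  ∑ i, d i ^ 2 + e = e * Nat.card B ∧ (∃ i, d i ≤ e) ∧
  (∀ i, ∀ k : B, k ≠ 1 → (e : ℂ) * (σ * f i k - ξ i k) = m * d i) ∧
  ∀ ψ : G → ℂ, IsIrrCharacter G ψ → (∀ i, ψ ≠ f i) → ∀ a ∈ B, ∀ b ∈ B, a ≠ 1 → b ≠ 1 → ψ a = ψ b

/-- `D = K × U` -/
structure T0 (q β δ : ℕ) (K U : Subgroup G) : Prop where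
  qp : q.Prime
  K1 : K ≠ ⊥
  pU : IsPGroup q U
  cK : (Nat.card K).Coprime q
  hall : ∃ j : ℕ, β = q ^ j * Nat.card K
  qd : q * δ ∣ β
  cD : Nat.card ↥(K ⊔ U) = δ
  ab : ∀ a ∈ K ⊔ U, ∀ b ∈ K ⊔ U, Commute a b
  cc : ∀ k ∈ K, k ≠ 1 → C k = K ⊔ U

structure T (q β δ : ℕ) (K U : Subgroup G) : Prop extends T0 q β δ K U where
  U1 : U ≠ ⊥
  memU : ∀ v ∈ K ⊔ U, PE q v → v ∈ U
  memK : ∀ v ∈ Nm K, (orderOf v).Coprime q → orderOf v ∣ β → v ∈ K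
  nU : Nm K ≤ Nm U
  uniq : ∀ g : G, (∀ k ∈ K, g * k * g⁻¹ ∈ Nm K) → g ∈ Nm K
  hallG : (Nat.card K).Coprime K.index
  into : ∀ v : G, PE q v → ∃ g : G, g * v * g⁻¹ ∈ U
  lt : K ⊔ U < Nm K

/-- type two -/
def T2 (q : ℕ) (z : G) : Prop := Cfsg.pPrimeCore q (C z) = ⊥

/-- no quotient of `q`-power order -/
def NoQ (q : ℕ) (H : Subgroup G) : Prop :=
  ∀ M : Subgroup G, M ≤ H → H ≤ Nm M → (∃ j : ℕ, M.relIndex H = q ^ j) → H ≤ M

end Defs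

/-- E1: copy of P1 with `q` for `2`. -/
def JobE1 : Prop := ∀ (G : Type u) [Group G] [Finite G] (x y : G), K2 x y → SZ x y →
  (∀ g : G, g ≠ 1 → c g ∣ c x → ¬ c g ∣ c y) → ∀ d₂ d₃ : ℕ,
  (∀ g : G, g ≠ 1 → c g ∣ c y → c g = c y ∨ c g = d₂ ∨ c g = d₃) →
  ∀ q : ℕ, q.Prime → ¬ q ∣ (C x).index → ¬ q ∣ c y

def JobCA : Prop := ∀ (G : Type u) [Group G] [Finite G] (a b e d f : ℕ), R3 G a b e d f →
  ∀ x : G, (orderOf x).Prime → c x = a → ∀ p : ℕ, p.Prime → p ∣ a → p ∣ Nat.card G / a →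
  p ≠ orderOf x → ∃ w : G, w ≠ 1 ∧ PE p w ∧ Commute w x ∧ c w = d ∧ c (w * x) = f ∧
    a.factorization p < d.factorization p ∧ orderOf x ∣ f

def JobCB : Prop := JobCA.{u} → ∀ (G : Type u) [Group G] [Finite G] (a b e d f : ℕ),
  ¬ R3 G a b e d f

def JobINV : Prop := ∀ (G : Type u) [Group G] [Finite G] (α β δ : ℕ), S5 G α β δ → S6 G α β δ

/-- Z: central elements. -/
def JobZ : Prop := ∀ (G : Type u) [Group G] [Finite G] (α β δ : ℕ), S5 G α β δ → ∀ s : ℕ,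
  s.Prime → s * δ ∣ β → (∃ z : G, orderOf z = s ∧ c z = β) ∧
  ∀ w : G, w ≠ 1 → c w = β → ∃ z : G, orderOf z = s ∧ C z = C w

def JobIIb : Prop := ∀ (X : Type u) [Group X] [Finite X], Group.IsSolvable X → ∀ p q : ℕ,
  p.Prime → q.Prime → p ≠ q → (∀ u : X, Pri u → u ∉ center X → (∃ h : X, PE p h ∧ C h = C u) ∧
    (∃ h : X, PE q h ∧ C h = C u) ∧ ∀ s : ℕ, s.Prime → ∀ g : X, PE s g → g ∉ center X →
      ∃ h : X, PE s h ∧ C h = C u) → IsMulCommutative X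

def JobII : Prop := JobZ.{u} → JobIIb.{u} → ∀ (G : Type u) [Group G] [Finite G] (α β δ : ℕ),
  S5 G α β δ → ∀ p q : ℕ, p.Prime → q.Prime → p ≠ q → p * δ ∣ β → q * δ ∣ β → False

def JobNIL : Prop := JobZ.{u} → ∀ (G : Type u) [Group G] [Finite G] (α β δ : ℕ), S5 G α β δ →
  ∀ q b : ℕ, q.Prime → β = q ^ b * δ → ∀ k : G, k ≠ 1 → orderOf k ∣ β → (orderOf k).Coprime q →
  c k = β → ∃ B : Subgroup G, Iso B ∧ Nat.card B = β

def JobTI : Prop := ∀ (G : Type u) [Group G] [Finite G] [IsSimpleGroup G], ¬ IsMulCommutative G →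
  ∀ B : Subgroup G, Iso B → IsTISubset (B : Set G) ∧ B < Nm B ∧
    2 * (B.subgroupOf (Nm B)).index + 1 < Nat.card B

def JobSN : Prop := ∀ (N : Type u) [Group N] [Fintype N] (B : Subgroup N) [B.Normal], B ≠ ⊥ →
  Group.IsNilpotent B → (∀ k ∈ B, k ≠ 1 → C k ≤ B) → SN B

def JobXC : Prop := JobSN.{u} → ∀ (G : Type u) [Group G] [Fintype G] (B : Subgroup G) [Fintype B],
  Iso B → IsTISubset (B : Set G) → B < Nm B → XD B (B.subgroupOf (Nm B)).index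

def JobCH2 : Prop := ∀ (G : Type u) [Group G] [Fintype G] (A B : Subgroup G) [Fintype B] (e : ℕ),
  XD B e → 2 * e + 1 < Nat.card B → (Nat.card A).Coprime (Nat.card B) → Nat.card B = A.index →
  Nat.card (MulAction.orbitRel.Quotient G ((G ⧸ A) × (G ⧸ A))) = 2 ∨
  e * Nat.card (MulAction.orbitRel.Quotient G ((G ⧸ A) × (G ⧸ A))) + 1 = Nat.card B + e

def JobRK : Prop := ∀ (G : Type u) [Group G] [Finite G] (A B : Subgroup G) (e : ℕ),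
  (∀ g ∈ B, g ≠ 1 → C g ≤ B) → A ⊓ B = ⊥ → Nat.card B = A.index →
  Nat.card (Nm B) = e * Nat.card B →
  e * Nat.card (MulAction.orbitRel.Quotient G ((G ⧸ A) × (G ⧸ A))) + 1 = Nat.card B + e →
  ∀ b : G ⧸ A, b ≠ ((1 : G) : G ⧸ A) →
    Nat.card (MulAction.orbit (MulAction.stabilizer G ((1 : G) : G ⧸ A)) b) = e

def JobWI2 : Prop := ∀ (G : Type u) [Group G] [Finite G] [IsSimpleGroup G], ¬ IsMulCommutative G →
  ∀ (A B : Subgroup G), Iso B → A ⊓ B = ⊥ → Nat.card B = A.index → ∀ e : ℕ,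
  Nat.card (Nm B) = e * Nat.card B → (∀ b : G ⧸ A, b ≠ ((1 : G) : G ⧸ A) →
    Nat.card (MulAction.orbit (MulAction.stabilizer G ((1 : G) : G ⧸ A)) b) = e) → False

def AB2 : Prop := ∀ (G : Type u) [Group G] [Finite G] [IsSimpleGroup G], ¬ IsMulCommutative G →
  ∀ (x : G) (B : Subgroup G), x ≠ 1 → Iso B → (c x).Coprime (Nat.card B) →
  Nat.card B = (C x).index → False

def JobAB2 : Prop := JobTI.{u} → JobSN.{u} → JobXC.{u} → JobCH2.{u} → JobRK.{u} → JobWI2.{u} →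
  AB2.{u}

def JobIB0 : Prop := JobZ.{u} → ∀ (G : Type u) [Group G] [Finite G] (α β δ : ℕ), S5 G α β δ →
  ∀ q b : ℕ, q.Prime → β = q ^ b * δ →
  (∀ k : G, k ≠ 1 → orderOf k ∣ β → (orderOf k).Coprime q → c k = δ) →
  ∃ K U : Subgroup G, T0 q β δ K U

def JobIB1 : Prop := ∀ (G : Type u) [Group G] [Finite G] [IsSimpleGroup G],
  ¬ IsMulCommutative G → ∀ (α β δ q : ℕ) (K U : Subgroup G), S5 G α β δ → T0 q β δ K U →
  T q β δ K U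

def JobTT : Prop := ∀ (G : Type u) [Group G] [Finite G] (α β δ q : ℕ) (K U : Subgroup G),
  S5 G α β δ → T q β δ K U → ∀ z ∈ U, z ≠ 1 → c z = β → C z ≤ Nm K ∨ T2 q z

def JobPQ : Prop := ∀ (G : Type u) [Group G] [Finite G] (α β δ q : ℕ) (K U : Subgroup G),
  S5 G α β δ → T q β δ K U → ∀ z ∈ U, z ≠ 1 → c z = β → T2 q z → ∀ V : Subgroup G, V ≤ U →
  ∃ R : Subgroup G, IsPGroup q R ∧ R ≤ centralizer (V : Set G) ∧ K ≤ Nm R ∧ ¬ R ≤ K ⊔ U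

def JobNQ : Prop := ∀ (G : Type u) [Group G] [Finite G] (α β δ q : ℕ) (K U : Subgroup G),
  S5 G α β δ → T q β δ K U → q * δ ∣ Nat.card (Nm K) → Nat.card (Nm K) ∣ β

/-- FC: a fixed point free `q`-group, `q` odd, is cyclic. -/
def JobFC : Prop := ∀ (G : Type u) [Group G] [Finite G] (q : ℕ), q.Prime → q ≠ 2 →
  ∀ P K : Subgroup G, IsPGroup q P → K ≠ ⊥ → P ≤ Nm K →
  (∀ w ∈ P, ∀ k ∈ K, k ≠ 1 → Commute w k → w ∈ centralizer (K : Set G)) →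
  ∃ w ∈ P, ∀ a ∈ P, ∃ n : ℕ, (w ^ n)⁻¹ * a ∈ centralizer (K : Set G)

def JobB1a : Prop := JobZ.{u} → JobTT.{u} → JobPQ.{u} → JobNQ.{u} →
  ∀ (G : Type u) [Group G] [Finite G] (α β δ q : ℕ) (K U : Subgroup G),
  S5 G α β δ → T q β δ K U → ∀ u ∈ U, u ≠ 1 → c u = δ →
  Nat.card (Nm K) = β ∧ ∀ z ∈ U, z ≠ 1 → c z = β → C z = Nm K

def JobB1b : Prop := JobFC.{u} →
  ∀ (G : Type u) [Group G] [Finite G] (α β δ q : ℕ) (K U : Subgroup G),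
  S5 G α β δ → T q β δ K U → ∀ u ∈ U, u ≠ 1 → c u = δ → Nat.card (Nm K) = β →
  (∀ z ∈ U, z ≠ 1 → c z = β → C z = Nm K) → ∀ A : Subgroup G, A ≤ Nm K → IsPGroup q A →
  IsMulCommutative A → Nat.card A ≤ Nat.card U

def JobB1c : Prop := ∀ (G : Type u) [Group G] [Finite G] [IsSimpleGroup G],
  ∀ (α β δ q : ℕ) (K U : Subgroup G),
  S5 G α β δ → T q β δ K U → ∀ u ∈ U, u ≠ 1 → c u = δ → Nat.card (Nm K) = β →
  (∀ z ∈ U, z ≠ 1 → c z = β → C z = Nm K) → (∀ A : Subgroup G, A ≤ Nm K → IsPGroup q A →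
  IsMulCommutative A → Nat.card A ≤ Nat.card U) → False

def JobB2a : Prop := JobTT.{u} → JobPQ.{u} → JobNQ.{u} →
  ∀ (G : Type u) [Group G] [Finite G] (α β δ q : ℕ) (K U : Subgroup G),
  S5 G α β δ → T q β δ K U → (∀ u ∈ U, u ≠ 1 → c u = β) → ∀ z ∈ U, z ≠ 1 → C z ≤ Nm K →
  Nat.card (Nm K) = β ∧ ∀ u ∈ U, u ≠ 1 → C u = Nm K

def JobB2b : Prop := JobFC.{u} →
  ∀ (G : Type u) [Group G] [Finite G] (α β δ q : ℕ) (K U : Subgroup G),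
  S6 G α β δ → T q β δ K U → Nat.card (Nm K) = β → (∀ u ∈ U, u ≠ 1 → C u = Nm K) → False

def JobB2c : Prop := JobPQ.{u} →
  ∀ (G : Type u) [Group G] [Finite G] (α β δ q : ℕ) (K U : Subgroup G),
  S5 G α β δ → T q β δ K U → (∀ u ∈ U, u ≠ 1 → c u = β ∧ T2 q u) → Nat.card (Nm K) ∣ β

def JobB2d : Prop := ∀ (G : Type u) [Group G] [Finite G] (α β δ q : ℕ) (K U : Subgroup G),
  S5 G α β δ → T q β δ K U → Nat.card (Nm K) ∣ β →
  (∃ w ∈ Nm K, PE q w ∧ w ∉ K ⊔ U) ∧ ∃ y ∈ U, y ≠ 1 ∧ Nm K ≤ C y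

def JobFU : Prop := ∀ (G : Type u) [Group G] [Finite G] [IsSimpleGroup G], ¬ IsMulCommutative G →
  ∀ (α β δ q : ℕ) [Fact q.Prime], S6 G α β δ → q ∣ β → ∀ Q : Sylow q G,
  NoQ q (Nm (centerThompsonAOf (Q : Subgroup G)))

def JobZN : Prop := ∀ (G : Type u) [Group G] [Finite G] (q : ℕ) [Fact q.Prime] (X : Subgroup G),
  q ≠ 2 → Odd (Nat.card X) → Cfsg.pPrimeCore q X = ⊥ → ∀ Q : Sylow q G, (Q : Subgroup G) ≤ X →
  X ≤ Nm (centerThompsonAOf (Q : Subgroup G))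

def JobB2e : Prop := JobFC.{u} →
  ∀ (G : Type u) [Group G] [Finite G] (α β δ q : ℕ) (K U : Subgroup G),
  S5 G α β δ → T q β δ K U → Nat.card (Nm K) ∣ β → ∀ w ∈ Nm K, PE q w → w ∉ K ⊔ U →
  ∀ H W : Subgroup G, Odd (Nat.card H) → Nm K ≤ H → W ≠ ⊥ → IsPGroup q W → H ≤ Nm W → NoQ q H →
  False

end H41.IV
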