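/- S3275, chapter alpha: job T6. -/
import Cfsg.Agent.H48.DNASpec
import Cfsg.Agent.H98.CharP

set_option autoImplicit false

namespace H41.NaT6

open Subgroup Cfsg H98 H48.DP H57.DPC H26.DA H98.DP0C H48.DP2
open scoped commutatorElement

universe u

theorem le_comm_of_fpf {G : Type u} [Group G] [Finite G] {J : Subgroup G} {y : G} (hy : y ∈ No J)
    (h : J ⊓ C1 y = ⊥) : J ≤ ⁅J, zpowers y⁆ := by
  let f : J → J := fun j => ⟨(j : G)⁻¹ * (y * j * y⁻¹),
    mul_mem (inv_mem j.2) ((mem_normalizer_iff.1 hy _).1 j.2)⟩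
  have inj : Function.Injective f := by
    rintro ⟨j, hj⟩ ⟨k, hk⟩ e
    have e' : j⁻¹ * (y * j * y⁻¹) = k⁻¹ * (y * k * y⁻¹) := congrArg Subtype.val e
    have m1 : k * j⁻¹ ∈ C1 y := mem_centralizer_singleton_iff.2 (by
        calc k * j⁻¹ * y = k * (j⁻¹ * (y * j * y⁻¹)) * (y * j⁻¹) := by group
          _ = y * (k * j⁻¹) := by rw [e']; group)
    have m : k * j⁻¹ ∈ J ⊓ C1 y := mem_inf.2 ⟨mul_mem hk (inv_mem hj), m1⟩
    rw [h, mem_bot, mul_inv_eq_one] at m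
    exact Subtype.ext m.symm
  intro a ha
  obtain ⟨j, hj⟩ := Finite.injective_iff_surjective.1 inj ⟨a, ha⟩
  have e : (j : G)⁻¹ * (y * j * y⁻¹) = a := congrArg Subtype.val hj
  have := commutator_mem_commutator (inv_mem j.2) (mem_zpowers y)
  rw [commutatorElement_def] at this
  convert this using 1
  rw [← e]
  group

theorem jobT6 : H48.DP2.JT6.{u} := by
  intro u1 g1 t5 t6a G _ _ M Q P y z r h
  haveI : Fact (Nat.Prime 2) := ⟨Nat.prime_two⟩
  haveI : Fact (Nat.Prime 3) := ⟨Nat.prime_three⟩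
  have y3 := h.lt.y3
  have z3 := h.lt.z3
  have zP : z ∈ P := commutator_le_self P (h.lt.der ▸ mem_zpowers z)
  have yz : Commute y z := (mem_centralizer_singleton_iff.1 (h.lt.Py zP)).symm
  have ny : y ∉ zpowers z := fun e => h.lt.yP (zpowers_le.2 zP e)
  have yQ : y ∈ No Q := h.no ▸ h.yM
  have zQ : z ∈ No Q := h.no ▸ h.PM zP
  have Q2 : IsPGroup 2 Q := h.o2 ▸ isPGroup_pCoreOf M
  have zy : z ∈ No (zpowers y) := centralizer_le_normalizer _ (by
    rintro _ ⟨n, rfl⟩; exact (yz.zpow_left n).eq)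
  have A : ∀ X : Subgroup G, IsPGroup 2 X → y ∈ No X → z ∈ No X → ⁅X, zpowers y⁆ ≤ X ⊓ Q := by
    intro X X2 hy hz
    obtain ⟨a, b⟩ := t6a G X M y z X2 y3 z3 yz ny hy hz (inf_le_right.trans h.c0)
      (inf_le_right.trans h.c1) (inf_le_right.trans h.c2)
    have c : ⁅X, zpowers y⁆ ≤ X := commutator_le_left' (zpowers_le.2 hy)
    exact le_inf c (t5 G M Q P _ y z r h (X2.to_le c) a
      (normalizer_commutator_ge_right _ _ (mem_zpowers y))
      (le_normalizer_commutator (zpowers_le.2 hz) (zpowers_le.2 zy) (mem_zpowers z)) b)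
  let F : Set (Subgroup G) := {X | IsPGroup 2 X ∧ y ∈ No X ∧ z ∈ No X ∧ ¬ X ≤ M}
  have Fn : F.Nonempty := by
    obtain ⟨S, a, b, c, d⟩ := h.fs
    refine ⟨S, a, centralizer_le_normalizer _ fun s hs => ?_, c, d⟩
    exact mem_centralizer_singleton_iff.1 (b hs)
  have B : ∃ X ∈ F, X ⊓ Q ≠ ⊥ := by
    obtain ⟨X, hX, mx⟩ := Set.exists_max_image F (fun X => Nat.card X) (Set.toFinite _) Fn
    obtain ⟨X2, hy, hz, nM⟩ := hX
    refine ⟨X, ⟨X2, hy, hz, nM⟩, fun e => ?_⟩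
    have X1 : X ≠ ⊥ := fun e => nM (e ▸ bot_le)
    have XO : X ≤ O2 (No X) := le_pCoreOf X2 le_normalizer le_rfl
    have eO : X = O2 (No X) := eq_of_le_of_card_ge XO (mx _ ⟨isPGroup_pCoreOf _,
      self_le_normalizer_pCoreOf _ hy, self_le_normalizer_pCoreOf _ hz, fun c => nM (XO.trans c)⟩)
    have ch := (charP_iff.2 (h.char.2 X X2 X1)).le
    have c := A X X2 hy hz
    rw [e, le_bot_iff, commutator_comm, commutator_eq_bot_iff_le_centralizer] at c
    have yC : y ∈ Ce (O2 (No X)) := by rw [← eO]; exact c (mem_zpowers y)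
    have yX : y ∈ O2 (No X) := ch (mem_inf.2 ⟨hy, yC⟩)
    obtain ⟨k, hk⟩ := isPGroup_iff_forall.1 (isPGroup_pCoreOf (p := 2) (No X)) _ yX
    have := orderOf_dvd_of_pow_eq_one hk
    rw [y3] at this
    exact absurd (Nat.Prime.dvd_of_dvd_pow Nat.prime_three this) (by norm_num)
  obtain ⟨X, ⟨X2, hy, hz, nM⟩, mx⟩ :=
    Set.exists_max_image F (fun X => Nat.card ↥(X ⊓ Q)) (Set.toFinite _) Fn
  have J1 : X ⊓ Q ≠ ⊥ := fun e => by
    obtain ⟨Y, hY, k⟩ := B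
    have := mx Y hY
    simp only [e, card_bot] at this
    exact k (eq_bot_of_card_le _ this)
  have yJ : y ∈ No (X ⊓ Q) := inf_normalizer_le_normalizer_inf ⟨hy, yQ⟩
  have zJ : z ∈ No (X ⊓ Q) := inf_normalizer_le_normalizer_inf ⟨hz, zQ⟩
  have eJ : ⁅X, zpowers y⁆ = X ⊓ Q := le_antisymm (A X X2 hy hz)
    ((le_comm_of_fpf yJ (le_bot_iff.1 (h.d ▸ inf_le_inf_right _ inf_le_right))).trans
      (commutator_mono inf_le_left le_rfl))
  have XJ : X ≤ No (X ⊓ Q) := eJ ▸ normalizer_commutator_ge_left _ _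
  obtain ⟨⟨E, hE, EP, yE, zE⟩, -⟩ := g1 G M Q P y z r h.toUa h.lt h.PM h.yM
  have AE : zpowers y ⊔ zpowers z ≤ E := sup_le (zpowers_le.2 yE) (zpowers_le.2 zE)
  have c9 : 9 ≤ Nat.card ↥(zpowers y ⊔ zpowers z) := by
    have E3 : IsPGroup 3 E := fun b => ⟨1, Subtype.ext (by simpa using hE.1.2 b b.2)⟩
    obtain ⟨n, hn⟩ := IsPGroup.iff_card.1 (E3.to_le AE)
    have : ¬ Nat.card ↥(zpowers y ⊔ zpowers z) ≤ Nat.card (zpowers z) := fun c =>
      ny (eq_of_le_of_card_ge le_sup_right c ▸ mem_sup_left (mem_zpowers y))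
    rw [Nat.card_zpowers, z3, hn] at this
    rw [hn]
    rcases n with _ | _ | n
    · omega
    · omega
    · have := Nat.one_le_pow n 3 (by norm_num)
      rw [pow_succ, pow_succ]
      omega
  have U := u1 G M Q (No (X ⊓ Q)) _ h.toUa (no_ne_top h.toHyp (X2.to_le inf_le_left) J1)
    (sup_le (zpowers_le.2 yJ) (zpowers_le.2 zJ))
    ⟨E, EP.trans (sup_le h.PM (zpowers_le.2 h.yM)), hE, AE⟩ c9
  have HO : No (X ⊓ Q) ≤ No (O2 (No (X ⊓ Q))) := self_le_normalizer_pCoreOf _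
  have e : X ⊓ Q = (X ⊔ O2 (No (X ⊓ Q))) ⊓ Q :=
    eq_of_le_of_card_ge (inf_le_inf_right _ le_sup_left) (mx _
      ⟨X2.to_sup_of_normal_right' (isPGroup_pCoreOf _) (XJ.trans HO),
        normalizer_inf_normalizer_le_normalizer_sup _ _ ⟨hy, HO yJ⟩,
        normalizer_inf_normalizer_le_normalizer_sup _ _ ⟨hz, HO zJ⟩,
        fun c => nM (le_sup_left.trans c)⟩)
  have le : Q ⊓ No (X ⊓ Q) ≤ X ⊓ Q := e.ge.trans' (le_inf (U.trans le_sup_right) inf_le_left)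
  have JQ : X ⊓ Q = Q := by
    by_contra c
    exact (lt_inf_normalizer Q2 (lt_of_le_of_ne inf_le_right c)).not_ge le
  rw [JQ, h.no] at XJ
  exact nM XJ

end H41.NaT6
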