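import Cfsg.Agent.H70.RRSpec
import Cfsg.Agent.H46.Quo

/-! Row S3530, slot K2L: two linear components. -/

set_option autoImplicit false

namespace H41.RRK2L

open Cfsg Subgroup H24 H70.Sq H10.W H70.RR H98

universe u

section
variable {G H : Type u} [Group G] [Finite G] [Group H] [Finite H] {ψ : G →* H} {m : ℕ}
  {T T' : Subgroup H} {l n d ν l' n' d' ν' : ℕ}

omit [Finite H] in
theorem two_symm (h : Two T T') : Two T' T :=
  ⟨h.r, h.l, by rw [commutator_comm, h.comm], by rw [inf_comm, h.cent], by rw [sup_comm]; exact h.odd⟩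

omit [Finite H] in
theorem two_cen (h : Two T T') : T ≤ centralizer (T' : Set H) :=
  commutator_eq_bot_iff_le_centralizer.1 h.comm

omit [Finite H] in
theorem cen_St {x : H} (hx : x ∈ centralizer (T : Set H)) (U : Sylow l T) : x ∈ St U :=
  centralizer_le_normalizer _ (centralizer_anti (map_subtype_le _) hx)

omit [Finite H] in
theorem mem_of_pows {K : Subgroup H} {h : H} {a c : ℕ} (e : a.Coprime c) (h1 : h ^ a ∈ K)
    (h2 : h ^ c ∈ K) : h ∈ K := by
  have := mul_mem (zpow_mem h1 (Nat.gcdA a c)) (zpow_mem h2 (Nat.gcdB a c))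
  rwa [← zpow_natCast, ← zpow_natCast, ← zpow_mul, ← zpow_mul, ← zpow_add, ← Nat.gcd_eq_gcd_ab, e,
    Nat.cast_one, zpow_one] at this

theorem into (hF : JobFix.{u}) (h : NS T) (L : L2D T l n d ν) (U : Sylow l T) {a c : ℕ}
    (ha : a.Prime) (hc : c.Prime) (e : a.Coprime c) (a2 : a ≠ 2) (c2 : c ≠ 2) (a1 : ¬ a ∣ l ^ n + 1)
    (c1 : ¬ c ∣ l ^ n + 1) {x : H} (hx : x ^ (a * c) = 1) : ∃ t ∈ T, t * x * t⁻¹ ∈ St U := by
  obtain ⟨f1, -, -, f4⟩ := hF H T l h L.toTI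
  obtain ⟨V, v1, v2⟩ := ((f4 n d ν L).1 (x ^ c) (x ^ a) a c ha hc a2 c2 (Commute.pow_pow_self x _ _)
    (orderOf_dvd_of_pow_eq_one (by rwa [← pow_mul, mul_comm]))
    (orderOf_dvd_of_pow_eq_one (by rwa [← pow_mul])) c1).resolve_right fun k => a1 k.1
  obtain ⟨t, ht, k⟩ := f1 U V
  exact ⟨t, ht, k x (mem_of_pows e v2 v1)⟩

theorem sol_St (L : L2D T l n d ν) (U : Sylow l T) : Group.IsSolvable ↥(St U ⊓ T) := by
  have := L.sol U
  have := H2.isSolvable_map (normalizer ((U : Subgroup T) : Set T)) T.subtype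
  refine H2.isSolvable_of_le (B := (normalizer ((U : Subgroup T) : Set T)).map T.subtype) fun x hx =>
    ⟨⟨x, hx.2⟩, mem_normalizer_iff.2 fun y => ?_, rfl⟩
  rw [← mem_map_iff_mem T.subtype_injective, ← mem_map_iff_mem (K := (U : Subgroup T)) T.subtype_injective]
  exact mem_normalizer_iff.1 hx.1 _

theorem same (kA : KitA.{u}) (kB : KitB.{u}) (hF : JobFix.{u}) (A : Amb m ψ) (fu : Full m G)
    (h : Two T T') (L : L2D T l n d ν) (L' : L2D T' l' n' d' ν') (κ : Fin 5)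
    (k : ∀ i s, i ≠ κ → Cl m i s → ¬ s ∣ l ^ n + 1) (k' : ∀ i s, i ≠ κ → Cl m i s → ¬ s ∣ l' ^ n' + 1) :
    False := by
  choose p hp using A.num.ex
  have := Fact.mk L.prime
  have := Fact.mk L'.prime
  obtain ⟨U⟩ : Nonempty (Sylow l T) := inferInstance
  obtain ⟨U'⟩ : Nonempty (Sylow l' T') := inferInstance
  have := h.l.nT
  have := h.r.nT
  refine kA.k4 (K := (St U ⊓ St U').comap ψ) (κ := κ) A.num A.sub (kB.sol A.sol inferInstance h.odd ?_)
    (fun i _ => hp i) fun i j hi hj hij => ?_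
  · refine H1.isSolvable_of_le (fun x hx => ?_) (H46.sol_sup ((inf_le_right.trans (two_cen (two_symm h))).trans
      ((centralizer_anti inf_le_right).trans (centralizer_le_normalizer _))) (sol_St L U) (sol_St L' U'))
    obtain ⟨s, hs, s', hs', rfl⟩ := (mem_sup_left_norm (le_normalizer_of_normal)).1 hx.2
    refine mul_mem (mem_sup_left ⟨?_, hs⟩) (mem_sup_right ⟨?_, hs'⟩)
    · exact (mul_mem_cancel_right (cen_St (two_cen (two_symm h) hs') U)).1 hx.1.1
    · exact (mul_mem_cancel_left (cen_St (two_cen h hs) U')).1 hx.1.2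
  obtain ⟨g, hg⟩ := fu i j _ _ hij (hp i) (hp j)
  have e := A.num.cop hij (hp i) (hp j)
  have g1 : ψ g ^ (p i * p j) = 1 := by rw [← map_pow, ← hg, pow_orderOf_eq_one, map_one]
  obtain ⟨t, -, a⟩ := into hF h.l L U (hp i).1 (hp j).1 e (A.num.ne_two (hp i)) (A.num.ne_two (hp j))
    (k i _ hi (hp i)) (k j _ hj (hp j)) g1
  obtain ⟨t', ht', a'⟩ := into hF h.r L' U' (hp i).1 (hp j).1 e (A.num.ne_two (hp i))
    (A.num.ne_two (hp j)) (k' i _ hi (hp i)) (k' j _ hj (hp j)) (x := t * ψ g * t⁻¹)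
    (by rw [conj_pow, g1]; simp)
  have c := cen_St (two_cen (two_symm h) ht') U
  rw [← hg]
  refine ord_comap A.sj (t := t' * t) ?_
  rw [show t' * t * ψ g * (t' * t)⁻¹ = t' * (t * ψ g * t⁻¹) * t'⁻¹ by group]
  exact mem_inf.2 ⟨mul_mem (mul_mem c a) (inv_mem c), a'⟩

omit [Finite H] in
theorem ord_dvd (g : G) : orderOf g ∣ orderOf (ψ g) * Nat.card ψ.ker := by
  have : g ^ orderOf (ψ g) ∈ ψ.ker := by rw [MonoidHom.mem_ker, map_pow, pow_orderOf_eq_one]
  rw [orderOf_dvd_iff_pow_eq_one, pow_mul, ← orderOf_dvd_iff_pow_eq_one]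
  exact orderOf_dvd_natCard _ this

theorem noEl (hNS : JobNS.{u}) (A : Amb m ψ) (h : NS T) (h3 : NSd T 3) {i j : Fin 5} {a c : ℕ}
    (hij : i ≠ j) (i0 : i ≠ 0) (j0 : j ≠ 0) (ha : Cl m i a) (hc : Cl m j c) (a1 : ¬ a ∣ Nat.card T)
    (c1 : ¬ c ∣ Nat.card T) {y : H} : orderOf y ≠ a * c := fun e => by
  obtain ⟨x, -, x1, x2⟩ := hNS H T (zpowers y) 3 h.nT h3 inferInstance (by
      rw [Nat.card_zpowers, e]
      exact (ha.1.coprime_iff_not_dvd.2 a1).mul_left (hc.1.coprime_iff_not_dvd.2 c1)) fun p hp k => by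
    rw [Nat.card_zpowers, e] at k
    rcases hp.dvd_mul.1 k with k | k
    · exact (Nat.prime_dvd_prime_iff_eq hp ha.1).1 k ▸ A.num.big i a i0 ha
    · exact (Nat.prime_dvd_prime_iff_eq hp hc.1).1 k ▸ A.num.big j c j0 hc
  exact A.num.tri (A.sub.of_surjective A.sj) i0.symm j0.symm hij ((A.num.zero 3).2 rfl) ha hc x1
    (e ▸ ord_mem (mem_centralizer_singleton_iff.2 (x2 y (mem_zpowers y))))

omit [Finite H] in
theorem one_dvd {a c : ℕ} (ha : a.Prime) (hc : c.Prime) (e : a.Coprime c) {g : G}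
    (hg : orderOf g = a * c) (h : orderOf (ψ g) ≠ a * c) : a ∣ Nat.card ψ.ker ∨ c ∣ Nat.card ψ.ker := by
  by_contra! k
  have := hg ▸ ord_dvd (ψ := ψ) g
  exact h (Nat.dvd_antisymm (hg ▸ orderOf_map_dvd ψ g) (e.mul_dvd_of_dvd_of_dvd
    ((ha.dvd_mul.1 ((dvd_mul_right a c).trans this)).resolve_right k.1)
    ((hc.dvd_mul.1 ((dvd_mul_left c a).trans this)).resolve_right k.2)))

theorem el3 (h : NSd T 3) : ∃ x ∈ T, orderOf x = 3 :=
  let ⟨_, _, x, _, e, _⟩ := h; ⟨x, x.2, (orderOf_coe x).trans e⟩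

theorem rk3 (h : Two T T') (h1 : NSd T 3) (h2 : NSd T' 3) :
    ∃ E : Subgroup H, Rk 3 E ∧ Group.IsSolvable E := by
  obtain ⟨x, hx, e⟩ := el3 h1
  obtain ⟨y, hy, e'⟩ := el3 h2
  have c : zpowers x ≤ centralizer (zpowers y : Set H) :=
    ((zpowers_le.2 hx).trans (two_cen h)).trans (centralizer_anti (zpowers_le.2 hy))
  have d : ∀ z ∈ zpowers x ⊔ zpowers y, ∃ i j : ℤ, z = x ^ i * y ^ j := fun z hz => by
    obtain ⟨_, ⟨i, rfl⟩, _, ⟨j, rfl⟩, rfl⟩ :=
      (mem_sup_left_norm (c.trans (centralizer_le_normalizer _))).1 hz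
    exact ⟨i, j, rfl⟩
  have cm : Commute x y := (c (mem_zpowers x) y (mem_zpowers y)).symm
  have ab : IsMulCommutative ↥(zpowers x ⊔ zpowers y) := ⟨⟨fun a b => Subtype.ext (by
    obtain ⟨i, j, e1⟩ := d a a.2
    obtain ⟨i', j', e2⟩ := d b b.2
    show (a : H) * b = b * a
    rw [e1, e2]
    exact (((Commute.refl x).zpow_zpow _ _).mul_right (cm.zpow_zpow _ _)).mul_left
      ((cm.symm.zpow_zpow _ _).mul_right ((Commute.refl y).zpow_zpow _ _)))⟩⟩
  have cu : ∀ z ∈ zpowers x ⊔ zpowers y, z ^ 3 = 1 := fun z hz => by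
    obtain ⟨i, j, rfl⟩ := d z hz
    rw [(cm.zpow_zpow _ _).mul_pow, ← zpow_natCast, ← zpow_natCast, ← zpow_mul, ← zpow_mul, mul_comm i,
      mul_comm j, zpow_mul, zpow_mul, zpow_natCast, zpow_natCast, ← e, pow_orderOf_eq_one, e, ← e',
      pow_orderOf_eq_one]
    simp
  refine ⟨zpowers x ⊔ zpowers y, ⟨_, le_rfl, ⟨ab, cu⟩, fun k => ?_⟩,
    Group.isSolvable_of_comm ab.1.1⟩
  have k1 : Nat.card ↥(zpowers x ⊔ zpowers y) ∣ 3 := IsCyclic.exponent_eq_card (α := ↥(zpowers x ⊔ zpowers y))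
    ▸ Monoid.exponent_dvd_of_forall_pow_eq_one fun z => Subtype.ext (cu z z.2)
  have k2 : x ∈ zpowers y := (eq_of_le_of_card_ge le_sup_right (by
    rw [Nat.card_zpowers, e']; exact Nat.le_of_dvd (by decide) k1)).ge (mem_sup_left (mem_zpowers x))
  have : x ∈ (⊥ : Subgroup H) := h.cent ▸ ⟨two_cen (two_symm h) (zpowers_le.2 hy k2), two_cen h hx⟩
  rw [mem_bot.1 this, orderOf_one] at e
  omega

theorem miss (kB : KitB.{u}) (hF : JobFix.{u}) (hNS : JobNS.{u}) (hT : JobT.{u}) (A : Amb m ψ)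
    (fu : Full m G) (h : NS T) (L : L2D T 37 1 d ν) (ty : ∀ s, Cl m 1 s ∨ Cl m 2 s → ¬ s ∣ Nat.card T)
    {i j : Fin 5} {a c : ℕ} (hi : i = 1 ∨ i = 2) (hj : j = 1 ∨ j = 2) (hij : i ≠ j) (ha : Cl m i a)
    (hc : Cl m j c) : a ∣ Nat.card ψ.ker := by
  by_contra k
  have i0 : i ≠ 0 := by rintro rfl; revert hi; decide
  have j0 : j ≠ 0 := by rintro rfl; revert hj; decide
  have a1 := ty a (by rcases hi with rfl | rfl; exacts [.inl ha, .inr ha])
  have c1 := ty c (by rcases hj with rfl | rfl; exacts [.inl hc, .inr hc])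
  have e := A.num.cop hij ha hc
  have n3 := L.ns3 (by decide)
  have c3 := (A.num.zero 3).2 rfl
  obtain ⟨g, hg⟩ := fu i j a c hij ha hc
  have o1 : orderOf (ψ g) = a := by
    have b1 := hg ▸ orderOf_map_dvd ψ g
    obtain ⟨w, hw⟩ := (ha.1.dvd_mul.1 ((dvd_mul_right a c).trans
      (hg ▸ ord_dvd (ψ := ψ) g))).resolve_right k
    rw [hw] at b1
    rcases (Nat.dvd_prime hc.1).1 (Nat.dvd_of_mul_dvd_mul_left ha.1.pos b1) with rfl | rfl
    · rw [hw, mul_one]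
    · exact absurd hw (noEl hNS A h n3 hij i0 j0 ha hc a1 c1)
  have ox : orderOf (g ^ c) = a := by
    rw [orderOf_pow' _ hc.1.ne_zero, hg, Nat.gcd_mul_left_left, Nat.mul_div_cancel _ hc.1.pos]
  have oy : orderOf (g ^ a) = c := by
    rw [orderOf_pow' _ ha.1.ne_zero, hg, Nat.gcd_mul_right_left, Nat.mul_div_cancel_left _ ha.1.pos]
  have ow : orderOf (ψ (g ^ c)) = a := by
    rw [map_pow, Nat.Coprime.orderOf_pow (by rwa [o1]), o1]
  obtain ⟨-, -, -, f4⟩ := hF H T 37 h L.toTI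
  obtain ⟨U, -, hU⟩ := ((f4 1 d ν L).1 1 (ψ (g ^ c)) 3 a Nat.prime_three ha.1 (by decide)
    (A.num.ne_two ha) (Commute.one_left _) (by simp) ow.dvd
    fun b => a1 (L.card ▸ b.mul_right _)).resolve_right fun b => absurd b.1 (by decide)
  have cw := (f4 1 d ν L).2 _ U hU (ow ▸ ha.1) (by
      rw [ow]
      rintro rfl
      exact a1 (L.card ▸ (dvd_mul_right _ _).mul_left _)) fun s s0 s1 b => by
    obtain rfl : s = 1 := by omega
    have := A.num.big i a i0 ha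
    rw [ow, show 37 ^ 1 - 1 = 6 ^ 2 from rfl] at b
    have := Nat.le_of_dvd (by decide) (ha.1.dvd_of_dvd_pow b)
    omega
  have cv := kB.cov (ψ := ψ) (K := ⊤) (A := zpowers (g ^ c)) (T := T) A.sol
    (by rw [map_top_of_surjective _ A.sj]; exact le_top) le_top
    (by rw [Nat.card_zpowers, ox, top_inf_eq]; exact ha.1.coprime_iff_not_dvd.2 k)
    (by rw [MonoidHom.map_zpowers]; exact zpowers_le.2 cw)
  have le : ⊤ ⊓ centralizer (zpowers (g ^ c) : Set G) ≤ centralizer {g ^ c} :=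
    inf_le_right.trans (centralizer_le (by simp))
  rcases hT G H ψ T _ c h.simple h.nab cv (A.num.ab2 A.sub) (.inr n3) hc.1
    (by have := A.num.big j c j0 hc; omega) (oy.symm.dvd.trans <| orderOf_dvd_natCard _ ⟨⟨trivial, by
      rintro _ ⟨s, rfl⟩
      exact ((Commute.pow_pow_self g c a).zpow_left s).eq⟩, MonoidHom.mem_ker.2 (by
      rw [map_pow, ← o1, pow_orderOf_eq_one])⟩) with b | b
  · exact A.num.tri A.sub i0 hij j0.symm ha c3 hc ox (ord_mono le b)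
  · have d1 : 37 ∣ Nat.card T := L.card ▸ (dvd_mul_right _ _).mul_left _
    obtain ⟨s, hs⟩ := (A.num.prime 37 L.prime (((A.sub.of_surjective A.sj).sub T).om
      (ord_of_prime L.prime d1))).resolve_left (by decide)
    refine A.num.tri A.sub i0 (fun b => ?_) (fun b => ?_) ha c3 hs ox
      (ord_mono le (b 37 L.prime (by decide) d1))
    · subst b
      exact ty 37 (by rcases hi with rfl | rfl; exacts [.inl hs, .inr hs]) d1
    · exact absurd ((A.num.zero 37).1 (b ▸ hs)) (by decide)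

theorem mixed (kA : KitA.{u}) (kB : KitB.{u}) (hF : JobFix.{u}) (hNS : JobNS.{u}) (hT : JobT.{u})
    (A : Amb m ψ) (fu : Full m G) (nc : NC ψ) (h : Two T T') (L : L2D T l n d ν)
    (L' : L2D T' l' n' d' ν') (l2 : l' ≠ 2) (ty : Ty37 m T l n) (ty' : TyAB m T' ν') : False := by
  obtain ⟨rfl, rfl, ty⟩ := ty
  choose p hp using A.num.ex
  have a1 := miss kB hF hNS hT A fu h.l L ty (.inl rfl) (.inr rfl) (by decide) (hp 1) (hp 2)
  have a2 := miss kB hF hNS hT A fu h.l L ty (.inr rfl) (.inl rfl) (by decide) (hp 2) (hp 1)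
  obtain ⟨g, hg⟩ := fu 3 4 _ _ (by decide) (hp 3) (hp 4)
  have a3 := one_dvd (ψ := ψ) (hp 3).1 (hp 4).1 (A.num.cop (by decide) (hp 3) (hp 4)) hg
    (noEl hNS A h.r (L'.ns3 l2) (by decide) (by decide) (by decide) (hp 3) (hp 4)
      (ty'.2 _ (.inl (hp 3))) (ty'.2 _ (.inr (hp 4))))
  obtain ⟨E, e1, e2⟩ := rk3 h (L.ns3 (by decide)) (L'.ns3 l2)
  have s : Group.IsSolvable (E.comap ψ) :=
    kB.sol (N := ⊤) A.sol inferInstance (by simp) (by rwa [inf_top_eq])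
  have r0 : Rk (p 0) (E.comap ψ) := (A.num.zero _).1 (hp 0) ▸
    kA.lift Nat.prime_three (by decide) (map_comap_eq_self_of_surjective A.sj E).ge e1
  have r : ∀ i, p i ∣ Nat.card ψ.ker → Rk (p i) (E.comap ψ) := fun i k =>
    (nc _ (hp i).1 (A.num.ne_two (hp i)) k).mono (ker_le_comap ψ E)
  have fin : ∀ κ, (∀ i, i ≠ κ → Rk (p i) (E.comap ψ)) → False := fun κ k =>
    kA.k4 A.num A.sub s (fun i _ => hp i) fun i j hi hj hij => kA.nc2 (hp i).1 (hp j).1
      (fun e => hij (A.num.uniq i j _ (hp i) (e ▸ hp j))) s (k i hi) (k j hj)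
  rcases a3 with a3 | a3
  · refine fin 4 fun i hi => ?_
    fin_cases i
    exacts [r0, r 1 a1, r 2 a2, r 3 a3, absurd rfl hi]
  · refine fin 3 fun i hi => ?_
    fin_cases i
    exacts [r0, r 1 a1, r 2 a2, absurd rfl hi, r 4 a3]

omit [Finite H] in
theorem ab_nd (N : Num m) (L : L2D T l n d ν) (l2 : l ≠ 2) (ty : TyAB m T ν) :
    ∀ i s, i ≠ 2 → Cl m i s → ¬ s ∣ l ^ n + 1 := fun i s hi hs k => by
  obtain ⟨-, -, -, e1, e2⟩ := L.par.resolve_left fun a => l2 a.1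
  rw [show l ^ n + 1 = 2 * ν by omega] at k
  exact hi (N.uniq i 2 s hs (ty.1 s hs.1 (N.ne_two hs) ((hs.1.dvd_mul.1 k).resolve_left fun a =>
    N.ne_two hs ((Nat.prime_dvd_prime_iff_eq hs.1 Nat.prime_two).1 a))))

end

theorem jobK2L (kA : KitA.{u}) (kB : KitB.{u}) (hF : JobFix.{u}) (hNS : JobNS.{u}) (hT : JobT.{u}) :
    JobK2L.{u} := fun m G H _ _ _ _ ψ A fu nc T T' l n d ν l' n' d' ν' h L L' l2 l2' ty ty' => by
  rcases ty with ty | ty <;> rcases ty' with ty' | ty'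
  · exact same kA kB hF A fu h L L' 2 (ab_nd A.num L l2 ty) (ab_nd A.num L' l2' ty')
  · exact mixed kA kB hF hNS hT A fu nc (two_symm h) L' L l2 ty' ty
  · exact mixed kA kB hF hNS hT A fu nc h L L' l2' ty ty'
  obtain ⟨rfl, rfl, -⟩ := ty
  obtain ⟨rfl, rfl, -⟩ := ty'
  have p : Nat.Prime 19 := by norm_num
  obtain ⟨κ, hκ⟩ := (A.num.prime 19 p (((A.sub.of_surjective A.sj).sub T).om
    (ord_of_prime p (L.card ▸ Dvd.dvd.mul_right (by decide) _)))).resolve_left (by decide)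
  have k : ∀ i s, i ≠ κ → Cl m i s → ¬ s ∣ 37 ^ 1 + 1 := fun i s hi hs k => by
    rcases hs.1.dvd_mul.1 (show s ∣ 2 * 19 from k) with a | a
    · exact A.num.ne_two hs ((Nat.prime_dvd_prime_iff_eq hs.1 Nat.prime_two).1 a)
    · exact hi (A.num.uniq i κ s hs ((Nat.prime_dvd_prime_iff_eq hs.1 p).1 a ▸ hκ))
  exact same kA kB hF A fu h L L' κ k k

end H41.RRK2L
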