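import Cfsg.Agent.H41.SubsecOrth
import Cfsg.Agent.H38.Cover
import Cfsg.Agent.H35.GalB

/-! Block orthogonality relative to a normal subgroup. -/

set_option autoImplicit false
open Cfsg H28 H34 H35 H38
open scoped ComplexConjugate

namespace H41

variable {N G : Type*} [Group N] [Group G] [Fintype N] [Finite G] {p : ℕ} {M : Ideal AlgInt}

theorem blockCoeff_above_of_not_mem (E : NEmb N G) (A : Set (IrrCharacter N)) {g : G}
    (hg : g ∉ E.ι.range) : blockCoeff (E.above A) g = 0 := by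
  rw [← coeff_fC, ← E.push_fC_orb, coeff_push_of_not_mem _ hg]

/-- If `bker B (n x) h = 0` for all `n` in `N`, the same holds for the part of `B` over `A`. -/
theorem bker_above_inter_eq_zero (E : NEmb N G) (A : Set (IrrCharacter N))
    (B : Set (IrrCharacter G)) {x h : G} (hx : ∀ n, bker B (E.ι n * x) h = 0) :
    bker (E.above A ∩ B) x h = 0 := by
  classical
  have := Fintype.ofFinite G
  rw [← blockPart_bker, ← sum_blockCoeff_mul_classFun _ (bker_isClassFunction B h)]
  refine Finset.sum_eq_zero fun k _ => ?_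
  by_cases hk : k ∈ E.ι.range
  · obtain ⟨n, rfl⟩ := hk
    rw [hx, mul_zero]
  · rw [blockCoeff_above_of_not_mem E A hk, zero_mul]

/-- Relative weak block orthogonality. -/
theorem bker_above_inter_eq_zero_of_sing (hM : IsPModular p M) (E : NEmb N G)
    (A : Set (IrrCharacter N)) {B : Set (IrrCharacter G)}
    (hB : ∀ g, MemLocalRing M (blockCoeff B g)) {x h : G} (hx : ∀ n, p ∣ orderOf (E.ι n * x))
    (hh : ¬ p ∣ orderOf h) : bker (E.above A ∩ B) x h = 0 := by
  refine bker_above_inter_eq_zero E A B fun n => ?_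
  rw [← conj_bker, bker, weak_orthogonality_of_coeff_mem hM hB hh (hx n), map_zero]

omit [Fintype N] [Finite G] in
theorem dvd_orderOf_mul_of_not_mem (hp : p.Prime) [Finite G] {K : Subgroup G} [K.Normal] {x : G}
    {k : ℕ} (hx : x ^ p ^ k = 1) (hxK : x ∉ K) {n : G} (hn : n ∈ K) : p ∣ orderOf (n * x) := by
  have h1 : ((n * x : G) : G ⧸ K) = (x : G ⧸ K) := by
    rw [QuotientGroup.mk_mul, (QuotientGroup.eq_one_iff n).2 hn, one_mul]
  have h2 : orderOf (x : G ⧸ K) ∣ orderOf (n * x) := by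
    rw [← h1]; exact orderOf_map_dvd (QuotientGroup.mk' K) (n * x)
  have h3 : orderOf (x : G ⧸ K) ∣ p ^ k := by
    apply orderOf_dvd_of_pow_eq_one
    rw [← QuotientGroup.mk_pow, hx, QuotientGroup.mk_one]
  obtain ⟨j, -, hj⟩ := (Nat.dvd_prime_pow hp).1 h3
  rcases j with _ | j
  · rw [pow_zero, orderOf_eq_one_iff, QuotientGroup.eq_one_iff] at hj
    exact absurd hj hxK
  · exact (dvd_pow_self p (Nat.succ_ne_zero j)).trans (hj ▸ h2)

/-- For a `p`-element outside `N`, the squares of the degrees in `B` over `A` add up to a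
multiple of `p`. -/
theorem dvd_sum_deg_sq_above [M.IsMaximal] [Fintype G] (hM : IsPModular p M) (E : NEmb N G)
    (A : Set (IrrCharacter N)) {B : Set (IrrCharacter G)}
    (hB : ∀ g, MemLocalRing M (blockCoeff B g)) {x : G} {k : ℕ} (hx : x ^ p ^ k = 1)
    (hxN : x ∉ E.ι.range) :
    p ∣ ∑ χ ∈ bF (E.above A ∩ B), charDegree (χ : G → ℂ) ^ 2 := by
  classical
  have hp : p.Prime := hM.1
  have := E.range_normal
  have h1 := bker_above_inter_eq_zero_of_sing hM E A hB (x := x) (h := 1)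
    (fun n => dvd_orderOf_mul_of_not_mem hp hx hxN ⟨n, rfl⟩)
    (by rw [orderOf_one]; exact hp.one_lt.ne' ∘ Nat.dvd_one.1)
  rw [← P_natCast_iff hM]
  have h2 : ((∑ χ ∈ bF (E.above A ∩ B), charDegree (χ : G → ℂ) ^ 2 : ℕ) : ℂ) =
      ∑ χ ∈ bF (E.above A ∩ B), ((χ : G → ℂ) 1 - (χ : G → ℂ) x) * (χ : G → ℂ) 1 := by
    simp only [sub_mul, Finset.sum_sub_distrib]
    have h3 : ∑ χ ∈ bF (E.above A ∩ B), (χ : G → ℂ) x * (χ : G → ℂ) 1 = 0 := by
      rw [← h1, bker_eq_sum, ← Finset.sum_filter]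
      refine Finset.sum_congr (by ext χ; simp [mem_bF]) fun χ _ => ?_
      rw [← coe_deg, Complex.conj_natCast]
    rw [h3, sub_zero]
    push_cast
    exact Finset.sum_congr rfl fun χ _ => by rw [coe_deg, sq]
  rw [h2]
  refine P_sum _ _ fun χ _ => P_mul_right ?_ ?_
  · have := P_char_mul_sub hM χ.2.isCharacter hx (Commute.one_right x)
    rw [mul_one] at this
    exact P_sub_comm.1 this
  · rw [← coe_deg]; exact natCast_mem (S M) _

end H41
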