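/- S1308, tower TE part 2: job KIT. -/
import Cfsg.Agent.H51.TESpec

set_option autoImplicit false

namespace H41.TeKit

open Cfsg Subgroup MulAction H14 H98 H1.Gold H31.S2 H14.GC H14.FE H14.NF H51.TE
open scoped commutatorElement

universe u

theorem job : H51.TE.KIT.{u} := by
  intro G _ _ Q E tg tx ne
  haveI : Fact (Nat.Prime 2) := ⟨Nat.prime_two⟩
  obtain ⟨B, BQ, nB, sB⟩ := tx.bb
  have home : ∀ Q₁ E₁, Pt Q E Q₁ E₁ → ∃ B₁ : Subgroup G, ∀ E', Pt Q E Q₁ E' → IsSyl 2 E' B₁ := by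
    rintro _ _ ⟨g, rfl, rfl⟩
    refine ⟨cj g B, ?_⟩
    rintro _ ⟨k, e, rfl⟩
    have h1 : g⁻¹ * k ∈ nor Q := cj_eq_self_iff.1 (by rw [← cj_cj, ← e, cj_cj, inv_mul_cancel, cj_one])
    have h2 : cj k B = cj g B := by
      rw [← cj_eq_self (nB h1), cj_cj g, mul_inv_cancel_left, cj_eq_self (nB h1)]
    exact h2 ▸ sB.cj k
  have back : ∀ (g : G) (X : Subgroup G), cj g⁻¹ (cj g X) = X := fun g X => by
    rw [cj_cj, inv_mul_cancel, cj_one]
  have back' : ∀ (g : G) (X : Subgroup G), cj g (cj g⁻¹ X) = X := fun g X => by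
    rw [cj_cj, mul_inv_cancel, cj_one]
  refine ⟨tg, ?_, ?_, ?_, fun Q₁ E₁ Q₂ E₂ p1 p2 d hd e he en P hP dP eP => ?_,
    fun Q₁ E₁ E' p1 p2 P hP l d hd dP => ?_⟩
  · rintro _ _ ⟨g, rfl, rfl⟩ R hR el
    have := hR.cj g⁻¹
    rw [back] at this
    refine ne _ this fun a ha => ?_
    have := el _ (mem_cj.1 ha)
    calc a * a = g⁻¹ * (g⁻¹⁻¹ * a * g⁻¹ * (g⁻¹⁻¹ * a * g⁻¹)) * g := by group
      _ = 1 := by rw [this]; group
  · rintro _ _ ⟨g, rfl, rfl⟩ U hU U2 l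
    have := tx.zc (cj g⁻¹ U) ((cj_mono _ hU).trans (back g Q).le) (isPGroup_cj _ U2)
      ((back g E).ge.trans (cj_mono _ l))
    rw [cen_cj]
    exact (back' g U).ge.trans (cj_mono _ this)
  · rintro _ _ Q₂ E₂ ⟨g, rfl, rfl⟩ p2 n c nc x hx t ht P hP xP tP
    have := tx.pp (cj g⁻¹ Q₂) (cj g⁻¹ E₂) (pt_cj p2 _) (fun e => n (by rw [e, back']))
      (by rw [cen_cj] at c; exact (cj_mono _ c).trans (back g _).le)
      (fun k => nc (by have := col_cj k g; rwa [back', back'] at this))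
      _ (mem_cj.1 hx) (g⁻¹ * t * g) (by simpa using conj_mem_cj (g := g⁻¹) ht) (cj g⁻¹ P)
      (isPGroup_cj _ hP) (by simpa using conj_mem_cj (g := g⁻¹) xP)
      (by simpa using conj_mem_cj (g := g⁻¹) tP)
    calc x * t = g * (g⁻¹ * x * g * (g⁻¹ * t * g)) * g⁻¹ := by group
      _ = t * x := by rw [this]; group
  · by_cases c : Q₁ = Q₂
    · subst c
      obtain ⟨B₁, hB⟩ := home _ _ p1
      obtain ⟨g, -, hg⟩ := (hB _ p1).exists_le_cj (Q := P ⊓ B₁) (hP.to_le inf_le_left) inf_le_right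
      exact H51.TE.El.comm (pt_el tg (pt_cj p1 g)) (hg ⟨dP, (hB _ p1).le hd⟩)
        (hg ⟨eP, (hB _ p2).le he⟩)
    · by_cases e1 : e = 1
      · simp [e1]
      exact commutatorElement_eq_one_iff_mul_comm.1 ((pt_ti tg p1 p2 c).eq_one hP (comm_mem dP eP)
        ⟨comm_mem_left (pt_le tg p1 hd) en,
          comm_mem_right (tg.mn _ _ _ _ p2 p1 e he e1 en hd) (pt_le tg p2 he)⟩)
  · obtain ⟨B₁, hB⟩ := home _ _ p1
    have := (hB _ p1).eq_of_le (Q := P ⊓ B₁) (hP.to_le inf_le_left) (le_inf l (hB _ p1).le)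
      inf_le_right
    exact this.le ⟨dP, (hB _ p2).le hd⟩

end H41.TeKit
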