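/- S3275, chapter U2F: job L1. -/
import Cfsg.Agent.H57.U2CSpec

set_option autoImplicit false

namespace H41.UcL1

open Subgroup Cfsg H98 H96 H97 H48.DP H57.DPC H48.DP2 H96.U2I H57.U2C
open scoped commutatorElement

universe u

theorem not_cyc {G : Type u} [Group G] [Finite G] {F : Subgroup G} (h : H96.U2I.E27 F) :
    ¬ IsCyclic F := fun c => by
  obtain ⟨B, BF, e, k⟩ := h
  have : IsCyclic B := isCyclic_of_le BF
  obtain ⟨g, hg⟩ := IsCyclic.exists_ofOrder_eq_natCard (α := B)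
  have : orderOf g ∣ 3 := orderOf_dvd_of_pow_eq_one (Subtype.ext (e.2 g g.2))
  have := Nat.le_of_dvd (by norm_num) this
  omega

theorem l1 : H57.U2C.L1.{u} := by
  intro G _ _ M Q T R Q₀ F y t h
  have y3 : y ^ 3 = 1 := h.y3 ▸ pow_orderOf_eq_one y
  have A : ∀ X : Subgroup G, X ≤ Q → T ≤ No X → (∀ d ∈ cj y (X ⊓ R), d * d ∈ Q₀) → X ≤ R := by
    intro X XQ TX sq q hq
    by_contra qR
    refine h.el Q₀ F h.QQ h.kq h.FM (not_cyc h.e27) fun d hd => ?_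
    have qT := h.QT (XQ hq)
    obtain ⟨bQ, bR⟩ := mem_inf.1 (mem_cj.1 hd)
    obtain ⟨b, rfl⟩ : ∃ b, d = y * b * y⁻¹ := ⟨y⁻¹ * d * y, by group⟩
    rw [show y⁻¹ * (y * b * y⁻¹) * y = b by group] at bQ bR
    have b' : y⁻¹ * b * y ∈ R := conj_mem_of_mem_normalizer' h.yR bR
    have c : q⁻¹ * (y⁻¹ * b * y) * q * (y⁻¹ * b * y)⁻¹ ∈ X ⊓ R := mem_inf.2 ⟨by
      have := mul_mem (inv_mem hq) (conj_mem_of_mem_normalizer (TX (h.RT b')) hq)
      simpa only [mul_assoc] using this,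
      mul_mem (conj_mem_of_mem_normalizer' (h.TR qT) b') (inv_mem b')⟩
    generalize hc : q⁻¹ * (y⁻¹ * b * y) * q * (y⁻¹ * b * y)⁻¹ = c0 at c
    have x2 := sq (y * c0 * y⁻¹) (mem_cj.2 (by simpa [mul_assoc] using c))
    have xT : y * c0 * y⁻¹ ∈ T := h.RT (conj_mem_of_mem_normalizer h.yR c.2)
    have gT : (q * y * q⁻¹ * y)⁻¹ * q ∈ T := mul_mem (inv_mem (h.RT (h.inv q qT qR))) qT
    have e : y * b * y⁻¹ = (q * y * q⁻¹ * y)⁻¹ * q * (y * c0 * y⁻¹ * b) *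
        ((q * y * q⁻¹ * y)⁻¹ * q)⁻¹ := by
      have : y = y⁻¹ * y⁻¹ := by
        rw [← mul_inv_rev, eq_inv_iff_mul_eq_one, ← y3, pow_succ', pow_two]
      rw [← hc]
      calc y * b * y⁻¹ = (y⁻¹ * y⁻¹) * b * (y⁻¹ * y⁻¹)⁻¹ := by rw [← this]
        _ = _ := by simp only [mul_inv_rev, inv_inv, mul_assoc, inv_mul_cancel_left, mul_inv_cancel_left, inv_mul_cancel, mul_one]
    generalize (q * y * q⁻¹ * y)⁻¹ * q = g at gT e
    generalize y * c0 * y⁻¹ = x at x2 xT e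
    have := conj_mem_of_mem_normalizer (h.kq.TQ gT) (mul_mem (mul_mem x2
      (conj_mem_of_mem_normalizer' (h.kq.TQ xT) (h.QQ bQ))) (h.QQ bQ))
    rw [e]
    convert this using 1
    group
  have V : ncl M (oZ 2 T) ≤ Yq Q := ncl_le_iff.2 fun g hg z hz => by
    obtain ⟨a, b, c⟩ := mem_oZ.1 (mem_cj.1 hz)
    have k : g⁻¹ * z * g ∈ Ce Q := centralizer_le h.QT b
    have := Yq_conj (h.MQ hg) (mem_Yq.2 ⟨h.cq k, k, by rw [← pow_two]; exact c⟩)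
    simpa [mul_assoc] using this
  have VQ : ncl M (oZ 2 T) ≤ Q := fun z hz => (V hz).1
  have VC : ncl M (oZ 2 T) ≤ Ce Q := fun z hz => (V hz).2.1
  refine ⟨A, ⟨⟨⟨fun a b => Subtype.ext (mem_centralizer_iff.1 (VC b.2) a (VQ a.2))⟩⟩,
    fun z hz => by rw [pow_two]; exact (V hz).2.2⟩, VQ, VC,
    A _ VQ (h.TM.trans (le_normalizer_ncl _ _)) fun d hd => ?_⟩
  have := (V (mem_cj.1 hd).1).2.2
  have e : d * d = y * (y⁻¹ * d * y * (y⁻¹ * d * y)) * y⁻¹ := by group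
  rw [e, this]
  simp

end H41.UcL1
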