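/- Tower WU (S4793): slots WZ, Key. -/
import Cfsg.Agent.H53.WUKit

set_option autoImplicit false
set_option linter.unusedSectionVars false
set_option linter.unusedSimpArgs false
set_option linter.unusedVariables false

namespace H41.WU

open Cfsg H28 H59 Module H53.WU H53.WU.HS

theorem sum_split {G : Type} [Group G] [Finite G] {K H : Subgroup G} (hle : K ≤ H) {f : G → ℂ} {c : ℂ}
    (hc : ∀ x ∈ H, x ∉ K → f x = c) :
    ∑ᶠ x : H, f x = ∑ᶠ x : K, f x + ((Nat.card H : ℂ) - Nat.card K) * c := by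
  classical
  have := Fintype.ofFinite G
  have key : ∀ L : Subgroup G, ∑ᶠ x : L, f x - (Nat.card L : ℂ) * c =
      ∑ x ∈ Finset.univ.filter (· ∈ L), (f x - c) := fun L => by
    rw [Finset.sum_subtype (p := (· ∈ L)) _ (by simp), finsum_eq_sum_of_fintype, Finset.sum_sub_distrib,
      Finset.sum_const, Finset.card_univ, nsmul_eq_mul, Nat.card_eq_fintype_card]
  have e : ∑ x ∈ Finset.univ.filter (· ∈ K), (f x - c) = ∑ x ∈ Finset.univ.filter (· ∈ H), (f x - c) :=
    Finset.sum_subset (fun x hx => by simpa using hle (by simpa using hx)) fun x hx hx' => by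
      rw [hc x (by simpa using hx) (by simpa using hx'), sub_self]
  linear_combination key H - key K - e

variable {S : HS}

theorem zt_one (S : HS) : S.zt 1 = (S.q : ℂ) ^ S.n := by
  have : ((1 : S.V ≃ₗ[S.F] S.V) : Module.End S.F S.V) - 1 = 0 := sub_self _
  rw [zt, this, LinearMap.ker_zero, finrank_top, ← mul_pow]
  simp

theorem zt_of {g : S.V ≃ₗ[S.F] S.V} {U : Submodule S.F S.V} {k : ℕ} (hU : finrank S.F U = k)
    (h : ∀ x, g x = x ↔ x ∈ perp S.B U) : S.zt g = (-1) ^ k * (S.q : ℂ) ^ (S.n - k) := by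
  have e : LinearMap.ker ((g : Module.End S.F S.V) - 1) = perp S.B U := by
    ext x; rw [← h, LinearMap.mem_ker, LinearMap.sub_apply, sub_eq_zero]; rfl
  have h1 := S.h.finrank_add_finrank_perp U
  rw [zt, e, show S.n = k + finrank S.F (perp S.B U) by simp only [HS.n]; omega, Nat.add_sub_cancel_left, pow_add,
    mul_assoc, ← mul_pow]
  simp

theorem zt_Z {e : S.V} (he : S.Iso e) {t : S.G} (ht : t ∈ S.Zs e) (h1 : t ≠ 1) :
    S.zt t.1 = -(S.q : ℂ) ^ (S.n - 1) := by
  obtain ⟨-, c, hc⟩ := ht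
  replace hc : ∀ x, t.1 x = x + (c * S.B e x) • e := hc
  have c0 : c ≠ 0 := fun h => h1 (Subtype.ext (LinearEquiv.ext fun x => by simp [hc, h]))
  rw [zt_of (finrank_span_singleton he.1) fun x => by simp [hc, mem_perp_singleton, c0, he.1]]
  simp

theorem zt_Q {e : S.V} (he : S.Iso e) {u : S.G} (hu : u ∈ S.Qs e) (h1 : u ∉ S.Zs e) :
    S.zt u.1 = (S.q : ℂ) ^ (S.n - 2) := by
  obtain ⟨f, H⟩ := he.exists_hyp
  have hy : (H.cu u.1 : S.V) ≠ 0 := fun h => h1 ((H.mem_axisGrp_iff hu).2 (Subtype.ext h))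
  have ind : ∀ s t : S.F, s • e + t • (H.cu u.1 : S.V) = 0 → s = 0 ∧ t = 0 := fun s t h => by
    have h2 := congrArg (S.B f) h
    simp only [map_add, map_smul, H.fe, IsHyp.fw, smul_eq_mul, mul_one, mul_zero, add_zero, map_zero] at h2
    subst h2
    exact ⟨rfl, by simpa [hy] using h⟩
  have hU : finrank S.F (Submodule.span S.F {e, (H.cu u.1 : S.V)}) = 2 := by
    have := finrank_span_eq_card (LinearIndependent.pair_iff.2 ind)
    rwa [Matrix.range_cons_cons_empty] at this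
  rw [zt_of hU fun x => ?_]
  · simp
  · rw [mem_perp_pair, H.apply_eq (g := u.1) hu x]
    refine ⟨fun h => ?_, fun h => by simp [h.1, h.2]⟩
    obtain ⟨a, b⟩ := ind (S.B (H.cu u.1) x - H.ca u.1 * S.B e x) (-S.B e x) (by linear_combination (norm := module) h)
    rw [neg_eq_zero] at b
    exact ⟨b, by simpa [b] using a⟩

theorem W_zt (h : 2 ≤ S.n) : S.W fun g => S.zt g.1 := fun e he => by
  obtain ⟨m, hm⟩ : ∃ m, S.n = m + 2 := ⟨S.n - 2, by omega⟩
  have q0 : (S.q : ℂ) ≠ 0 := Nat.cast_ne_zero.2 (by have := S.two_le_q; omega)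
  have a : ∑ᶠ x : S.Zs e, S.zt x.1.1 = (S.q : ℂ) * S.q ^ (S.n - 2) := by
    rw [sum_split (K := ⊥) bot_le (f := fun g : S.G => S.zt g.1) fun x hx h1 => zt_Z he hx h1, card_Zs he,
      finsum_unique, Subgroup.card_bot]
    change S.zt 1 + _ = _
    rw [zt_one, hm]
    simp only [Nat.add_sub_cancel, show m + 2 - 1 = m + 1 from rfl, Nat.cast_one]
    ring
  have b := sum_split (Zs_le_Qs he) (f := fun g : S.G => S.zt g.1) fun x hx h1 => zt_Q he hx h1
  rw [av, av, b, a, card_Zs he, inv_mul_cancel_left₀ q0, eq_inv_mul_iff_mul_eq₀ (card_ne_zero' _)]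
  ring

theorem jobWZ (za : JobZa) : JobWZ := fun S hS a => by
  classical
  obtain ⟨h1, -, -, -, h5⟩ := za S hS
  have := Fintype.ofFinite (S.μ →* ℂˣ)
  refine W_of_add (h1 a).isCharacter (isCharacter_sum (Finset.univ.erase a) fun b _ => (h1 b).isCharacter) ?_
  rw [Finset.add_sum_erase _ _ (Finset.mem_univ a)]
  convert W_zt (S := S) (by have := hS.2.1; omega) using 1
  ext g
  rw [← h5, finsum_eq_sum_of_fintype, Finset.sum_apply]

section Key
variable {G : Type} [Group G] [Finite G]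

theorem ex_map {M T : Type} [AddCommGroup M] [Module ℂ M] [FiniteDimensional ℂ M] [AddCommGroup T] [Module ℂ T]
    [FiniteDimensional ℂ T] {P : Subgroup G} (ρ : Representation ℂ G M) (τ : Representation ℂ P T)
    [τ.IsIrreducible] (h : Con P ρ.character τ.character) :
    ∃ φ : T →ₗ[ℂ] M, Function.Injective φ ∧ ∀ (p : P) s, φ (τ p s) = ρ p (φ s) := by
  have := Fintype.ofFinite P
  obtain ⟨η, hη, e⟩ := h
  obtain ⟨m, hm⟩ := hη.classInner_nat (isCharacter_rep τ)
  have e1 := classInner_rep τ (ρ.comp P.subtype)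
  rw [show Representation.character (ρ.comp P.subtype) = τ.character + η from funext e, classInner_add_left,
    (isIrrCharacter_rep τ).classInner_self, hm] at e1
  have : 0 < finrank ℂ (Representation.IntertwiningMap τ (ρ.comp P.subtype)) := by
    have : 1 + m = finrank ℂ (Representation.IntertwiningMap τ (ρ.comp P.subtype)) := by exact_mod_cast e1
    omega
  obtain ⟨f, hf⟩ := finrank_pos_iff_exists_ne_zero.1 this
  exact ⟨f.toLinearMap, (Representation.IsIrreducible.injective_or_eq_zero f).resolve_right hf,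
    fun p s => DFunLike.congr_fun (f.isIntertwining' p) s⟩

theorem char_eq_of_inj {M X : Type} [AddCommGroup M] [Module ℂ M] [FiniteDimensional ℂ M] [AddCommGroup X]
    [Module ℂ X] [FiniteDimensional ℂ X] [Nontrivial X] (π : Representation ℂ G X) (ρ : Representation ℂ G M)
    [hρ : ρ.IsIrreducible] (f : X →ₗ[ℂ] M) (hf : Function.Injective f) (h : ∀ g x, f (π g x) = ρ g (f x)) :
    π.character = ρ.character := by
  have hs : LinearMap.range f = ⊤ := by
    refine (((isIrreducible_iff_submodule ρ).1 hρ).2 _ ?_).resolve_left fun h0 => ?_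
    · rintro g _ ⟨x, rfl⟩
      exact ⟨_, h g x⟩
    · obtain ⟨x, hx⟩ := exists_ne (0 : X)
      exact hx (hf (by rw [LinearMap.range_eq_bot.1 h0]; rfl))
  exact Representation.char_iso (Representation.Equiv.mk (LinearEquiv.ofBijective f ⟨hf, LinearMap.range_eq_top.1 hs⟩)
    fun g => LinearMap.ext fun x => h g x)

end Key

theorem jobKey (sp : JobSp) : JobKey := by
  rintro S e h4 he _ _ _ ⟨n, ρ, hρ, rfl⟩ ⟨n', ρ', hρ', rfl⟩ hW hW' ⟨k, τ, hτ, rfl⟩ hc hc' ⟨z, hz, hz1⟩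
  rw [W_iff] at hW hW'
  obtain ⟨φ, iφ, eφ⟩ := ex_map ρ τ hc
  obtain ⟨φ', iφ', eφ'⟩ := ex_map ρ' τ hc'
  obtain ⟨nt, irr⟩ := (isIrreducible_iff_submodule τ).1 hτ
  have nf : ∀ s, (∀ t : S.Ps e, t.1 ∈ S.Zs e → τ t s = s) → s = 0 := by
    have := (irr (fx τ ((S.Zs e).subgroupOf (S.Ps e))) fun p v hv => mem_fx.2 fun t ht => by
      have h1 := mem_fx.1 hv (p⁻¹ * t * p⁻¹⁻¹) (conj_Zs_of_Ps (p⁻¹).2 ht)
      conv_rhs => rw [← h1]
      rw [← Module.End.mul_apply, ← Module.End.mul_apply, ← map_mul, ← map_mul]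
      congr 2; group).resolve_right fun h => hz1 (by
        have : τ z = 1 := LinearMap.ext fun v => mem_fx.1 (h.ge Submodule.mem_top) z hz
        rw [Representation.character, Representation.character, this, τ.map_one])
    exact fun s hs => (Submodule.mem_bot ℂ).1 (this.le (mem_fx.2 hs))
  have ZP : ∀ t ∈ S.Zs e, t ∈ S.Ps e := fun t ht => Rs_le_Ps e (Qs_le_Rs e (Zs_le_Qs he ht))
  have nφ : ∀ s, (∀ t ∈ S.Zs e, ρ t (φ s) = φ s) → s = 0 := fun s hs => nf s fun t ht => iφ (by rw [eφ, hs _ ht])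
  have nφ' : ∀ s, (∀ t ∈ S.Zs e, ρ' t (φ' s) = φ' s) → s = 0 := fun s hs =>
    nf s fun t ht => iφ' (by rw [eφ', hs _ ht])
  let π := ρ.prod ρ'
  have πa : ∀ g m, π g m = (ρ g m.1, ρ' g m.2) := fun _ _ => rfl
  let Y := LinearMap.range (φ.prod φ')
  have hsp := sp S e h4 he _ π (fun x hx m hm u hu => Prod.ext
      (hW x hx m.1 (fun t ht => congrArg Prod.fst (hm t ht)) u hu)
      (hW' x hx m.2 (fun t ht => congrArg Prod.snd (hm t ht)) u hu)) Y
    (by rintro p hp _ ⟨s, rfl⟩; exact ⟨τ ⟨p, hp⟩ s, Prod.ext (eφ _ _) (eφ' _ _)⟩)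
    (by rintro _ ⟨s, rfl⟩ hs; rw [nφ s fun t ht => congrArg Prod.fst (hs t ht), map_zero])
  let L := Y ⊔ fx π (S.Zs e)
  let N : Submodule ℂ ((Fin n → ℂ) × (Fin n' → ℂ)) := ⨅ g : S.G, L.comap (π g)
  have mN : ∀ {m}, m ∈ N ↔ ∀ g, π g m ∈ L := by simp [N, Submodule.mem_iInf]
  have iN : ∀ g, ∀ m ∈ N, π g m ∈ N := fun g m hm => mN.2 fun g' => by
    rw [← Module.End.mul_apply, ← map_mul]; exact mN.1 hm _
  have YN : Y ≤ N := fun y hy => mN.2 fun g => by
    obtain ⟨y', h1, h2⟩ := hsp g y hy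
    exact Submodule.mem_sup.2 ⟨y', h1, _, mem_fx.2 h2, add_sub_cancel _ _⟩
  have NL : ∀ m ∈ N, ∃ s, ∀ t ∈ S.Zs e, ρ t (m.1 - φ s) = m.1 - φ s ∧ ρ' t (m.2 - φ' s) = m.2 - φ' s := fun m hm => by
    have := mN.1 hm 1
    rw [map_one, Module.End.one_apply] at this
    obtain ⟨_, ⟨s, rfl⟩, w, hw, rfl⟩ := Submodule.mem_sup.1 this
    exact ⟨s, fun t ht => by simpa [Prod.ext_iff, πa] using mem_fx.1 hw t ht⟩
  obtain ⟨s0, hs0⟩ := exists_ne (0 : Fin k → ℂ)
  have A : N.comap (LinearMap.inl ℂ _ _) = ⊥ := by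
    refine (((isIrreducible_iff_submodule ρ).1 hρ).2 _ fun g v hv => ?_).resolve_right fun h => hs0 ?_
    · simpa [πa] using iN g _ hv
    · obtain ⟨s, hs⟩ := NL _ (h.ge (Submodule.mem_top (x := φ s0)))
      obtain rfl := nφ' s fun t ht => by simpa using (hs t ht).2
      exact nφ _ fun t ht => by simpa using (hs t ht).1
  have A' : N.comap (LinearMap.inr ℂ _ _) = ⊥ := by
    refine (((isIrreducible_iff_submodule ρ').1 hρ').2 _ fun g v hv => ?_).resolve_right fun h => hs0 ?_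
    · simpa [πa] using iN g _ hv
    · obtain ⟨s, hs⟩ := NL _ (h.ge (Submodule.mem_top (x := φ' s0)))
      obtain rfl := nφ s fun t ht => by simpa using (hs t ht).1
      exact nφ' _ fun t ht => by simpa using (hs t ht).2
  let U : Subrepresentation π := ⟨N, fun g m hm => iN g m hm⟩
  have : Nontrivial U.toSubmodule := ⟨⟨_, YN ⟨s0, rfl⟩⟩, 0, fun h =>
    hs0 (iφ ((congrArg (fun x : U.toSubmodule => x.1.1) h).trans φ.map_zero.symm))⟩
  rw [← char_eq_of_inj U.toRepresentation ρ (LinearMap.fst ℂ _ _ ∘ₗ N.subtype) ?_ fun _ _ => rfl,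
    ← char_eq_of_inj U.toRepresentation ρ' (LinearMap.snd ℂ _ _ ∘ₗ N.subtype) ?_ fun _ _ => rfl]
  · refine (injective_iff_map_eq_zero _).2 fun ⟨⟨a, b⟩, hm⟩ h => ?_
    obtain rfl : b = 0 := h
    obtain rfl : a = 0 := A.le hm
    rfl
  · refine (injective_iff_map_eq_zero _).2 fun ⟨⟨a, b⟩, hm⟩ h => ?_
    obtain rfl : a = 0 := h
    obtain rfl : b = 0 := A'.le hm
    rfl

end H41.WU
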