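/- Tower WU (S4793): slot Bd. -/
import Cfsg.Agent.H53.WUKit
import Cfsg.Agent.H32.Clifford

set_option autoImplicit false
set_option linter.unusedSectionVars false
set_option linter.unusedSimpArgs false
set_option linter.unusedVariables false

namespace H41.WU

open Cfsg H28 H32 H33 H59 Module H53.WU H53.WU.HS

section Gen
variable {H : Type} [Group H] [Finite H]

theorem ex_con {χ : H → ℂ} (h : IsCharacter H χ) (L : (H → ℂ) →+ ℂ) (hL : L χ ≠ 0) :
    ∃ θ χ', IsIrrCharacter H θ ∧ IsCharacter H χ' ∧ χ = θ + χ' ∧ L θ ≠ 0 := by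
  revert hL
  refine h.induction (P := fun χ => L χ ≠ 0 →
    ∃ θ χ', IsIrrCharacter H θ ∧ IsCharacter H χ' ∧ χ = θ + χ' ∧ L θ ≠ 0) (fun h => (h L.map_zero).elim)
    fun φ θ hφ hθ ih hL => ?_
  by_cases h0 : L φ = 0
  · obtain ⟨a, b, ha, hb, rfl, hl⟩ := ih (by rwa [map_add, h0, zero_add] at hL)
    exact ⟨a, φ + b, ha, hφ.isCharacter.add hb, by abel, hl⟩
  · exact ⟨φ, θ, hφ, hθ, rfl, h0⟩

theorem card_le_norm [Fintype H] {α : Type} (s : Finset α) (σ : α → H → ℂ) (hi : Set.InjOn σ s) {θ : H → ℂ}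
    (hθ : IsCharacter H θ) (h : ∀ a ∈ s, IsIrrCharacter H (σ a) ∧ classInner θ (σ a) ≠ 0) {m : ℕ}
    (hm : classInner θ θ = m) : s.card ≤ m := by
  classical
  obtain ⟨a, ha, e⟩ := hθ.exists_nat_coeffs
  have e2 : m = ∑ ψ, a ψ * a ψ := by
    rw [e, classInner_sum_irr] at hm
    simp only [map_natCast] at hm
    exact_mod_cast hm.symm
  calc s.card ≤ ((Finset.univ.filter fun ψ => a ψ ≠ 0).image Subtype.val).card :=
        Finset.card_le_card_of_injOn σ (fun x hx => Finset.mem_coe.2 (Finset.mem_image.2 ⟨⟨_, (h x hx).1⟩,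
          Finset.mem_filter.2 ⟨Finset.mem_univ _, fun h0 => (h x hx).2 (by rw [ha ⟨_, (h x hx).1⟩, h0]; simp)⟩,
          rfl⟩)) hi
    _ ≤ (Finset.univ.filter fun ψ => a ψ ≠ 0).card := Finset.card_image_le
    _ ≤ m := by
      rw [e2, Finset.card_filter]
      refine Finset.sum_le_sum fun ψ _ => ?_
      split_ifs with h0
      · exact Nat.one_le_iff_ne_zero.2 (mul_ne_zero h0 h0)
      · exact Nat.zero_le _

variable {A : Type} [Group A] [Fintype A]

/-- the multiplicity of `ψ` in the restriction along `f` -/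
noncomputable def Lf (f : A →* H) (ψ : A →* ℂˣ) : (H → ℂ) →+ ℂ where
  toFun θ := ∑ a, (ψ a⁻¹ : ℂ) * θ (f a)
  map_zero' := by simp
  map_add' a b := by simp [mul_add, Finset.sum_add_distrib]

theorem Lf_apply (f : A →* H) (ψ : A →* ℂˣ) (θ : H → ℂ) : Lf f ψ θ = ∑ a, (ψ a⁻¹ : ℂ) * θ (f a) := rfl

theorem sum_inv_zero {ψ : A →* ℂˣ} (h : ψ ≠ 1) : ∑ a, (ψ a⁻¹ : ℂ) = 0 := by
  rw [← sum_char_eq_zero h]
  exact Equiv.sum_comp (Equiv.inv A) fun a => (ψ a : ℂ)

theorem Lf_const (f : A →* H) {ψ : A →* ℂˣ} (h : ψ ≠ 1) {θ : H → ℂ} {c : ℂ} (hc : ∀ a, a ≠ 1 → θ (f a) = c) :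
    Lf f ψ θ = θ 1 - c := by
  have : ∑ a, (ψ a⁻¹ : ℂ) * (θ (f a) - c) = θ 1 - c := by
    rw [Finset.sum_eq_single 1 (fun a _ ha => by rw [hc a ha, sub_self, mul_zero]) (by simp)]
    simp
  rw [← this, Lf_apply]
  simp only [mul_sub, Finset.sum_sub_distrib, ← Finset.sum_mul, sum_inv_zero h, zero_mul, sub_zero]

theorem over_of_central (f : A →* H) (hc : ∀ a g, g * f a = f a * g) {ψ : A →* ℂˣ} {η : H → ℂ}
    (hη : IsIrrCharacter H η) (h : Lf f ψ η ≠ 0) (a : A) : η (f a) = ψ a * η 1 := by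
  obtain ⟨n, τ, hτ, rfl⟩ := hη
  have h1 := card_mul_finrank_eigSub (τ.comp f) ψ
  have h2 : eigSub (τ.comp f) ψ = ⊤ := by
    refine (((isIrreducible_iff_submodule τ).1 hτ).2 (eigSub (τ.comp f) ψ)
      fun g v hv => mem_eigSub.2 fun b => ?_).resolve_left fun h0 => h ?_
    · change τ (f b) (τ g v) = _
      rw [← Module.End.mul_apply, ← map_mul, ← hc, map_mul, Module.End.mul_apply, ← map_smul]
      exact congrArg _ (hv b)
    · rw [h0, finrank_bot, Nat.cast_zero, mul_zero] at h1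
      exact h1.symm
  have : τ (f a) = (ψ a : ℂ) • τ 1 := LinearMap.ext fun v => by
    rw [τ.map_one]; exact mem_eigSub.1 (h2.ge Submodule.mem_top) a
  rw [Representation.character, this, map_smul]; rfl

end Gen

variable {S : HS} {e : S.V}

/-- the eigenvalue on `e` -/
noncomputable def eig (he : S.Iso e) : S.Ps e →* S.Fˣ :=
  MonoidHom.mk' (fun p => p.2.choose) fun p r => Units.ext (smul_left_injective S.F he.1 (by
    have a := p.2.choose_spec
    have b := r.2.choose_spec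
    change _ • e = _ • e
    rw [← (p * r).2.choose_spec, Units.val_mul, mul_comm, mul_smul, ← a, ← map_smul, ← b]
    rfl))

theorem eig_spec (he : S.Iso e) (p : S.Ps e) : p.1.1 e = (eig he p : S.F) • e := p.2.choose_spec

theorem ker_eig (he : S.Iso e) : (eig he).ker = (S.Rs e).subgroupOf (S.Ps e) := by
  ext p
  rw [MonoidHom.mem_ker, Subgroup.mem_subgroupOf, mem_Rs, eig_spec he]
  exact ⟨fun h => by rw [h]; simp, fun h => Units.ext (smul_left_injective S.F he.1 (h.trans (one_smul _ _).symm))⟩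

theorem conj_tv (he : S.Iso e) (p : S.Ps e) (c c' : Multiplicative (tz (frob S.hF)))
    (h : c'.toAdd.1 = frob S.hF (eig he p) * eig he p * c.toAdd.1) :
    p.1 * S.h.tvHom he.2 c * p.1⁻¹ = S.h.tvHom he.2 c' := by
  rw [mul_inv_eq_iff_eq_mul]
  refine Subtype.ext (LinearEquiv.ext fun x => ?_)
  change p.1.1 ((S.h.tvHom he.2 c).1 x) = (S.h.tvHom he.2 c').1 (p.1.1 x)
  have k := p.1.2.1 e x
  rw [eig_spec he, form_smul_left] at k
  rw [S.h.tvHom_apply, S.h.tvHom_apply, map_add, map_smul, eig_spec he, smul_smul, h, ← k]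
  congr 2; ring

theorem jobBd (key : JobKey) (hom : JobHom) : JobBd := by
  intro S hS h4 s hs
  classical
  obtain ⟨e, he⟩ := exists_iso (S := S) (by omega)
  let A := Multiplicative (tz (frob S.hF))
  have : Fintype A := Fintype.ofFinite _
  have : Nontrivial A := Finite.one_lt_card_iff_nontrivial.1 (by
    change 1 < Nat.card (tz (frob S.hF))
    rw [S.card_tz]; exact S.two_le_q)
  obtain ⟨ψ, hψ⟩ := exists_char_ne_one (A := A)
  let tv : A →* S.G := S.h.tvHom he.2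
  have tZ : ∀ a, tv a ∈ S.Zs e := S.h.tvHom_mem he.2
  have tR : ∀ a, tv a ∈ S.Rs e := fun a => Qs_le_Rs e (Zs_le_Qs he (tZ a))
  let tr : A →* S.Rs e := tv.codRestrict _ tR
  let tp : A →* S.Ps e := tv.codRestrict _ fun a => Rs_le_Ps e (tR a)
  let ι : S.Rs e →* S.Ps e := Subgroup.inclusion (Rs_le_Ps e)
  have ex : ∀ χ ∈ s, ∃ (σ : S.Ps e → ℂ) (η : S.Rs e → ℂ), IsIrrCharacter _ σ ∧ IsIrrCharacter _ η ∧
      Con _ χ σ ∧ Con _ χ η ∧ (∃ η', IsCharacter _ η' ∧ (fun x => σ (ι x)) = η + η') ∧ Lf tp ψ σ ≠ 0 ∧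
      ∀ a, η (tr a) = ψ a * η 1 := fun χ hχ => by
    obtain ⟨h1, -, h3⟩ := hs χ hχ
    obtain ⟨t, ht, hne⟩ := nontriv hS h1 h3 he
    have t1 : t ≠ 1 := fun h => hne (by rw [h])
    have L0 : Lf tv ψ χ ≠ 0 := by
      rw [Lf_const tv hψ (c := χ t) fun a ha => ?_]
      · exact sub_ne_zero.2 hne.symm
      · obtain ⟨n, ρ, -, rfl⟩ := h1
        exact S.h.charConst hS.2.1 ρ e he.2 _ _ (tZ a) ht
          (fun h => ha (S.h.tvHom_injective he.1 he.2 (h.trans (map_one _).symm))) t1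
    obtain ⟨σ, σ', a1, a2, a3, a4⟩ := ex_con (h1.isCharacter.restrict (S.Ps e)) (Lf tp ψ) L0
    obtain ⟨η, η', b1, b2, b3, b4⟩ := ex_con (a1.isCharacter.comp ι) (Lf tr ψ) a4
    refine ⟨σ, η, a1, b1, ⟨σ', a2, congrFun a3⟩, ⟨η' + fun x => σ' (ι x), b2.add (a2.comp ι), fun x => ?_⟩,
      ⟨η', b2, b3⟩, a4, over_of_central tr (fun a g => Subtype.ext (comm_Zs g.2 (tZ a))) b1 b4⟩
    rw [Pi.add_apply, ← add_assoc, ← Pi.add_apply η, ← b3]
    exact congrFun a3 (ι x)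
  choose! σ η h1 h2 h3 h4' h5 h6 h7 using ex
  rcases s.eq_empty_or_nonempty with rfl | ⟨χ0, h0⟩
  · simp
  obtain ⟨a0, ha0⟩ : ∃ a, ψ a ≠ 1 := by
    by_contra! h
    exact hψ (MonoidHom.ext h)
  have same : ∀ χ ∈ s, η χ = η χ0 := fun χ hχ => by
    refine hom S e he χ χ0 _ _ (hs χ hχ).1.isCharacter (hs χ0 h0).1.isCharacter (hs χ hχ).2.1 (hs χ0 h0).2.1
      (h2 χ hχ) (h2 χ0 h0) (h4' χ hχ) (h4' χ0 h0) (fun z hz => ?_) ⟨tr a0, tZ a0, fun h => ha0 ?_⟩
    · obtain ⟨a, ha⟩ := S.h.exists_tvHom_eq he.2 hz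
      rw [show z = tr a from Subtype.ext ha.symm, h7 χ hχ, h7 χ0 h0]
      ring
    · rw [h7 χ hχ] at h
      exact Units.ext ((mul_eq_right₀ (h2 χ hχ).apply_one_ne_zero).1 h)
  let N := (S.Rs e).subgroupOf (S.Ps e)
  have nN : N.Normal := by
    change ((S.Rs e).subgroupOf (S.Ps e)).Normal
    rw [← ker_eig he]; exact (eig he).normal_ker
  let j : N ≃* S.Rs e := Subgroup.subgroupOfEquivOfLe (Rs_le_Ps e)
  let θ : N → ℂ := fun x => η χ0 (j x)
  have hθ : IsIrrCharacter N θ := (h2 χ0 h0).comp_mulEquiv j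
  have : Fintype (S.Ps e) := Fintype.ofFinite _
  have : Fintype N := Fintype.ofFinite _
  refine (card_le_norm s σ (fun χ hχ χ' hχ' h => ?_) (isCharacter_indFun N hθ.isCharacter)
    (fun χ hχ => ⟨h1 χ hχ, ?_⟩) (classInner_indFun_self hθ)).trans ?_
  · refine key S e h4 he χ χ' (σ χ) (hs χ hχ).1 (hs χ' hχ').1 (hs χ hχ).2.1 (hs χ' hχ').2.1 (h1 χ hχ) (h3 χ hχ)
      (h ▸ h3 χ' hχ') ?_
    by_contra! k
    exact h6 χ hχ (by rw [Lf_const tp hψ fun a _ => k _ (tZ a), sub_self])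
  · obtain ⟨η', a, b⟩ := h5 χ hχ
    obtain ⟨m, hm⟩ := hθ.isCharacter.classInner_nat (a.comp j.toMonoidHom)
    rw [classInner_indFun_left N θ (h1 χ hχ).isClassFunction,
      show (fun x : N => σ χ x) = θ + fun x => η' (j.toMonoidHom x) from
        funext fun x => (congrFun b (j x)).trans (by rw [same χ hχ]; rfl),
      classInner_add_right, hθ.classInner_self, hm]
    exact_mod_cast (by omega : 1 + m ≠ 0)
  · have : N.relIndex (inertia θ) = Nat.card ((inertia θ).map (eig he)) := by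
      rw [← Subgroup.relIndex_ker, ker_eig]
    rw [this, ← S.card_μ]
    refine Subgroup.card_le_of_le ?_
    rintro _ ⟨p, hp, rfl⟩
    rw [mem_normOne' S.hF]
    by_contra hk
    set k := frob S.hF (eig he p) * eig he p with hk'
    have fk : frob S.hF k = k := by rw [hk', map_mul, frob_frob, mul_comm]
    have k1 : k - 1 ≠ 0 := sub_ne_zero.2 hk
    have m1 : (k - 1)⁻¹ * a0.toAdd.1 ∈ tz (frob S.hF) := by
      have : a0.toAdd.1 + frob S.hF a0.toAdd.1 = 0 := a0.toAdd.2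
      change _ + _ = _
      rw [map_mul, map_inv₀, map_sub, fk, map_one, ← mul_add, this, mul_zero]
    let c : A := Multiplicative.ofAdd ⟨_, m1⟩
    have e1 := conj_tv he p c (a0 * c) (by
      change a0.toAdd.1 + (k - 1)⁻¹ * a0.toAdd.1 = k * ((k - 1)⁻¹ * a0.toAdd.1)
      field_simp; ring)
    have e2 : η χ0 (tr (a0 * c)) = η χ0 (tr c) :=
      (congrArg (η χ0) (Subtype.ext e1.symm)).trans (mem_inertia_iff.1 hp ⟨tp c, tR c⟩)
    rw [h7 χ0 h0, h7 χ0 h0, mul_left_inj' (h2 χ0 h0).apply_one_ne_zero, Units.val_inj, map_mul] at e2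
    exact ha0 (mul_eq_right.1 e2)

end H41.WU
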